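import Mathlib

/-! The fundamental theorem of projective geometry, for a pair of bijections preserving incidence. -/

set_option autoImplicit false

namespace Cfsg.Agent.H56

open scoped LinearAlgebra.Projectivization Matrix
open Projectivization

variable {F : Type*} [Field F] {n : ℕ}

/-- `B` is a point bijection and `D` a hyperplane bijection preserving incidence, written on vectors. -/
structure Incid (B D : ℙ F (Fin n → F) ≃ ℙ F (Fin n → F)) : Prop where
  iff : ∀ P H, orthogonal (B P) (D H) ↔ orthogonal P H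

/-- The class of a vector, junk at zero. -/
noncomputable def pclass (hn : 0 < n) (v : Fin n → F) : ℙ F (Fin n → F) :=
  haveI := Classical.dec (v = 0)
  if h : v = 0 then mk F (Pi.single ⟨0, hn⟩ (1 : F)) (by simp) else mk F v h

theorem pclass_of_ne (hn : 0 < n) {v : Fin n → F} (h : v ≠ 0) : pclass hn v = mk F v h := dif_neg h

theorem single_ne (i : Fin n) : (Pi.single i (1 : F) : Fin n → F) ≠ 0 := by simp

/-- The `i`-th coordinate point. -/
noncomputable def basePt (i : Fin n) : ℙ F (Fin n → F) := mk F (Pi.single i (1 : F)) (single_ne i)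

/-- Bijection of the projective space induced by an invertible matrix. -/
noncomputable def pmat (M : GL (Fin n) F) : ℙ F (Fin n → F) ≃ ℙ F (Fin n → F) where
  toFun := Projectivization.map (Matrix.mulVecLin (M : Matrix (Fin n) (Fin n) F))
    (Matrix.mulVec_injective_of_isUnit M.isUnit)
  invFun := Projectivization.map (Matrix.mulVecLin ((M⁻¹ : GL (Fin n) F) : Matrix (Fin n) (Fin n) F))
    (Matrix.mulVec_injective_of_isUnit M⁻¹.isUnit)
  left_inv P := by
    induction P using Projectivization.ind with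
    | h v hv => exact (mk_eq_mk_iff' F _ _ _ _).mpr ⟨1, by simp [Matrix.mulVec_mulVec]⟩
  right_inv P := by
    induction P using Projectivization.ind with
    | h v hv => exact (mk_eq_mk_iff' F _ _ _ _).mpr ⟨1, by simp [Matrix.mulVec_mulVec]⟩

theorem pmat_mk (M : GL (Fin n) F) (v : Fin n → F) (hv : v ≠ 0) :
    ∃ hv' : (M : Matrix (Fin n) (Fin n) F) *ᵥ v ≠ 0, pmat M (mk F v hv) = mk F _ hv' :=
  ⟨fun h => hv (Matrix.mulVec_injective_of_isUnit M.isUnit (h.trans (Matrix.mulVec_zero _).symm)), rfl⟩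

/-- The contragredient. -/
noncomputable def contra (M : GL (Fin n) F) : GL (Fin n) F where
  val := ((M⁻¹ : GL (Fin n) F) : Matrix (Fin n) (Fin n) F).transpose
  inv := (M : Matrix (Fin n) (Fin n) F).transpose
  val_inv := by rw [← Matrix.transpose_mul, ← Units.val_mul, mul_inv_cancel]; simp
  inv_val := by rw [← Matrix.transpose_mul, ← Units.val_mul, inv_mul_cancel]; simp

theorem contra_dot (M : GL (Fin n) F) (u v : Fin n → F) :
    ((M : Matrix (Fin n) (Fin n) F) *ᵥ u) ⬝ᵥ ((contra M : Matrix (Fin n) (Fin n) F) *ᵥ v) = u ⬝ᵥ v := by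
  show _ ⬝ᵥ (((M⁻¹ : GL (Fin n) F) : Matrix (Fin n) (Fin n) F).transpose *ᵥ v) = _
  rw [Matrix.mulVec_transpose, dotProduct_comm, ← Matrix.dotProduct_mulVec, Matrix.mulVec_mulVec,
    ← Units.val_mul, inv_mul_cancel, Units.val_one, Matrix.one_mulVec, dotProduct_comm]

theorem incid_pmat (M : GL (Fin n) F) : Incid (pmat M) (pmat (contra M)) := ⟨fun P H => by
  induction P using Projectivization.ind with
  | h v hv =>
    induction H using Projectivization.ind with
    | h w hw =>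
      show ((M : Matrix (Fin n) (Fin n) F) *ᵥ v) ⬝ᵥ ((contra M : Matrix (Fin n) (Fin n) F) *ᵥ w) = 0 ↔ _
      rw [contra_dot, orthogonal_mk]⟩

theorem Incid.trans {B D B' D' : ℙ F (Fin n → F) ≃ ℙ F (Fin n → F)} (h : Incid B D) (h' : Incid B' D') :
    Incid (B.trans B') (D.trans D') :=
  ⟨fun P H => (h'.iff (B P) (D H)).trans (h.iff P H)⟩

/-- `vup v w`: the vectors `v` and `w` span the same point. -/
def vup (v w : Fin n → F) : Prop := ∃ c : F, c ≠ 0 ∧ v = c • w

/-- index zero -/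
abbrev z0 (hn : 3 ≤ n) : Fin n := ⟨0, by omega⟩

section Normalised

variable {B D : ℙ F (Fin n → F) ≃ ℙ F (Fin n → F)} (h : Incid B D) (hn : 3 ≤ n)
  (hB : ∀ i, B (basePt i) = basePt i)
  (h11 : ∀ j : Fin n, ∀ hne : (Pi.single (z0 hn) (1 : F) + Pi.single j 1 : Fin n → F) ≠ 0,
    j ≠ z0 hn → B (mk F _ hne) = mk F _ hne)

theorem add_single_ne {i j : Fin n} (hij : i ≠ j) (a : F) :
    (Pi.single i (1 : F) + Pi.single j a : Fin n → F) ≠ 0 := fun h => by
  have := congrFun h i
  simp [hij] at this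

theorem orth_base {v : Fin n → F} (hv : v ≠ 0) (i : Fin n) :
    orthogonal (basePt i) (mk F v hv) ↔ v i = 0 := by
  rw [basePt, orthogonal_mk, single_dotProduct, one_mul]

include h hB in
/-- The images of incident pairs keep their zero coordinates. -/
theorem coord_zero_hyp {v w : Fin n → F} (hv : v ≠ 0) (hw : w ≠ 0) (hD : D (mk F v hv) = mk F w hw)
    (i : Fin n) : w i = 0 ↔ v i = 0 := by
  rw [← orth_base hw, ← orth_base hv, ← hD]
  conv_lhs => rw [← hB i]
  exact h.iff _ _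

include h hB in
theorem base_hyp (i : Fin n) : D (basePt i) = basePt i := by
  obtain ⟨w, hw, hD⟩ : ∃ w, ∃ hw : w ≠ 0, D (mk F (Pi.single i (1 : F)) (single_ne i)) = mk F w hw :=
    ⟨_, rep_nonzero _, (mk_rep _).symm⟩
  rw [basePt, hD, mk_eq_mk_iff']
  have hz := fun j => coord_zero_hyp h hB (single_ne i) hw hD j
  refine ⟨w i, funext fun j => ?_⟩
  rcases eq_or_ne j i with rfl | hj
  · simp
  · simp [(hz j).mpr (by simp [hj]), hj]

include h hB in
theorem coord_zero_pt {v w : Fin n → F} (hv : v ≠ 0) (hw : w ≠ 0) (hD : B (mk F v hv) = mk F w hw)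
    (i : Fin n) : w i = 0 ↔ v i = 0 := by
  rw [← orth_base hw, ← orth_base hv, orthogonal_comm, ← hD, orthogonal_comm (v := basePt i)]
  conv_lhs => rw [← base_hyp h hB i]
  exact h.iff _ _

include h hn hB in
/-- The coordinate maps. -/
theorem exists_sigma (j : Fin n) (hj : j ≠ z0 hn) :
    ∃ σ : F → F, Function.Injective σ ∧ σ 0 = 0 ∧
      ∀ (a : F) (hne : (Pi.single (z0 hn) (1 : F) + Pi.single j a : Fin n → F) ≠ 0)
      (hne' : (Pi.single (z0 hn) (1 : F) + Pi.single j (σ a) : Fin n → F) ≠ 0),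
        B (mk F _ hne) = mk F _ hne' := by
  have key : ∀ a : F, ∃ b : F, B (mk F _ (add_single_ne (Ne.symm hj) a)) = mk F _ (add_single_ne (Ne.symm hj) b) := by
    intro a
    obtain ⟨w, hw, hD⟩ : ∃ w, ∃ hw : w ≠ 0, B (mk F _ (add_single_ne (Ne.symm hj) a)) = mk F w hw :=
      ⟨_, rep_nonzero _, (mk_rep _).symm⟩
    have hz := fun i => coord_zero_pt h hB (add_single_ne (Ne.symm hj) a) hw hD i
    have h0 : w (z0 hn) ≠ 0 := fun h0 => by
      have := (hz (z0 hn)).mp h0
      simp [Ne.symm hj] at this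
    refine ⟨w j / w (z0 hn), ?_⟩
    rw [hD, mk_eq_mk_iff']
    refine ⟨w (z0 hn), funext fun i => ?_⟩
    rcases eq_or_ne i (z0 hn) with rfl | hi
    · simp [Ne.symm hj]
    rcases eq_or_ne i j with rfl | hij
    · simp [hi, mul_div_cancel₀ _ h0]
    · simp [hi, hij, (hz i).mpr (by simp [hi, hij])]
  choose σ hσ using key
  have hinj : Function.Injective σ := fun a b hab => by
    have h1 := hσ a
    simp only [hab] at h1
    have := B.injective (h1.trans (hσ b).symm)
    rw [mk_eq_mk_iff'] at this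
    obtain ⟨c, hc⟩ := this
    have hc0 := congrFun hc (z0 hn)
    have hcj := congrFun hc j
    simp [hj, Ne.symm hj] at hc0 hcj
    subst hc0
    simpa using hcj.symm
  refine ⟨σ, hinj, ?_, fun a _ _ => hσ a⟩
  have := hσ 0
  have hB0 := hB (z0 hn)
  simp only [Pi.single_zero, add_zero] at this
  rw [show B (mk F (Pi.single (z0 hn) (1 : F)) (single_ne _)) = basePt (z0 hn) from hB0, basePt,
    mk_eq_mk_iff'] at this
  obtain ⟨c, hc⟩ := this
  have hc0 := congrFun hc (z0 hn)
  have hcj := congrFun hc j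
  simp [hj, Ne.symm hj] at hc0 hcj
  subst hc0
  simpa using hcj

include h hn hB h11 in
/-- A normalised incidence bijection is given by a field automorphism. -/
theorem exists_ringEquiv [Finite F] :
    ∃ σ : F ≃+* F, ∀ (v : Fin n → F) (hv : v ≠ 0) (hv' : (fun i => σ (v i)) ≠ 0),
      B (mk F v hv) = mk F _ hv' := by
  have ex : ∀ j, ∃ σ : F → F, j ≠ z0 hn → Function.Injective σ ∧ σ 0 = 0 ∧
      ∀ (a : F) (hne : (Pi.single (z0 hn) (1 : F) + Pi.single j a : Fin n → F) ≠ 0)
      (hne' : (Pi.single (z0 hn) (1 : F) + Pi.single j (σ a) : Fin n → F) ≠ 0),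
        B (mk F _ hne) = mk F _ hne' := fun j => by
    by_cases hj : j = z0 hn
    · exact ⟨id, fun h => absurd hj h⟩
    · obtain ⟨σ, hσ⟩ := exists_sigma h hn hB j hj
      exact ⟨σ, fun _ => hσ⟩
  choose s hs using ex
  have hs1 : ∀ j, j ≠ z0 hn → s j 1 = 1 := by
    intro j hj
    have h1 := (hs j hj).2.2 1 (add_single_ne (Ne.symm hj) 1) (add_single_ne (Ne.symm hj) _)
    rw [h11 j _ hj, mk_eq_mk_iff'] at h1
    obtain ⟨c, hc⟩ := h1
    have hc0 := congrFun hc (z0 hn)
    have hcj := congrFun hc j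
    simp [hj, Ne.symm hj] at hc0 hcj
    subst hc0
    simpa using hcj
  -- points with nonzero zeroth coordinate
  have hmain : ∀ (v w : Fin n → F) (hv : v ≠ 0) (hw : w ≠ 0), v (z0 hn) = 1 → B (mk F v hv) = mk F w hw →
      w (z0 hn) ≠ 0 ∧ ∀ j, j ≠ z0 hn → w j = s j (v j) * w (z0 hn) := by
    intro v w hv hw hv0 hB'
    refine ⟨fun h0 => one_ne_zero (hv0 ▸ (coord_zero_pt h hB hv hw hB' _).mp h0), fun j hj => ?_⟩
    set u : Fin n → F := Pi.single (z0 hn) (v j) + Pi.single j (-1) with hu_def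
    have hu : u ≠ 0 := fun h => by
      have := congrFun h j
      simp [u, hj] at this
    obtain ⟨u', hu', hD⟩ : ∃ u', ∃ hu' : u' ≠ 0, D (mk F u hu) = mk F u' hu' :=
      ⟨_, rep_nonzero _, (mk_rep _).symm⟩
    have hz := fun i => coord_zero_hyp h hB hu hu' hD i
    have hoth : ∀ i, i ≠ z0 hn → i ≠ j → u' i = 0 := fun i h1 h2 => (hz i).mpr (by simp [u, h1, h2])
    have huj : u' j ≠ 0 := fun h0 => by
      have := (hz j).mp h0
      simp [u, hj] at this
    have hdot : ∀ x : Fin n → F, x ⬝ᵥ u' = x (z0 hn) * u' (z0 hn) + x j * u' j := by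
      intro x
      exact Fintype.sum_eq_add (z0 hn) j (Ne.symm hj)
        (fun i hi => by rw [hoth i hi.1 hi.2, mul_zero])
    have hdot' : ∀ x : Fin n → F, x ⬝ᵥ u = x (z0 hn) * v j - x j := by
      intro x
      simp [u, dotProduct_add, sub_eq_add_neg]
    have e1 : u' (z0 hn) + s j (v j) * u' j = 0 := by
      have h1 := (h.iff (mk F _ (add_single_ne (Ne.symm hj) (v j))) (mk F u hu)).mpr (by
        rw [orthogonal_mk, hdot']; simp [hj, Ne.symm hj])
      rw [hD, (hs j hj).2.2 (v j) _ (add_single_ne (Ne.symm hj) _), orthogonal_mk, hdot] at h1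
      simpa [hj, Ne.symm hj] using h1
    have e2 : w (z0 hn) * u' (z0 hn) + w j * u' j = 0 := by
      have h1 := (h.iff (mk F v hv) (mk F u hu)).mpr (by rw [orthogonal_mk, hdot', hv0]; ring)
      rw [hD, hB', orthogonal_mk, hdot] at h1
      exact h1
    exact mul_right_cancel₀ huj (by linear_combination e2 - w (z0 hn) * e1)
  -- an affine point, with its image
  have img : ∀ v : Fin n → F, v (z0 hn) = 1 → ∀ hv : v ≠ 0, ∀ hw : Function.update (fun j => s j (v j)) (z0 hn) 1 ≠ 0,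
      B (mk F v hv) = mk F _ hw := by
    intro v hv0 hv hw
    obtain ⟨w, hw', hB'⟩ : ∃ w, ∃ hw : w ≠ 0, B (mk F v hv) = mk F w hw := ⟨_, rep_nonzero _, (mk_rep _).symm⟩
    obtain ⟨h0, hj⟩ := hmain v w hv hw' hv0 hB'
    rw [hB', mk_eq_mk_iff']
    refine ⟨w (z0 hn), funext fun j => ?_⟩
    rcases eq_or_ne j (z0 hn) with rfl | hj'
    · simp
    · simp [hj', hj j hj', mul_comm]
  have hupd : ∀ (g : Fin n → F), Function.update g (z0 hn) 1 ≠ 0 := fun g h => by
    have := congrFun h (z0 hn)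
    simp at this
  -- the hyperplanes `e i - c e j` inside the hyperplane at infinity
  have hcov : ∀ i j, i ≠ z0 hn → j ≠ z0 hn → i ≠ j → ∀ (u u' : Fin n → F) (hu : u ≠ 0) (hu' : u' ≠ 0) (c : F),
      u = Pi.single i c + Pi.single j (-1) → D (mk F u hu) = mk F u' hu' →
      (∀ k, k ≠ i → k ≠ j → u' k = 0) ∧ u' j ≠ 0 ∧ (∀ a, s i a * u' i + s j (c * a) * u' j = 0) := by
    intro i j hi hj hij u u' hu hu' c hu_eq hD
    have hz := fun k => coord_zero_hyp h hB hu hu' hD k
    have hoth : ∀ k, k ≠ i → k ≠ j → u' k = 0 := fun k h1 h2 => (hz k).mpr (by simp [hu_eq, h1, h2])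
    refine ⟨hoth, fun h0 => ?_, fun a => ?_⟩
    · have := (hz j).mp h0
      simp [hu_eq, Ne.symm hij] at this
    let v : Fin n → F := Pi.single (z0 hn) 1 + (Pi.single i a + Pi.single j (c * a))
    have hv0 : v (z0 hn) = 1 := by simp [v, Ne.symm hi, Ne.symm hj]
    have hv : v ≠ 0 := fun h => by rw [h] at hv0; simp at hv0
    have h1 := (h.iff (mk F v hv) (mk F u hu)).mpr (by
      rw [orthogonal_mk, hu_eq, dotProduct_add, dotProduct_single, dotProduct_single]
      simp [v, hi, hj, hij, Ne.symm hij]; ring)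
    rw [hD, img v hv0 hv (hupd _), orthogonal_mk] at h1
    rw [dotProduct, Fintype.sum_eq_add i j hij (fun k hk => by rw [hoth k hk.1 hk.2, mul_zero])] at h1
    simpa [v, hi, hj, hij, Ne.symm hij] using h1
  have hsame : ∀ i j, i ≠ z0 hn → j ≠ z0 hn → ∀ a, s i a = s j a := by
    intro i j hi hj a
    rcases eq_or_ne i j with rfl | hij
    · rfl
    have hu : (Pi.single i (1 : F) + Pi.single j (-1) : Fin n → F) ≠ 0 := add_single_ne hij _
    obtain ⟨-, hne, hc⟩ := hcov i j hi hj hij _ _ hu (rep_nonzero _) 1 rfl (mk_rep _).symm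
    have e1 := hc 1
    have e2 := hc a
    rw [mul_one, hs1 i hi, hs1 j hj] at e1
    rw [one_mul] at e2
    refine mul_right_cancel₀ hne ?_
    linear_combination s i a * e1 - e2
  let i1 : Fin n := ⟨1, by omega⟩
  let i2 : Fin n := ⟨2, by omega⟩
  have hi1 : i1 ≠ z0 hn := by simp [i1, z0, Fin.ext_iff]
  have hi2 : i2 ≠ z0 hn := by simp [i2, z0, Fin.ext_iff]
  have h12 : i1 ≠ i2 := by simp [i1, i2, Fin.ext_iff]
  let σ := s i1
  have hmul : ∀ a b, σ (a * b) = σ a * σ b := by
    intro c a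
    have hu : (Pi.single i1 c + Pi.single i2 (-1) : Fin n → F) ≠ 0 := fun h => by
      have := congrFun h i2
      simp [Ne.symm h12] at this
    obtain ⟨-, hne, hc⟩ := hcov i1 i2 hi1 hi2 h12 _ _ hu (rep_nonzero _) c rfl (mk_rep _).symm
    have e1 := hc 1
    have e2 := hc a
    rw [mul_one, hs1 i1 hi1, ← hsame i1 i2 hi1 hi2] at e1
    rw [← hsame i1 i2 hi1 hi2] at e2
    refine mul_right_cancel₀ hne ?_
    linear_combination e2 - σ a * e1
  -- the point at infinity e₁ + e₂
  have hinf : ∃ hne : (Pi.single i1 (1 : F) + Pi.single i2 1 : Fin n → F) ≠ 0,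
      B (mk F _ hne) = mk F _ hne := by
    refine ⟨add_single_ne h12 1, ?_⟩
    obtain ⟨w, hw, hB'⟩ : ∃ w, ∃ hw : w ≠ 0, B (mk F _ (add_single_ne (F := F) h12 1)) = mk F w hw :=
      ⟨_, rep_nonzero _, (mk_rep _).symm⟩
    have hz := fun i => coord_zero_pt h hB (add_single_ne h12 1) hw hB' i
    have hu : (Pi.single i1 (1 : F) + Pi.single i2 (-1) : Fin n → F) ≠ 0 := add_single_ne h12 _
    obtain ⟨hoth, hne, hc⟩ := hcov i1 i2 hi1 hi2 h12 _ _ hu (rep_nonzero _) 1 rfl (mk_rep _).symm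
    have e1 := hc 1
    rw [mul_one, hs1 i1 hi1, hs1 i2 hi2, one_mul, one_mul] at e1
    have h1 := (h.iff (mk F _ (add_single_ne (F := F) h12 1)) (mk F _ hu)).mpr (by
      rw [orthogonal_mk]; simp [dotProduct_add, h12, Ne.symm h12])
    rw [hB', ← mk_rep (D (mk F _ hu)), orthogonal_mk, dotProduct,
      Fintype.sum_eq_add i1 i2 h12 (fun k hk => by rw [hoth k hk.1 hk.2, mul_zero])] at h1
    have heq : w i1 = w i2 := mul_right_cancel₀ hne (by linear_combination w i1 * e1 - h1)
    rw [hB', mk_eq_mk_iff']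
    refine ⟨w i1, funext fun k => ?_⟩
    rcases eq_or_ne k i1 with rfl | hk1
    · simp [h12]
    rcases eq_or_ne k i2 with rfl | hk2
    · simp [Ne.symm h12, heq]
    · simp [hk1, hk2, (hz k).mpr (by simp [hk1, hk2])]
  have hadd : ∀ a b, σ (a + b) = σ a + σ b := by
    intro a b
    obtain ⟨hne, hfix⟩ := hinf
    let u : Fin n → F := Pi.single (z0 hn) b + (Pi.single i1 1 + Pi.single i2 (-1))
    have hu : u ≠ 0 := fun h => by
      have := congrFun h i1
      simp [u, hi1, h12] at this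
    obtain ⟨u', hu', hD⟩ : ∃ u', ∃ hu' : u' ≠ 0, D (mk F u hu) = mk F u' hu' :=
      ⟨_, rep_nonzero _, (mk_rep _).symm⟩
    have hz := fun k => coord_zero_hyp h hB hu hu' hD k
    have hoth : ∀ k, k ≠ z0 hn → k ≠ i1 → k ≠ i2 → u' k = 0 := fun k h0 h1 h2 =>
      (hz k).mpr (by simp [u, h0, h1, h2])
    have hne1 : u' i1 ≠ 0 := fun h0 => by
      have := (hz i1).mp h0
      simp [u, hi1, h12] at this
    have hdot : ∀ x : Fin n → F, x ⬝ᵥ u' = x (z0 hn) * u' (z0 hn) + (x i1 * u' i1 + x i2 * u' i2) := by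
      intro x
      rw [dotProduct, ← Finset.sum_subset (Finset.subset_univ ({z0 hn, i1, i2} : Finset (Fin n)))
        (fun k _ hk => by
          simp only [Finset.mem_insert, Finset.mem_singleton, not_or] at hk
          rw [hoth k hk.1 hk.2.1 hk.2.2, mul_zero])]
      simp [Ne.symm hi1, Ne.symm hi2, h12]
    have hdot' : ∀ x : Fin n → F, x ⬝ᵥ u = x (z0 hn) * b + (x i1 - x i2) := by
      intro x
      simp [u, dotProduct_add, sub_eq_add_neg]
    have e0 : u' i1 + u' i2 = 0 := by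
      have h1 := (h.iff (mk F _ hne) (mk F u hu)).mpr (by
        rw [orthogonal_mk, hdot']; simp [hi1, hi2, Ne.symm hi1, Ne.symm hi2, h12, Ne.symm h12])
      rw [hfix, hD, orthogonal_mk, hdot] at h1
      simpa [Ne.symm hi1, Ne.symm hi2, h12, Ne.symm h12] using h1
    have eb : ∀ x : F, u' (z0 hn) + (σ x * u' i1 + σ (x + b) * u' i2) = 0 := by
      intro x
      let v : Fin n → F := Pi.single (z0 hn) 1 + (Pi.single i1 x + Pi.single i2 (x + b))
      have hv0 : v (z0 hn) = 1 := by simp [v, Ne.symm hi1, Ne.symm hi2]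
      have hv : v ≠ 0 := fun h => by rw [h] at hv0; simp at hv0
      have h1 := (h.iff (mk F v hv) (mk F u hu)).mpr (by
        rw [orthogonal_mk, hdot', hv0]; simp [v, hi1, hi2, h12, Ne.symm h12])
      rw [hD, img v hv0 hv (hupd _), orthogonal_mk, hdot] at h1
      simpa [v, hi1, hi2, h12, Ne.symm h12, σ, ← hsame i1 i2 hi1 hi2] using h1
    have eb0 := eb 0
    have eba := eb a
    rw [zero_add, show σ 0 = 0 from (hs i1 hi1).2.1] at eb0
    refine mul_right_cancel₀ hne1 ?_
    linear_combination eb0 - eba + (σ (a + b) - σ b) * e0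
  have hbij : Function.Bijective σ := Finite.injective_iff_bijective.mp (hs i1 hi1).1
  refine ⟨{ Equiv.ofBijective σ hbij with map_mul' := hmul, map_add' := hadd }, fun v hv hv' => ?_⟩
  have hv'' : (fun i => σ (v i)) ≠ 0 := hv'
  show B (mk F v hv) = mk F (fun i => σ (v i)) hv''
  by_cases h0 : v (z0 hn) = 0
  · obtain ⟨w, hw, hB'⟩ : ∃ w, ∃ hw : w ≠ 0, B (mk F v hv) = mk F w hw := ⟨_, rep_nonzero _, (mk_rep _).symm⟩
    have hz := fun i => coord_zero_pt h hB hv hw hB' i
    obtain ⟨k, hk⟩ := Function.ne_iff.mp hv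
    have hk0 : k ≠ z0 hn := fun h => hk (h ▸ h0)
    have hσk : σ (v k) ≠ 0 := fun h => hk ((hs i1 hi1).1 (h.trans (hs i1 hi1).2.1.symm))
    rw [hB', mk_eq_mk_iff']
    refine ⟨w k / σ (v k), funext fun j => ?_⟩
    rcases eq_or_ne j k with rfl | hjk
    · simp [div_mul_cancel₀ _ hσk]
    rcases eq_or_ne j (z0 hn) with rfl | hj0
    · simp [h0, (hs i1 hi1).2.1, (hz (z0 hn)).mpr h0, σ]
    have hu : (Pi.single k (v j / v k) + Pi.single j (-1) : Fin n → F) ≠ 0 := fun h => by
      have := congrFun h j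
      simp [hjk] at this
    obtain ⟨hoth, hne, hc⟩ := hcov k j hk0 hj0 (Ne.symm hjk) _ _ hu (rep_nonzero _) _ rfl (mk_rep _).symm
    have h1 := (h.iff (mk F v hv) (mk F _ hu)).mpr (by
      rw [orthogonal_mk, dotProduct_add, dotProduct_single, dotProduct_single, mul_div_cancel₀ _ hk]
      ring)
    rw [hB', ← mk_rep (D (mk F _ hu)), orthogonal_mk, dotProduct,
      Fintype.sum_eq_add k j (Ne.symm hjk) (fun i hi => by rw [hoth i hi.1 hi.2, mul_zero])] at h1
    have e := hc (v k)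
    rw [div_mul_cancel₀ _ hk, hsame k i1 hk0 hi1, hsame j i1 hj0 hi1] at e
    simp only [Pi.smul_apply, smul_eq_mul]
    show w k / σ (v k) * σ (v j) = w j
    rw [div_mul_eq_mul_div, div_eq_iff hσk]
    refine mul_right_cancel₀ hne ?_
    linear_combination w k * e - σ (v k) * h1
  · have hv1 : (v (z0 hn))⁻¹ • v ≠ 0 := smul_ne_zero (inv_ne_zero h0) hv
    have h01 : ((v (z0 hn))⁻¹ • v) (z0 hn) = 1 := by simp [h0]
    have h1 := img _ h01 hv1 (hupd _)
    rw [show mk F ((v (z0 hn))⁻¹ • v) hv1 = mk F v hv from (mk_eq_mk_iff' F _ _ _ _).mpr ⟨_, rfl⟩] at h1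
    rw [h1, mk_eq_mk_iff']
    refine ⟨σ (v (z0 hn))⁻¹, funext fun j => ?_⟩
    rcases eq_or_ne j (z0 hn) with rfl | hj
    · simp [← hmul, inv_mul_cancel₀ h0, σ, hs1 i1 hi1]
    · simp [hj, ← hmul, hsame j i1 hj hi1, σ]

end Normalised

/-- The fundamental theorem of projective geometry. -/
theorem exists_semilinear [Finite F] (hn : 3 ≤ n) {B D : ℙ F (Fin n → F) ≃ ℙ F (Fin n → F)}
    (h : Incid B D) :
    ∃ (g : GL (Fin n) F) (σ : F ≃+* F), ∀ (v : Fin n → F) (hv : v ≠ 0)
      (hv' : (g : Matrix (Fin n) (Fin n) F) *ᵥ (fun i => σ (v i)) ≠ 0), B (mk F v hv) = mk F _ hv' := by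
  classical
  let b : Fin n → Fin n → F := fun i => (B (basePt i)).rep
  let M : Matrix (Fin n) (Fin n) F := Matrix.of fun r i => b i r
  have hM : M.det ≠ 0 := by
    intro hdet
    obtain ⟨f, hf, hfM⟩ := Matrix.exists_vecMul_eq_zero_iff.mpr hdet
    obtain ⟨u, hu, hD⟩ : ∃ u, ∃ hu : u ≠ 0, D (mk F u hu) = mk F f hf :=
      ⟨_, rep_nonzero (D.symm (mk F f hf)), by rw [mk_rep, Equiv.apply_symm_apply]⟩
    apply hu
    funext i
    have h1 := (h.iff (basePt i) (mk F u hu)).mp (by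
      rw [hD, ← mk_rep (B (basePt i)), orthogonal_mk, dotProduct_comm]
      exact congrFun hfM i)
    exact (orth_base hu i).mp h1
  let g : GL (Fin n) F := Matrix.GeneralLinearGroup.mkOfDetNeZero M hM
  let B1 := B.trans (pmat g⁻¹)
  have h1 : Incid B1 (D.trans (pmat (contra g⁻¹))) := h.trans (incid_pmat g⁻¹)
  have hB1 : ∀ i, B1 (basePt i) = basePt i := by
    intro i
    have : B (basePt i) = pmat g (basePt i) := by
      obtain ⟨hv', he⟩ := pmat_mk g _ (single_ne (F := F) i)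
      rw [basePt, he, ← mk_rep (B (mk F _ (single_ne i))), mk_eq_mk_iff']
      exact ⟨1, by rw [one_smul]; funext r; simp [g, M, b, basePt]⟩
    show pmat g⁻¹ (B (basePt i)) = _
    rw [this]
    exact (pmat g).symm_apply_apply _
  let z := z0 hn
  have key : ∀ j, j ≠ z → ∃ c : Fˣ,
      ∀ (hne : (Pi.single z (1 : F) + Pi.single j 1 : Fin n → F) ≠ 0) (hne' : (Pi.single z (1 : F) + Pi.single j (c : F) : Fin n → F) ≠ 0),
        B1 (mk F _ hne) = mk F _ hne' := by
    intro j hj
    obtain ⟨σ, hinj, h0, hσ⟩ := exists_sigma h1 hn hB1 j hj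
    exact ⟨Units.mk0 (σ 1) (fun he => one_ne_zero (hinj (he.trans h0.symm))), fun a b => hσ 1 a b⟩
  choose c hc using key
  let d : Fin n → Fˣ := fun j => if hj : j = z then 1 else c j hj
  let dg : GL (Fin n) F := Matrix.GeneralLinearGroup.mkOfDetNeZero (Matrix.diagonal fun j => (d j : F))
    (by rw [Matrix.det_diagonal]; exact Finset.prod_ne_zero_iff.mpr fun i _ => (d i).ne_zero)
  let B2 := B1.trans (pmat dg⁻¹)
  have h2 : Incid B2 ((D.trans (pmat (contra g⁻¹))).trans (pmat (contra dg⁻¹))) := h1.trans (incid_pmat dg⁻¹)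
  have hfix : ∀ (v : Fin n → F) (hv : v ≠ 0) (w : Fin n → F) (hw : w ≠ 0),
      B1 (mk F v hv) = mk F w hw → (∀ j, w j = d j * v j) → B2 (mk F v hv) = mk F v hv := by
    intro v hv w hw hB' hwv
    have : B1 (mk F v hv) = pmat dg (mk F v hv) := by
      obtain ⟨hv', he⟩ := pmat_mk dg v hv
      rw [hB', he, mk_eq_mk_iff']
      exact ⟨1, by funext j; simp [dg, Matrix.mulVec_diagonal, hwv j]⟩
    show pmat dg⁻¹ (B1 _) = _
    rw [this]
    exact (pmat dg).symm_apply_apply _
  obtain ⟨σ, hσ⟩ := exists_ringEquiv h2 hn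
    (fun i => by
      refine hfix _ (single_ne i) ((d i : F) • Pi.single i 1) (smul_ne_zero (d i).ne_zero (single_ne i)) ?_ ?_
      · rw [← basePt, hB1, basePt, mk_eq_mk_iff']
        exact ⟨((d i)⁻¹ : Fˣ), by rw [smul_smul, Units.inv_mul, one_smul]⟩
      · intro j; rcases eq_or_ne j i with rfl | hji <;> simp [*])
    (fun j hne hj => by
      refine hfix _ hne _ (add_single_ne (Ne.symm hj) _) (hc j hj hne (add_single_ne (Ne.symm hj) _)) ?_
      intro k
      rcases eq_or_ne k z with rfl | hk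
      · simp [d, Ne.symm hj, z]
      rcases eq_or_ne k j with rfl | hkj
      · simp [d, hk, hj, z]
      · simp [hk, hkj, z])
  refine ⟨g * dg, σ, fun v hv hv' => ?_⟩
  have hσv : (fun i => σ (v i)) ≠ 0 := fun h0 => hv' (by rw [h0, Matrix.mulVec_zero])
  have : B (mk F v hv) = pmat g (pmat dg (B2 (mk F v hv))) := by
    show _ = pmat g (pmat dg ((pmat dg).symm ((pmat g).symm (B (mk F v hv)))))
    rw [Equiv.apply_symm_apply, Equiv.apply_symm_apply]
  obtain ⟨h1', e1⟩ := pmat_mk dg _ hσv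
  obtain ⟨h2', e2⟩ := pmat_mk g _ h1'
  rw [this, hσ v hv hσv, e1, e2, mk_eq_mk_iff']
  exact ⟨1, by rw [one_smul]; simp [Matrix.mulVec_mulVec]⟩

end Cfsg.Agent.H56
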