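import Mathlib
import Cfsg.Agent.Linear.Unitriangular
import Cfsg.Agent.H56.Projective

/-! Transvection groups in `PSL_n(F)`. -/

set_option autoImplicit false

namespace Cfsg.Agent.H56

open Matrix
open scoped MatrixGroups

variable {F : Type*} [Field F] {n : ℕ}

/-- Shorthand for the group. -/
abbrev SLn (n : ℕ) (F : Type*) [Field F] : Type _ := Matrix.SpecialLinearGroup (Fin n) F

/-- Shorthand for the projective group. -/
abbrev PSLn (n : ℕ) (F : Type*) [Field F] : Type _ := Matrix.ProjectiveSpecialLinearGroup (Fin n) F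

theorem cmul (s t : SLn n F) :
    ((s * t : SLn n F) : Matrix (Fin n) (Fin n) F) = (s : Matrix (Fin n) (Fin n) F) * t := rfl

theorem cone : ((1 : SLn n F) : Matrix (Fin n) (Fin n) F) = 1 := rfl

/-- The projection. -/
def toP : SLn n F →* PSLn n F := QuotientGroup.mk' (Subgroup.center (SLn n F))

theorem toP_surjective : Function.Surjective (toP : SLn n F → PSLn n F) := QuotientGroup.mk'_surjective _

theorem toP_eq_iff {s t : SLn n F} :
    toP s = toP t ↔ ∃ c : F, c ^ n = 1 ∧ (t : Matrix (Fin n) (Fin n) F) = c • (s : Matrix (Fin n) (Fin n) F) := by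
  rw [toP, QuotientGroup.mk'_eq_mk']
  constructor
  · rintro ⟨z, hz, rfl⟩
    obtain ⟨c, hc, hz⟩ := Matrix.SpecialLinearGroup.mem_center_iff.mp hz
    refine ⟨c, by simpa using hc, ?_⟩
    rw [cmul, ← hz, Matrix.scalar_apply, ← Matrix.smul_one_eq_diagonal, mul_smul_comm, mul_one]
  · rintro ⟨c, hc, ht⟩
    refine ⟨s⁻¹ * t, Matrix.SpecialLinearGroup.mem_center_iff.mpr ⟨c, by simpa using hc, ?_⟩, mul_inv_cancel_left s t⟩
    rw [cmul, ht, mul_smul_comm, ← cmul, inv_mul_cancel,
      cone, Matrix.scalar_apply, ← Matrix.smul_one_eq_diagonal]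

theorem vecMulVec_mul_self (v f : Fin n → F) (h : f ⬝ᵥ v = 0) : vecMulVec v f * vecMulVec v f = 0 := by
  rw [vecMulVec_mul_vecMulVec, h, zero_smul]
  ext i j
  simp [vecMulVec]

theorem det_one_add_vec (v f : Fin n → F) : (1 + vecMulVec v f).det = 1 + f ⬝ᵥ v := by
  rw [vecMulVec_eq (Fin 1)]
  exact Matrix.det_one_add_replicateCol_mul_replicateRow (ι := Fin 1) v f

theorem det_tv (v f : Fin n → F) (h : f ⬝ᵥ v = 0) (a : F) : (1 + a • vecMulVec v f).det = 1 := by
  rw [← smul_vecMulVec, det_one_add_vec, dotProduct_smul, h, smul_zero, add_zero]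

/-- The transvection. -/
def tv (v f : Fin n → F) (h : f ⬝ᵥ v = 0) (a : F) : SLn n F :=
  ⟨1 + a • vecMulVec v f, det_tv v f h a⟩

theorem tv_coe (v f : Fin n → F) (h : f ⬝ᵥ v = 0) (a : F) :
    (tv v f h a : Matrix (Fin n) (Fin n) F) = 1 + a • vecMulVec v f := rfl

theorem tv_add (v f : Fin n → F) (h : f ⬝ᵥ v = 0) (a b : F) : tv v f h (a + b) = tv v f h a * tv v f h b := by
  apply Subtype.ext
  rw [cmul, tv_coe, tv_coe, tv_coe, add_smul, mul_add, add_mul, add_mul, one_mul,
    mul_one, one_mul, smul_mul_assoc, mul_smul_comm, vecMulVec_mul_self v f h, smul_zero, smul_zero, add_zero,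
    add_assoc]

theorem tv_zero (v f : Fin n → F) (h : f ⬝ᵥ v = 0) : tv v f h 0 = 1 := by
  apply Subtype.ext
  rw [tv_coe, zero_smul, add_zero, cone]

theorem tv_inv (v f : Fin n → F) (h : f ⬝ᵥ v = 0) (a : F) : (tv v f h a)⁻¹ = tv v f h (-a) :=
  inv_eq_of_mul_eq_one_right (by rw [← tv_add, add_neg_cancel, tv_zero])

theorem conj_dot (s : SLn n F) (v f : Fin n → F) (h : f ⬝ᵥ v = 0) :
    (f ᵥ* ((s⁻¹ : SLn n F) : Matrix (Fin n) (Fin n) F)) ⬝ᵥ ((s : Matrix (Fin n) (Fin n) F) *ᵥ v) = 0 := by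
  rw [← dotProduct_mulVec, mulVec_mulVec, ← cmul, inv_mul_cancel,
    cone, one_mulVec, h]

theorem conj_tv (s : SLn n F) (v f : Fin n → F) (h : f ⬝ᵥ v = 0) (a : F) :
    s * tv v f h a * s⁻¹ = tv _ _ (conj_dot s v f h) a := by
  apply Subtype.ext
  rw [cmul, cmul, tv_coe, tv_coe, mul_add, mul_one, add_mul,
    ← cmul, mul_inv_cancel, cone, mul_smul_comm, smul_mul_assoc,
    mul_vecMulVec, vecMulVec_mul]

/-- The root group. -/
def root (v f : Fin n → F) : Subgroup (PSLn n F) :=
  Subgroup.closure {x | ∃ (s : SLn n F) (a : F),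
    (s : Matrix (Fin n) (Fin n) F) = 1 + a • vecMulVec v f ∧ toP s = x}

theorem mem_root {v f : Fin n → F} (h : f ⬝ᵥ v = 0) {x : PSLn n F} :
    x ∈ root v f ↔ ∃ a, toP (tv v f h a) = x := by
  constructor
  · intro hx
    induction hx using Subgroup.closure_induction with
    | mem x hx => obtain ⟨s, a, hs, rfl⟩ := hx; exact ⟨a, congrArg toP (Subtype.ext hs.symm)⟩
    | one => exact ⟨0, by rw [tv_zero, map_one]⟩
    | mul x y _ _ hx hy =>
      obtain ⟨a, rfl⟩ := hx; obtain ⟨b, rfl⟩ := hy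
      exact ⟨a + b, by rw [tv_add, map_mul]⟩
    | inv x _ hx => obtain ⟨a, rfl⟩ := hx; exact ⟨-a, by rw [← tv_inv, map_inv]⟩
  · rintro ⟨a, rfl⟩
    exact Subgroup.subset_closure ⟨_, a, rfl, rfl⟩

theorem vecMulVec_eq_smul {v v' f f' : Fin n → F} (hv : v ≠ 0) (hf : f ≠ 0) {b : F}
    (h : vecMulVec v f = b • vecMulVec v' f') : vup v v' ∧ vup f f' := by
  obtain ⟨i, hi⟩ := Function.ne_iff.mp hv
  obtain ⟨j, hj⟩ := Function.ne_iff.mp hf
  have e : ∀ k l, v k * f l = b * (v' k * f' l) := fun k l => congrFun (congrFun h k) l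
  have hb : b * (v' i * f' j) ≠ 0 := e i j ▸ mul_ne_zero hi hj
  obtain ⟨hb, h2⟩ := mul_ne_zero_iff.mp hb
  obtain ⟨hv'i, hf'j⟩ := mul_ne_zero_iff.mp h2
  refine ⟨⟨b * f' j / f j, div_ne_zero (mul_ne_zero hb hf'j) hj, funext fun k => ?_⟩,
    ⟨b * v' i / v i, div_ne_zero (mul_ne_zero hb hv'i) hi, funext fun l => ?_⟩⟩
  · rw [Pi.smul_apply, smul_eq_mul, div_mul_eq_mul_div, eq_div_iff hj, e]; ring
  · rw [Pi.smul_apply, smul_eq_mul, div_mul_eq_mul_div, eq_div_iff hi, mul_comm, e]; ring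

/-- A nonzero vector killed by two functionals. -/
theorem exists_perp2 (hn : 3 ≤ n) (f f' : Fin n → F) : ∃ w, w ≠ 0 ∧ f ⬝ᵥ w = 0 ∧ f' ⬝ᵥ w = 0 := by
  let φ : (Fin n → F) →ₗ[F] (Fin 2 → F) := Matrix.mulVecLin (Matrix.of ![f, f'])
  have h := φ.finrank_range_add_finrank_ker
  have h1 : Module.finrank F (LinearMap.range φ) ≤ 2 := by
    simpa using Submodule.finrank_le (LinearMap.range φ)
  rw [Module.finrank_fintype_fun_eq_card, Fintype.card_fin] at h
  obtain ⟨w, hw, hw0⟩ := Submodule.exists_mem_ne_zero_of_ne_bot (p := LinearMap.ker φ) (fun hb => by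
    rw [hb, finrank_bot] at h; omega)
  exact ⟨w, hw0, congrFun (LinearMap.mem_ker.mp hw) 0, congrFun (LinearMap.mem_ker.mp hw) 1⟩

theorem toP_tv_inj (hn : 2 ≤ n) {v f v' f' : Fin n → F} (h : f ⬝ᵥ v = 0) (h' : f' ⬝ᵥ v' = 0) {a a' : F}
    (he : toP (tv v f h a) = toP (tv v' f' h' a')) : a • vecMulVec v f = a' • vecMulVec v' f' := by
  obtain ⟨c, hc, hm⟩ := toP_eq_iff.mp he
  rw [tv_coe, tv_coe] at hm
  suffices c = 1 by
    rw [this, one_smul] at hm
    exact (add_left_cancel hm).symm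
  rcases Nat.lt_or_ge n 3 with h3 | h3
  · obtain rfl : n = 2 := by omega
    have ht := congrArg Matrix.trace hm
    have h0 : ∀ (u g : Fin 2 → F), g ⬝ᵥ u = 0 → Matrix.trace (vecMulVec u g) = 0 := fun u g hg => by
      rw [Matrix.trace_vecMulVec, dotProduct_comm, hg]
    simp [Matrix.trace_add, Matrix.trace_smul, h0 v f h, h0 v' f' h'] at ht
    by_cases h2 : (2 : F) = 0
    · have hsq : (c - 1) ^ 2 = 0 := by linear_combination hc + (1 - c) * h2
      exact sub_eq_zero.mp (pow_eq_zero_iff two_ne_zero |>.mp hsq)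
    · exact mul_right_cancel₀ h2 (by linear_combination -ht)
  · obtain ⟨w, hw, h1, h2⟩ := exists_perp2 h3 f f'
    have := congrArg (fun M : Matrix (Fin n) (Fin n) F => M *ᵥ w) hm
    simp [Matrix.smul_mulVec, Matrix.add_mulVec, Matrix.vecMulVec_mulVec, h1, h2] at this
    obtain ⟨i, hi⟩ := Function.ne_iff.mp hw
    exact mul_right_cancel₀ hi (by simpa using (congrFun this i).symm)

theorem tv_injective (hn : 2 ≤ n) {v f : Fin n → F} (hv : v ≠ 0) (hf : f ≠ 0) (h : f ⬝ᵥ v = 0) :
    Function.Injective (fun a => toP (tv v f h a)) := fun a b hab => by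
  obtain ⟨i, hi⟩ := Function.ne_iff.mp hv
  obtain ⟨j, hj⟩ := Function.ne_iff.mp hf
  have := congrFun (congrFun (toP_tv_inj hn h h hab) i) j
  exact mul_right_cancel₀ (mul_ne_zero hi hj) this

theorem root_inj (hn : 2 ≤ n) {v f v' f' : Fin n → F} (hv : v ≠ 0) (hf : f ≠ 0) (h : f ⬝ᵥ v = 0)
    (h' : f' ⬝ᵥ v' = 0) (he : root v f = root v' f') : vup v v' ∧ vup f f' := by
  have : toP (tv v f h 1) ∈ root v' f' := he ▸ (mem_root h).mpr ⟨1, rfl⟩
  obtain ⟨a, ha⟩ := (mem_root h').mp this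
  have := toP_tv_inj hn h' h ha
  rw [one_smul] at this
  exact vecMulVec_eq_smul hv hf this.symm

theorem root_congr {v f v' f' : Fin n → F} (hv : vup v v') (hf : vup f f') : root v f = root v' f' := by
  obtain ⟨c, hc, rfl⟩ := hv
  obtain ⟨d, hd, rfl⟩ := hf
  refine congrArg Subgroup.closure (Set.ext fun x => ⟨?_, ?_⟩)
  · rintro ⟨s, a, hs, rfl⟩
    exact ⟨s, a * (c * d), by rw [hs, smul_vecMulVec, vecMulVec_smul, smul_smul, smul_smul, mul_assoc], rfl⟩
  · rintro ⟨s, a, hs, rfl⟩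
    refine ⟨s, a / (c * d), ?_, rfl⟩
    rw [hs, smul_vecMulVec, vecMulVec_smul, smul_smul, smul_smul, mul_assoc, div_mul_cancel₀ _ (mul_ne_zero hc hd)]

theorem map_conj_root (s : SLn n F) (v f : Fin n → F) (h : f ⬝ᵥ v = 0) :
    (root v f).map (MulAut.conj (toP s)).toMonoidHom =
      root ((s : Matrix (Fin n) (Fin n) F) *ᵥ v) (f ᵥ* ((s⁻¹ : SLn n F) : Matrix (Fin n) (Fin n) F)) := by
  ext x
  simp only [Subgroup.mem_map, mem_root h, mem_root (conj_dot s v f h), MulEquiv.coe_toMonoidHom,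
    MulAut.conj_apply]
  constructor
  · rintro ⟨_, ⟨a, rfl⟩, rfl⟩
    exact ⟨a, by rw [← conj_tv, map_mul, map_mul, map_inv]⟩
  · rintro ⟨a, rfl⟩
    exact ⟨_, ⟨a, rfl⟩, by rw [← conj_tv, map_mul, map_mul, map_inv]⟩

/-- The set of all root groups. -/
def roots (n : ℕ) (F : Type*) [Field F] : Set (Subgroup (PSLn n F)) :=
  {R | ∃ v f : Fin n → F, v ≠ 0 ∧ f ≠ 0 ∧ f ⬝ᵥ v = 0 ∧ R = root v f}

/-- The centre of a subgroup, as a subgroup. -/
def zc {G : Type*} [Group G] (P : Subgroup G) : Subgroup G := P ⊓ Subgroup.centralizer (P : Set G)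

theorem map_zc {G : Type*} [Group G] (P : Subgroup G) (φ : MulAut G) :
    (zc P).map φ.toMonoidHom = zc (P.map φ.toMonoidHom) := by
  ext x
  simp only [zc, Subgroup.mem_map_equiv, Subgroup.mem_inf, Subgroup.mem_centralizer_iff, SetLike.mem_coe]
  refine and_congr_right fun _ => ⟨fun hc y hy => φ.symm.injective (by simpa using hc _ hy), fun hc y hy => ?_⟩
  simpa using congrArg φ.symm (hc (φ y) (by simpa using hy))

/-- The index of the last coordinate. -/
abbrev zl (hn : 2 ≤ n) : Fin n := ⟨n - 1, by omega⟩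

/-- The index of the first coordinate. -/
abbrev zf (hn : 2 ≤ n) : Fin n := ⟨0, by omega⟩

theorem dot_base (hn : 2 ≤ n) :
    (Pi.single (zl hn) (1 : F) : Fin n → F) ⬝ᵥ Pi.single (zf hn) 1 = 0 := by
  simp [zl, zf, Fin.ext_iff, Pi.single_apply]
  omega

theorem zc_unitri [Fintype F] (hn : 2 ≤ n) :
    zc ((Linear.unitriSL n F).map toP) =
      root (Pi.single (zf hn) (1 : F)) (Pi.single (zl hn) 1) := by
  have hmemU : ∀ s : SLn n F, s ∈ Linear.unitriSL n F ↔
      (∀ i j, j < i → (s : Matrix (Fin n) (Fin n) F) i j = 0) ∧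
      ∀ i, (s : Matrix (Fin n) (Fin n) F) i i = 1 := fun s => Iff.rfl
  apply le_antisymm
  · rintro x ⟨⟨u, hu, rfl⟩, hc⟩
    obtain ⟨hlow, hdiag⟩ := (hmemU u).mp hu
    set U := (u : Matrix (Fin n) (Fin n) F) with hU
    have hcomm : ∀ i j : Fin n, i < j → U * Matrix.single i j 1 = Matrix.single i j 1 * U := by
      intro i j hij
      have hd : (Pi.single j (1 : F) : Fin n → F) ⬝ᵥ Pi.single i 1 = 0 := by simp [hij.ne]
      set t := tv (Pi.single i (1 : F)) (Pi.single j 1) hd 1 with ht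
      have htm : (t : Matrix (Fin n) (Fin n) F) = 1 + Matrix.single i j 1 := by
        rw [ht, tv_coe, one_smul]
        congr 1
        ext a b
        simp [vecMulVec, Matrix.single, Pi.single_apply, ite_and, eq_comm]
        by_cases h1 : i = a <;> by_cases h2 : j = b <;> simp [h1, h2]
      have htU : t ∈ Linear.unitriSL n F := (hmemU t).mpr ⟨fun a b hab => by
          rw [htm]
          have : ¬ (i = a ∧ j = b) := fun ⟨h1, h2⟩ => absurd hij (by subst h1 h2; exact hab.not_gt)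
          simp [Matrix.single, this, hab.ne'],
        fun a => by
          rw [htm]
          have : ¬ (i = a ∧ j = a) := fun ⟨h1, h2⟩ => hij.ne (h1.trans h2.symm)
          simp [Matrix.single, this]⟩
      have h1 : toP (t * u) = toP (u * t) := by
        rw [map_mul, map_mul]
        exact Subgroup.mem_centralizer_iff.mp hc _ ⟨t, htU, rfl⟩
      obtain ⟨c, -, hcm⟩ := toP_eq_iff.mp h1
      have hd1 : ((t * u : SLn n F) : Matrix (Fin n) (Fin n) F) i i = 1 :=
        ((hmemU _).mp (mul_mem htU hu)).2 i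
      have hd2 : ((u * t : SLn n F) : Matrix (Fin n) (Fin n) F) i i = 1 :=
        ((hmemU _).mp (mul_mem hu htU)).2 i
      rw [hcm, Matrix.smul_apply, hd1, smul_eq_mul, mul_one] at hd2
      rw [hd2, one_smul, cmul, cmul, htm, mul_add, add_mul,
        mul_one, one_mul] at hcm
      exact add_left_cancel hcm
    refine (mem_root (dot_base hn)).mpr ⟨U (zf hn) (zl hn), congrArg toP (Subtype.ext ?_)⟩
    rw [tv_coe]
    ext a b
    rcases lt_trichotomy a b with hab | rfl | hab
    · by_cases hb : b = zl hn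
      · by_cases ha : a = zf hn
        · subst ha hb; simp [vecMulVec, hab.ne, hU]
        · have hlt : zf hn < a := lt_of_le_of_ne (Nat.zero_le _) (Ne.symm ha)
          have := congrFun (congrFun (hcomm _ _ hlt) (zf hn)) b
          rw [Matrix.single_mul_apply_same, Matrix.mul_single_apply_of_ne _ _ _ _ _ hab.ne'] at this
          simp [vecMulVec, hab.ne, ha, ← hU]
          simpa using this
      · have hlt : b < zl hn := lt_of_le_of_ne (Fin.le_def.mpr (by have := b.isLt; simp [zl]; omega)) hb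
        have := congrFun (congrFun (hcomm _ _ hlt) a) (zl hn)
        rw [Matrix.mul_single_apply_same, Matrix.single_mul_apply_of_ne _ _ _ _ _ hab.ne] at this
        simp only [mul_one] at this
        simp [vecMulVec, hab.ne, hb, ← hU, this]
    · have : ¬ (a = zf hn ∧ a = zl hn) := fun ⟨h1, h2⟩ => by
        have := h1.symm.trans h2; simp [zf, zl, Fin.ext_iff] at this; omega
      simp [vecMulVec, ← hU, hdiag, Pi.single_apply]
      tauto
    · have : ¬ (a = zf hn) := fun h => absurd hab (by subst h; exact not_lt.mpr (Nat.zero_le _))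
      simp [vecMulVec, ← hU, hlow a b hab, hab.ne', this]
  · intro x hx
    obtain ⟨a, rfl⟩ := (mem_root (dot_base hn)).mp hx
    refine ⟨⟨_, (hmemU _).mpr ⟨fun i j hij => ?_, fun i => ?_⟩, rfl⟩, ?_⟩
    · have : ¬ (i = zf hn) := fun h => absurd hij (by subst h; exact not_lt.mpr (Nat.zero_le _))
      simp [tv_coe, vecMulVec, hij.ne', this]
    · have : ¬ (i = zf hn ∧ i = zl hn) := fun ⟨h1, h2⟩ => by
        have := h1.symm.trans h2; simp [zf, zl, Fin.ext_iff] at this; omega
      simp [tv_coe, vecMulVec, Pi.single_apply]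
      tauto
    · refine Subgroup.mem_centralizer_iff.mpr ?_
      rintro _ ⟨u, hu, rfl⟩
      obtain ⟨hlow, hdiag⟩ := (hmemU u).mp hu
      rw [← map_mul, ← map_mul]
      congr 1
      apply Subtype.ext
      rw [cmul, cmul, tv_coe, mul_add, add_mul, mul_one, one_mul,
        mul_smul_comm, smul_mul_assoc, mul_vecMulVec, vecMulVec_mul]
      have h1 : (u : Matrix (Fin n) (Fin n) F) *ᵥ Pi.single (zf hn) 1 = Pi.single (zf hn) 1 := by
        rw [mulVec_single_one]
        funext i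
        rcases eq_or_ne i (zf hn) with rfl | hi
        · simp [hdiag]
        · simp [hi, hlow i _ (lt_of_le_of_ne (Nat.zero_le _) (Ne.symm hi))]
      have h2 : Pi.single (zl hn) (1 : F) ᵥ* (u : Matrix (Fin n) (Fin n) F) = Pi.single (zl hn) 1 := by
        rw [single_one_vecMul]
        funext i
        rcases eq_or_ne i (zl hn) with rfl | hi
        · simp [hdiag]
        · simp [hi, hlow _ i (lt_of_le_of_ne (Fin.le_def.mpr (by have := i.isLt; simp [zl]; omega)) hi)]
      rw [h1, h2]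

set_option maxHeartbeats 1000000 in
/-- `SL` is transitive on root groups. -/
theorem exists_sl_root (hn : 2 ≤ n) {v f : Fin n → F} (hv : v ≠ 0) (hf : f ≠ 0) (h : f ⬝ᵥ v = 0) :
    ∃ s : SLn n F, vup ((s : Matrix (Fin n) (Fin n) F) *ᵥ Pi.single (zf hn) 1) v ∧
      vup (Pi.single (zl hn) (1 : F) ᵥ* ((s⁻¹ : SLn n F) : Matrix (Fin n) (Fin n) F)) f := by
  obtain ⟨k, rfl⟩ : ∃ k, n = k + 2 := ⟨n - 2, by omega⟩
  let φ : (Fin (k + 2) → F) →ₗ[F] F :=
    { toFun := fun x => f ⬝ᵥ x
      map_add' := dotProduct_add f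
      map_smul' := fun c x => dotProduct_smul c f x }
  obtain ⟨j, hj⟩ := Function.ne_iff.mp hf
  let w : Fin (k + 2) → F := Pi.single j (f j)⁻¹
  have hw : f ⬝ᵥ w = 1 := by simp [w, mul_inv_cancel₀ (show f j ≠ 0 from hj)]
  let W := LinearMap.ker φ
  have hfW : Module.finrank F W = k + 1 := by
    have h1 := φ.finrank_range_add_finrank_ker
    rw [LinearMap.range_eq_top.mpr (fun c => ⟨c • w, by show f ⬝ᵥ (c • w) = c; rw [dotProduct_smul, hw, smul_eq_mul, mul_one]⟩),
      finrank_top, Module.finrank_self, Module.finrank_fintype_fun_eq_card, Fintype.card_fin] at h1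
    change 1 + Module.finrank F W = k + 2 at h1
    omega
  let v' : W := ⟨v, h⟩
  have hv' : v' ≠ 0 := fun h0 => hv (congrArg Subtype.val h0)
  obtain ⟨W0, hW0⟩ := Submodule.exists_isCompl (F ∙ v')
  have hfW0 : Module.finrank F W0 = k := by
    have h1 := Submodule.finrank_add_eq_of_isCompl hW0
    rw [finrank_span_singleton hv', hfW] at h1
    omega
  haveI : Module.Free F W0 := Module.Free.of_divisionRing F W0
  let b : Module.Basis (Fin k) F W0 := Module.finBasisOfFinrankEq F W0 hfW0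
  let col : Fin (k + 2) → Fin (k + 2) → F := Fin.cons v (Fin.snoc (fun i => ((b i : W) : Fin (k + 2) → F)) w)
  let M : Matrix (Fin (k + 2)) (Fin (k + 2)) F := Matrix.of fun r c => col c r
  have hMx : ∀ x : Fin (k + 2) → F, M *ᵥ x =
      x 0 • v + ((∑ i : Fin k, x i.castSucc.succ • ((b i : W) : Fin (k + 2) → F)) + x (Fin.last (k + 1)) • w) := by
    intro x
    have : M *ᵥ x = ∑ c, x c • col c := by
      funext r
      simp [M, Matrix.mulVec, dotProduct, Finset.sum_apply, mul_comm]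
    rw [this, Fin.sum_univ_succ, Fin.sum_univ_castSucc]
    simp [col, Fin.succ_last]
  have hfb : ∀ i, f ⬝ᵥ ((b i : W) : Fin (k + 2) → F) = 0 := fun i => (b i : W).2
  have hfM : ∀ x : Fin (k + 2) → F, f ⬝ᵥ (M *ᵥ x) = x (Fin.last (k + 1)) := by
    intro x
    rw [hMx, dotProduct_add, dotProduct_add, dotProduct_sum]
    simp [dotProduct_smul, h, hw, hfb]
  have hM : M.det ≠ 0 := by
    intro hdet
    obtain ⟨x, hx, hMx0⟩ := Matrix.exists_mulVec_eq_zero_iff.mpr hdet
    have hl : x (Fin.last (k + 1)) = 0 := by rw [← hfM x, hMx0, dotProduct_zero]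
    rw [hMx, hl, zero_smul, add_zero] at hMx0
    have hW : x 0 • v' + ∑ i : Fin k, x i.castSucc.succ • (b i : W) = 0 := by
      apply Subtype.ext
      simpa [v'] using hMx0
    have hmem : x 0 • v' ∈ (F ∙ v') ⊓ W0 := by
      refine ⟨Submodule.smul_mem _ _ (Submodule.mem_span_singleton_self _), ?_⟩
      rw [eq_neg_of_add_eq_zero_left hW]
      exact W0.neg_mem (W0.sum_mem fun i _ => W0.smul_mem _ (b i).2)
    rw [hW0.inf_eq_bot, Submodule.mem_bot] at hmem
    rw [hmem, zero_add] at hW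
    have hb : ∑ i : Fin k, x i.castSucc.succ • b i = 0 := Subtype.ext (by simpa using hW)
    refine hx (funext fun c => ?_)
    refine Fin.cases ?_ (fun c => ?_) c
    · exact (smul_eq_zero.mp hmem).resolve_right hv'
    · refine Fin.lastCases ?_ (fun i => ?_) c
      · rw [Fin.succ_last]; exact hl
      · exact (Fintype.linearIndependent_iff (R := F) (v := ⇑b)).mp b.linearIndependent (fun j => x j.castSucc.succ) hb i
  let d : Fin (k + 2) → F := fun i => if i = Fin.last (k + 1) then M.det⁻¹ else 1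
  let s : SLn (k + 2) F := ⟨M * Matrix.diagonal d, by
    rw [det_mul, det_diagonal, Finset.prod_eq_single (Fin.last (k + 1)) (fun i _ hi => if_neg hi) (by simp)]
    simp [d, mul_inv_cancel₀ hM]⟩
  refine ⟨s, ⟨1, one_ne_zero, ?_⟩, ?_⟩
  · rw [one_smul]
    show (M * Matrix.diagonal d) *ᵥ _ = v
    rw [← mulVec_mulVec, diagonal_mulVec_single, hMx]
    have h0 : (0 : Fin (k + 2)) ≠ Fin.last (k + 1) := by simp [Fin.ext_iff]
    simp [zf, d, h0, Ne.symm h0, Pi.single_apply, Fin.succ_ne_zero, Fin.ext_iff]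
  · have hfs : f ᵥ* (s : Matrix (Fin (k + 2)) (Fin (k + 2)) F) = M.det⁻¹ • Pi.single (zl hn) 1 := by
      funext c
      have := hfM (Matrix.diagonal d *ᵥ Pi.single c 1)
      rw [mulVec_mulVec, mulVec_single_one, dotProduct] at this
      show ∑ r, f r * (M * Matrix.diagonal d) r c = _
      rw [show ∑ r, f r * (M * Matrix.diagonal d) r c = ∑ r, f r * (M * Matrix.diagonal d).col c r from rfl, this]
      rcases eq_or_ne c (zl hn) with rfl | hc
      · have : zl hn = Fin.last (k + 1) := by simp [zl, Fin.ext_iff]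
        simp [this, d]
      · have : c ≠ Fin.last (k + 1) := fun h => hc (h.trans (by simp [zl, Fin.ext_iff]))
        simp [hc, Pi.single_apply, Ne.symm this]
    refine ⟨M.det, hM, ?_⟩
    have := congrArg (fun u => M.det • (u ᵥ* ((s⁻¹ : SLn (k + 2) F) : Matrix (Fin (k + 2)) (Fin (k + 2)) F))) hfs
    simp only [vecMul_vecMul, ← cmul, mul_inv_cancel, cone,
      vecMul_one, smul_vecMul, smul_smul, mul_inv_cancel₀ hM, one_smul] at this
    exact this.symm

/-- Root groups are the centres of the Sylow `p`-subgroups, so automorphisms permute them. -/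
theorem map_mem_roots [Fintype F] (hn : 2 ≤ n) (φ : MulAut (PSLn n F)) {R : Subgroup (PSLn n F)}
    (hR : R ∈ roots n F) : R.map φ.toMonoidHom ∈ roots n F := by
  obtain ⟨p, hchar⟩ := CharP.exists F
  obtain ⟨-, hp, -⟩ := FiniteField.card F p
  haveI := Fact.mk hp
  haveI := hchar
  set U : Sylow p (PSLn n F) := (Linear.unitriSylowSL n F p).mapSurjective toP_surjective with hU
  have hUz : zc (U : Subgroup (PSLn n F)) = root (Pi.single (zf hn) (1 : F)) (Pi.single (zl hn) 1) := by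
    rw [hU, Sylow.coe_mapSurjective, Linear.unitriSylowSL_coe, zc_unitri hn]
  have hconj : ∀ x : PSLn n F, (zc (U : Subgroup (PSLn n F))).map (MulAut.conj x).toMonoidHom ∈ roots n F := by
    intro x
    obtain ⟨s, rfl⟩ := toP_surjective x
    rw [hUz, map_conj_root s _ _ (dot_base hn)]
    refine ⟨_, _, ?_, ?_, conj_dot s _ _ (dot_base hn), rfl⟩
    · intro h
      have := congrArg (fun u => ((s⁻¹ : SLn n F) : Matrix (Fin n) (Fin n) F) *ᵥ u) h
      simp only [mulVec_mulVec, ← cmul, inv_mul_cancel, cone,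
        one_mulVec, mulVec_zero] at this
      simp at this
    · intro h
      have := congrArg (fun u => u ᵥ* (s : Matrix (Fin n) (Fin n) F)) h
      simp only [vecMul_vecMul, ← cmul, inv_mul_cancel, cone,
        vecMul_one, zero_vecMul] at this
      simp at this
  obtain ⟨v, f, hv, hf, h, rfl⟩ := hR
  obtain ⟨s, hs1, hs2⟩ := exists_sl_root hn hv hf h
  have he : root v f = (zc (U : Subgroup (PSLn n F))).map (MulAut.conj (toP s)).toMonoidHom := by
    rw [hUz, map_conj_root s _ _ (dot_base hn), root_congr hs1 hs2]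
  rw [he, Subgroup.map_map]
  rw [show φ.toMonoidHom.comp (MulAut.conj (toP s)).toMonoidHom = ((MulAut.conj (toP s)).trans φ).toMonoidHom from rfl]
  rw [map_zc]
  let Q : Sylow p (PSLn n F) := U.mapSurjective
    (f := ((MulAut.conj (toP s)).trans φ).toMonoidHom) ((MulAut.conj (toP s)).trans φ).surjective
  obtain ⟨x, hx⟩ := MulAction.exists_smul_eq (PSLn n F) U Q
  have := hconj x
  rw [map_zc] at this
  convert this using 2
  show (Q : Subgroup (PSLn n F)) = _
  rw [← hx]
  rfl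

end Cfsg.Agent.H56
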