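import Mathlib
import Cfsg.Agent.H56.RootGroup

/-! The automorphism group of `PSL_n(F)` over a finite field. -/

set_option autoImplicit false

namespace Cfsg.Agent.H56

open Matrix
open scoped MatrixGroups LinearAlgebra.Projectivization

variable {F : Type*} [Field F] {n : ℕ}

/-- Matrix of an element of `SL`. -/
abbrev smat (s : SLn n F) : Matrix (Fin n) (Fin n) F := (s : Matrix (Fin n) (Fin n) F)

/-- Conjugation by a semilinear map, on `SL`. -/
def semiSL (g : GL (Fin n) F) (σ : F ≃+* F) : SLn n F ≃* SLn n F where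
  toFun s := ⟨(g : Matrix (Fin n) (Fin n) F) * (smat s).map σ * ((g⁻¹ : GL (Fin n) F) : Matrix (Fin n) (Fin n) F), by
    rw [det_mul_right_comm, ← Units.val_mul, mul_inv_cancel, Units.val_one, one_mul]
    exact (σ.map_det (smat s)).symm.trans (by rw [s.det_coe, map_one])⟩
  invFun s := ⟨(((g⁻¹ : GL (Fin n) F) : Matrix (Fin n) (Fin n) F) * smat s * (g : Matrix (Fin n) (Fin n) F)).map σ.symm, by
    refine (σ.symm.map_det _).symm.trans ?_
    rw [det_mul_right_comm, ← Units.val_mul, inv_mul_cancel, Units.val_one, one_mul, s.det_coe, map_one]⟩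
  left_inv s := by
    apply Subtype.ext
    show (((g⁻¹ : GL (Fin n) F) : Matrix (Fin n) (Fin n) F) * ((g : Matrix (Fin n) (Fin n) F) * (smat s).map σ *
      ((g⁻¹ : GL (Fin n) F) : Matrix (Fin n) (Fin n) F)) * (g : Matrix (Fin n) (Fin n) F)).map σ.symm = smat s
    simp only [← mul_assoc, ← Units.val_mul, inv_mul_cancel, Units.val_one, one_mul]
    simp only [mul_assoc, ← Units.val_mul, inv_mul_cancel, Units.val_one, mul_one]
    ext i j
    simp
  right_inv s := by
    apply Subtype.ext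
    show (g : Matrix (Fin n) (Fin n) F) * (((((g⁻¹ : GL (Fin n) F) : Matrix (Fin n) (Fin n) F) * smat s *
      (g : Matrix (Fin n) (Fin n) F))).map σ.symm).map σ * ((g⁻¹ : GL (Fin n) F) : Matrix (Fin n) (Fin n) F) = smat s
    rw [Matrix.map_map, show (⇑σ ∘ ⇑σ.symm) = id from funext σ.apply_symm_apply, Matrix.map_id]
    simp only [← mul_assoc, ← Units.val_mul, mul_inv_cancel, Units.val_one, one_mul]
    simp only [mul_assoc, ← Units.val_mul, mul_inv_cancel, Units.val_one, mul_one]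
  map_mul' s t := by
    apply Subtype.ext
    show (g : Matrix (Fin n) (Fin n) F) * (smat s * smat t).map σ * _ = _ * _ * _ * (_ * _ * _)
    rw [Matrix.map_mul]
    simp only [mul_assoc]
    rw [← mul_assoc ((g⁻¹ : GL (Fin n) F) : Matrix (Fin n) (Fin n) F) (g : Matrix (Fin n) (Fin n) F),
      ← Units.val_mul, inv_mul_cancel, Units.val_one, one_mul]

theorem center_map (e : SLn n F ≃* SLn n F) :
    (Subgroup.center (SLn n F)).map e.toMonoidHom = Subgroup.center (SLn n F) := by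
  ext x
  rw [Subgroup.mem_map_equiv, Subgroup.mem_center_iff, Subgroup.mem_center_iff]
  exact ⟨fun h y => e.symm.injective (by simpa using h (e.symm y)),
    fun h y => e.injective (by simpa using h (e y))⟩

/-- The automorphism of `PSL` induced by one of `SL`. -/
def autOf (e : SLn n F ≃* SLn n F) : MulAut (PSLn n F) :=
  QuotientGroup.congr _ _ e (center_map e)

theorem autOf_toP (e : SLn n F ≃* SLn n F) (s : SLn n F) : autOf e (toP s) = toP (e s) := rfl

theorem autOf_trans (e e' : SLn n F ≃* SLn n F) : autOf (e'.trans e) = autOf e * autOf e' :=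
  MulEquiv.ext fun x => by obtain ⟨s, rfl⟩ := toP_surjective x; rfl

/-- Conjugation by a semilinear map, on `PSL`. -/
def semiAut (g : GL (Fin n) F) (σ : F ≃+* F) : MulAut (PSLn n F) := autOf (semiSL g σ)

theorem semiAut_toP (g : GL (Fin n) F) (σ : F ≃+* F) (s : SLn n F) :
    semiAut g σ (toP s) = toP (semiSL g σ s) := rfl

theorem smat_semiSL (g : GL (Fin n) F) (σ : F ≃+* F) (s : SLn n F) :
    smat (semiSL g σ s) = (g : Matrix (Fin n) (Fin n) F) * (smat s).map σ *
      ((g⁻¹ : GL (Fin n) F) : Matrix (Fin n) (Fin n) F) := rfl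

/-- Field automorphism applied entrywise to `GL`. -/
def glMap (σ : F ≃+* F) : GL (Fin n) F →* GL (Fin n) F :=
  Units.map (σ.mapMatrix : Matrix (Fin n) (Fin n) F ≃+* Matrix (Fin n) (Fin n) F).toMonoidHom

theorem glMap_coe (σ : F ≃+* F) (g : GL (Fin n) F) :
    (glMap σ g : Matrix (Fin n) (Fin n) F) = (g : Matrix (Fin n) (Fin n) F).map σ := rfl

theorem semiAut_mul (g h : GL (Fin n) F) (σ τ : F ≃+* F) :
    semiAut g σ * semiAut h τ = semiAut (g * glMap σ h) (τ.trans σ) := by
  refine MulEquiv.ext fun x => ?_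
  obtain ⟨s, rfl⟩ := toP_surjective x
  show toP (semiSL g σ (semiSL h τ s)) = toP (semiSL _ _ s)
  refine congrArg toP (Subtype.ext ?_)
  show smat (semiSL g σ (semiSL h τ s)) = smat (semiSL _ _ s)
  rw [smat_semiSL, smat_semiSL, smat_semiSL, Matrix.map_mul, Matrix.map_mul, _root_.mul_inv_rev, Units.val_mul,
    Units.val_mul, ← map_inv, glMap_coe, glMap_coe, Matrix.map_map]
  simp only [mul_assoc]
  rfl

theorem semiAut_one : semiAut (1 : GL (Fin n) F) (RingEquiv.refl F) = 1 := by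
  refine MulEquiv.ext fun x => ?_
  obtain ⟨s, rfl⟩ := toP_surjective x
  refine congrArg toP (Subtype.ext ?_)
  show smat (semiSL 1 (RingEquiv.refl F) s) = smat s
  simp [smat_semiSL]

theorem semiAut_scalar (c : Fˣ) :
    semiAut (Matrix.GeneralLinearGroup.scalar (Fin n) c) (RingEquiv.refl F) = 1 := by
  refine MulEquiv.ext fun x => ?_
  obtain ⟨s, rfl⟩ := toP_surjective x
  refine congrArg toP (Subtype.ext ?_)
  show smat (semiSL _ (RingEquiv.refl F) s) = smat s
  rw [smat_semiSL, ← map_inv, Matrix.GeneralLinearGroup.coe_scalar, Matrix.GeneralLinearGroup.coe_scalar]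
  ext i j
  simp [Matrix.diagonal_mul, Matrix.mul_diagonal, mul_assoc, mul_comm (smat s i j)]

theorem semiAut_eq_conj (s : SLn n F) :
    semiAut (Matrix.SpecialLinearGroup.toGL s) (RingEquiv.refl F) = MulAut.conj (toP s) := by
  refine MulEquiv.ext fun x => ?_
  obtain ⟨t, rfl⟩ := toP_surjective x
  rw [MulAut.conj_apply, ← map_mul, ← map_inv, ← map_mul, semiAut_toP]
  refine congrArg toP (Subtype.ext ?_)
  show smat (semiSL _ _ t) = smat (s * t * s⁻¹)
  rw [smat_semiSL, ← map_inv]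
  simp [Matrix.SpecialLinearGroup.toGL, smat, cmul]

/-- Inverse transpose on `SL`. -/
def invTSL : SLn n F ≃* SLn n F where
  toFun s := Matrix.SpecialLinearGroup.transpose s⁻¹
  invFun s := (Matrix.SpecialLinearGroup.transpose s)⁻¹
  left_inv s := by
    beta_reduce
    rw [show Matrix.SpecialLinearGroup.transpose (Matrix.SpecialLinearGroup.transpose s⁻¹) = s⁻¹ from
      Subtype.ext (Matrix.transpose_transpose _), inv_inv]
  right_inv s := by
    beta_reduce
    rw [inv_inv]
    exact Subtype.ext (Matrix.transpose_transpose _)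
  map_mul' s t := by
    apply Subtype.ext
    show (smat (s * t)⁻¹)ᵀ = (smat s⁻¹)ᵀ * (smat t⁻¹)ᵀ
    rw [_root_.mul_inv_rev, ← Matrix.transpose_mul]
    rfl

/-- Inverse transpose on `PSL`. -/
def invTAut : MulAut (PSLn n F) := autOf invTSL

theorem invTAut_mul_self : invTAut * invTAut = (1 : MulAut (PSLn n F)) := by
  refine MulEquiv.ext fun x => ?_
  obtain ⟨s, rfl⟩ := toP_surjective x
  refine congrArg toP ?_
  show Matrix.SpecialLinearGroup.transpose (Matrix.SpecialLinearGroup.transpose s⁻¹)⁻¹ = s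
  apply Subtype.ext
  show (Matrix.adjugate (smat s⁻¹)ᵀ)ᵀ = smat s
  rw [Matrix.adjugate_transpose, Matrix.transpose_transpose]
  exact congrArg Subtype.val (inv_inv s)

theorem invTAut_mul_semiAut (g : GL (Fin n) F) (σ : F ≃+* F) :
    invTAut * semiAut g σ = semiAut (contra g) σ * invTAut := by
  refine MulEquiv.ext fun x => ?_
  obtain ⟨s, rfl⟩ := toP_surjective x
  show toP (invTSL (semiSL g σ s)) = toP (semiSL (contra g) σ (invTSL s))
  refine congrArg toP (Subtype.ext ?_)
  show (smat (semiSL g σ s)⁻¹)ᵀ = smat (semiSL (contra g) σ (invTSL s))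
  rw [← map_inv, smat_semiSL, smat_semiSL, transpose_mul, transpose_mul, ← Matrix.transpose_map, ← mul_assoc]
  rfl

theorem tv_congr {v v' f f' : Fin n → F} (hv : v = v') (hf : f = f') (h : f ⬝ᵥ v = 0) (h' : f' ⬝ᵥ v' = 0) (a : F) :
    tv v f h a = tv v' f' h' a := by
  subst hv hf; rfl

theorem semi_dot (g : GL (Fin n) F) (σ : F ≃+* F) {v f : Fin n → F} (h : f ⬝ᵥ v = 0) :
    ((fun i => σ (f i)) ᵥ* ((g⁻¹ : GL (Fin n) F) : Matrix (Fin n) (Fin n) F)) ⬝ᵥ
      ((g : Matrix (Fin n) (Fin n) F) *ᵥ fun i => σ (v i)) = 0 := by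
  rw [← dotProduct_mulVec, mulVec_mulVec, ← Units.val_mul, inv_mul_cancel, Units.val_one, one_mulVec]
  simp only [dotProduct, ← map_mul, ← map_sum]
  rw [← dotProduct, h, map_zero]

theorem semiAut_tv (g : GL (Fin n) F) (σ : F ≃+* F) (v f : Fin n → F) (h : f ⬝ᵥ v = 0) (a : F) :
    semiAut g σ (toP (tv v f h a)) = toP (tv _ _ (semi_dot g σ h) (σ a)) := by
  refine congrArg toP (Subtype.ext ?_)
  show smat (semiSL g σ (tv v f h a)) = _
  rw [smat_semiSL]
  have : (smat (tv v f h a)).map σ = 1 + σ a • vecMulVec (fun i => σ (v i)) (fun i => σ (f i)) := by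
    ext i j
    simp [smat, tv_coe, vecMulVec, Matrix.one_apply, apply_ite σ]
  rw [this, mul_add, mul_one, add_mul, ← Units.val_mul, mul_inv_cancel, Units.val_one, mul_smul_comm,
    smul_mul_assoc, mul_vecMulVec, vecMulVec_mul, tv_coe]

theorem invTAut_tv (v f : Fin n → F) (h : f ⬝ᵥ v = 0) (a : F) :
    invTAut (toP (tv v f h a)) = toP (tv f v (by rw [dotProduct_comm, h]) (-a)) := by
  refine congrArg toP (Subtype.ext ?_)
  show (smat (tv v f h a)⁻¹)ᵀ = _
  rw [tv_inv]
  show (1 + (-a) • vecMulVec v f)ᵀ = _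
  rw [transpose_add, transpose_one, transpose_smul, transpose_vecMulVec, tv_coe]

theorem map_root {φ : MulAut (PSLn n F)} {v f v' f' : Fin n → F} (h : f ⬝ᵥ v = 0) (h' : f' ⬝ᵥ v' = 0)
    (e : F → F) (he : Function.Surjective e)
    (hφ : ∀ a, φ (toP (tv v f h a)) = toP (tv v' f' h' (e a))) :
    (root v f).map φ.toMonoidHom = root v' f' := by
  ext x
  simp only [Subgroup.mem_map, mem_root h, mem_root h', MulEquiv.coe_toMonoidHom]
  constructor
  · rintro ⟨_, ⟨a, rfl⟩, rfl⟩; exact ⟨e a, (hφ a).symm⟩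
  · rintro ⟨b, rfl⟩
    obtain ⟨a, rfl⟩ := he b
    exact ⟨_, ⟨a, rfl⟩, hφ a⟩

theorem map_semiAut_root (g : GL (Fin n) F) (σ : F ≃+* F) (v f : Fin n → F) (h : f ⬝ᵥ v = 0) :
    (root v f).map (semiAut g σ).toMonoidHom =
      root ((g : Matrix (Fin n) (Fin n) F) *ᵥ fun i => σ (v i))
        ((fun i => σ (f i)) ᵥ* ((g⁻¹ : GL (Fin n) F) : Matrix (Fin n) (Fin n) F)) :=
  map_root h (semi_dot g σ h) σ σ.surjective (semiAut_tv g σ v f h)

theorem map_invTAut_root (v f : Fin n → F) (h : f ⬝ᵥ v = 0) :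
    (root v f).map (invTAut : MulAut (PSLn n F)).toMonoidHom = root f v :=
  map_root h _ (fun a => -a) neg_surjective (invTAut_tv v f h)

/-! ### Points and hyperplanes -/

local notation "ℙn" => ℙ F (Fin n → F)

/-- Incidence. -/
abbrev inc (P H : ℙn) : Prop := H.rep ⬝ᵥ P.rep = 0

theorem inc_iff (P H : ℙn) : inc P H ↔ Projectivization.orthogonal P H := by
  conv_rhs => rw [← P.mk_rep, ← H.mk_rep]
  rw [Projectivization.orthogonal_mk, inc, dotProduct_comm]

theorem inc_comm {P H : ℙn} : inc P H ↔ inc H P := by rw [inc, inc, dotProduct_comm]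

/-- The root group of an incident pair. -/
noncomputable def rootP (P H : ℙn) : Subgroup (PSLn n F) := root P.rep H.rep

theorem vup_rep {v : Fin n → F} (hv : v ≠ 0) : vup (Projectivization.mk F v hv).rep v := by
  obtain ⟨c, hc⟩ := (Projectivization.mk_eq_mk_iff' F _ _
    (Projectivization.rep_nonzero _) hv).mp (Projectivization.mk_rep (Projectivization.mk F v hv))
  refine ⟨c, fun h0 => Projectivization.rep_nonzero (Projectivization.mk F v hv) ?_, hc.symm⟩
  rw [← hc, h0, zero_smul]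

theorem eq_of_vup {P Q : ℙn} (h : vup P.rep Q.rep) : P = Q := by
  obtain ⟨c, -, hc⟩ := h
  rw [← P.mk_rep, ← Q.mk_rep, Projectivization.mk_eq_mk_iff']
  exact ⟨c, hc.symm⟩

theorem rootP_mk {v f : Fin n → F} (hv : v ≠ 0) (hf : f ≠ 0) :
    rootP (Projectivization.mk F v hv) (Projectivization.mk F f hf) = root v f :=
  root_congr (vup_rep hv) (vup_rep hf)

theorem inc_mk {v f : Fin n → F} (hv : v ≠ 0) (hf : f ≠ 0) :
    inc (Projectivization.mk F v hv) (Projectivization.mk F f hf) ↔ f ⬝ᵥ v = 0 := by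
  rw [inc_iff, Projectivization.orthogonal_mk, dotProduct_comm]

theorem mem_roots {R : Subgroup (PSLn n F)} : R ∈ roots n F ↔ ∃ P H : ℙn, inc P H ∧ R = rootP P H := by
  constructor
  · rintro ⟨v, f, hv, hf, h, rfl⟩
    exact ⟨_, _, (inc_mk hv hf).mpr h, (rootP_mk hv hf).symm⟩
  · rintro ⟨P, H, h, rfl⟩
    exact ⟨_, _, P.rep_nonzero, H.rep_nonzero, h, rfl⟩

theorem rootP_inj (hn : 2 ≤ n) {P H P' H' : ℙn} (h : inc P H) (h' : inc P' H')
    (he : rootP P H = rootP P' H') : P = P' ∧ H = H' :=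
  (root_inj hn P.rep_nonzero H.rep_nonzero h h' he).imp eq_of_vup eq_of_vup

theorem exists_inc (hn : 2 ≤ n) (P : ℙn) : ∃ H, inc P H := by
  obtain ⟨i, hi⟩ := Function.ne_iff.mp P.rep_nonzero
  obtain ⟨j, hj⟩ : ∃ j : Fin n, j ≠ i := by
    haveI := Fin.nontrivial_iff_two_le.mpr hn
    exact exists_ne i
  have hf : (Pi.single i (-(P.rep j)) + Pi.single j (P.rep i) : Fin n → F) ≠ 0 := fun h => by
    have := congrFun h j
    simp [hj] at this
    exact hi this
  refine ⟨Projectivization.mk F _ hf, ?_⟩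
  conv_lhs => rw [← P.mk_rep]
  rw [inc_mk P.rep_nonzero hf, add_dotProduct, single_dotProduct, single_dotProduct]
  ring

theorem exists_common (hn : 3 ≤ n) (P Q : ℙn) : ∃ H, inc P H ∧ inc Q H := by
  obtain ⟨w, hw, h1, h2⟩ := exists_perp2 hn P.rep Q.rep
  refine ⟨Projectivization.mk F w hw, ?_, ?_⟩
  · conv_lhs => rw [← P.mk_rep]
    rw [inc_mk P.rep_nonzero hw, dotProduct_comm, h1]
  · conv_lhs => rw [← Q.mk_rep]
    rw [inc_mk Q.rep_nonzero hw, dotProduct_comm, h2]

theorem exists_inc_ne (hn : 3 ≤ n) (P H : ℙn) : ∃ H', inc P H' ∧ H' ≠ H := by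
  let φ : (Fin n → F) →ₗ[F] F :=
    { toFun := fun x => x ⬝ᵥ P.rep
      map_add' := fun x y => add_dotProduct x y P.rep
      map_smul' := fun c x => smul_dotProduct c x P.rep }
  have h1 := φ.finrank_range_add_finrank_ker
  have h2 : Module.finrank F (LinearMap.range φ) ≤ 1 := by simpa using Submodule.finrank_le (LinearMap.range φ)
  rw [Module.finrank_fintype_fun_eq_card, Fintype.card_fin] at h1
  have hnot : ¬ LinearMap.ker φ ≤ F ∙ H.rep := fun hle => by
    have := Submodule.finrank_mono hle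
    rw [finrank_span_singleton H.rep_nonzero] at this
    omega
  obtain ⟨w, hw, hwH⟩ := Set.not_subset.mp hnot
  have hw0 : w ≠ 0 := fun h => hwH (h ▸ Submodule.zero_mem _)
  refine ⟨Projectivization.mk F w hw0, ?_, fun he => hwH ?_⟩
  · conv_lhs => rw [← P.mk_rep]
    exact (inc_mk P.rep_nonzero hw0).mpr hw
  · rw [← H.mk_rep, Projectivization.mk_eq_mk_iff'] at he
    obtain ⟨c, hc⟩ := he
    exact Submodule.mem_span_singleton.mpr ⟨c, hc⟩

/-- The relation between root groups sharing a point or a hyperplane. -/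
def RootRel (R R' : Subgroup (PSLn n F)) : Prop :=
  ∀ x ∈ R, ∀ y ∈ R', Commute x y ∧ ∃ R'' ∈ roots n F, x * y ∈ R''

theorem exists_sep {f f' : Fin n → F} (hf' : f' ≠ 0) (h : ¬ vup f f') (hf : f ≠ 0) :
    ∃ w, f ⬝ᵥ w = 1 ∧ f' ⬝ᵥ w = 0 := by
  obtain ⟨j, hj⟩ := Function.ne_iff.mp hf'
  obtain ⟨k, hk⟩ : ∃ k, f k - f j / f' j * f' k ≠ 0 := by
    by_contra hc
    push Not at hc
    have : f = (f j / f' j) • f' := funext fun k => sub_eq_zero.mp (hc k)
    refine h ⟨f j / f' j, fun h0 => hf ?_, this⟩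
    rw [this, h0, zero_smul]
  refine ⟨(f k - f j / f' j * f' k)⁻¹ • (Pi.single k 1 + Pi.single j (-(f' k / f' j))), ?_, ?_⟩
  · rw [dotProduct_smul, dotProduct_add, dotProduct_single, dotProduct_single, smul_eq_mul]
    rw [show f k * 1 + f j * -(f' k / f' j) = f k - f j / f' j * f' k by ring, inv_mul_cancel₀ hk]
  · rw [dotProduct_smul, dotProduct_add, dotProduct_single, dotProduct_single]
    rw [mul_one, mul_neg, mul_div_cancel₀ _ hj, add_neg_cancel, smul_zero]

theorem dot_zero_of_commute (hn : 2 ≤ n) {v f v' f' : Fin n → F} (hv' : v' ≠ 0) (hf' : f' ≠ 0) (hv : v ≠ 0)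
    (hvv : ¬ vup v v') (h : f ⬝ᵥ v = 0) (h' : f' ⬝ᵥ v' = 0)
    (hc : Commute (toP (tv v f h 1)) (toP (tv v' f' h' 1))) : f ⬝ᵥ v' = 0 := by
  have he : toP (tv v f h 1 * tv v' f' h' 1 * (tv v f h 1)⁻¹) = toP (tv v' f' h' 1) := by
    rw [map_mul, map_mul, hc.eq, map_inv, mul_inv_cancel_right]
  rw [conj_tv] at he
  have h2 := toP_tv_inj hn _ h' he
  rw [one_smul, one_smul] at h2
  obtain ⟨hvp, -⟩ := vecMulVec_eq_smul hv' hf' (b := 1) (h2.symm.trans (one_smul F _).symm)
  obtain ⟨c, hc0, hc⟩ := hvp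
  rw [tv_coe, one_smul, add_mulVec, one_mulVec, vecMulVec_mulVec] at hc
  by_contra hne
  obtain ⟨i, hi⟩ := Function.ne_iff.mp hv
  have hck : ∀ k, v' k = c * (v' k + v k * (f ⬝ᵥ v')) := fun k => by
    have := congrFun hc k
    simp at this
    linear_combination this
  refine hvv ⟨(c⁻¹ - 1) / (f ⬝ᵥ v'), fun h0 => hi ?_, funext fun k => ?_⟩
  · have hc1 : c = 1 := by
      rcases div_eq_zero_iff.mp h0 with h0 | h0
      · exact inv_eq_one.mp (sub_eq_zero.mp h0)
      · exact absurd h0 hne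
    have := hck i
    rw [hc1, one_mul, left_eq_add] at this
    exact (mul_eq_zero.mp this).resolve_right hne
  · show v k = _ * v' k
    field_simp
    linear_combination -(hck k)

theorem rootRel_cases (hn : 2 ≤ n) {P H P' H' : ℙn} (h : inc P H) (h' : inc P' H')
    (hr : RootRel (rootP P H) (rootP P' H')) : P = P' ∨ H = H' := by
  by_contra hne
  push Not at hne
  have hvv : ¬ vup P.rep P'.rep := fun hv => hne.1 (eq_of_vup hv)
  have hvv' : ¬ vup P'.rep P.rep := fun hv => hne.1 (eq_of_vup hv).symm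
  have hff : ¬ vup H.rep H'.rep := fun hv => hne.2 (eq_of_vup hv)
  have hff' : ¬ vup H'.rep H.rep := fun hv => hne.2 (eq_of_vup hv).symm
  obtain ⟨hc, R'', hR'', hmem⟩ := hr _ ((mem_root h).mpr ⟨1, rfl⟩) _ ((mem_root h').mpr ⟨1, rfl⟩)
  have h1 : H.rep ⬝ᵥ P'.rep = 0 :=
    dot_zero_of_commute hn P'.rep_nonzero H'.rep_nonzero P.rep_nonzero hvv h h' hc
  have h2 : H'.rep ⬝ᵥ P.rep = 0 :=
    dot_zero_of_commute hn P.rep_nonzero H.rep_nonzero P'.rep_nonzero hvv' h' h hc.symm
  obtain ⟨u, g, hu, hg, hgu, rfl⟩ := hR''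
  obtain ⟨a, ha⟩ := (mem_root hgu).mp hmem
  rw [← map_mul] at ha
  obtain ⟨c, -, hm⟩ := toP_eq_iff.mp ha.symm
  rw [tv_coe, cmul, tv_coe, tv_coe, one_smul, one_smul, mul_add, mul_one, add_mul, one_mul,
    vecMulVec_mul_vecMulVec, h1, zero_smul] at hm
  have key : ∀ x, x + (a * (g ⬝ᵥ x)) • u =
      c • (x + (H.rep ⬝ᵥ x) • P.rep + (H'.rep ⬝ᵥ x) • P'.rep) := by
    intro x
    have := congrArg (fun M : Matrix (Fin n) (Fin n) F => M *ᵥ x) hm
    simp only [add_mulVec, one_mulVec, smul_mulVec, vecMulVec_mulVec, dotProduct_zero, zero_dotProduct,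
      op_smul_eq_smul, smul_smul, zero_mulVec, add_zero] at this
    have hz : vecMulVec P.rep (0 : Fin n → F) *ᵥ x = 0 := by simp [vecMulVec_mulVec]
    funext i
    have hi := congrFun this i
    simp at hi ⊢
    linear_combination hi
  have hnp : ∀ (k k' : F) (p p' : Fin n → F), p ≠ 0 → p' ≠ 0 → p = k • u → p' = k' • u → vup p p' := by
    rintro k k' p p' hp hp' rfl rfl
    have hk' : k' ≠ 0 := fun h => hp' (by rw [h, zero_smul])
    refine ⟨k / k', div_ne_zero (fun h => hp (by rw [h, zero_smul])) hk', ?_⟩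
    rw [smul_smul, div_mul_cancel₀ _ hk']
  by_cases hc1 : c = 1
  · obtain ⟨w, hw1, hw2⟩ := exists_sep H'.rep_nonzero hff H.rep_nonzero
    obtain ⟨w', hw1', hw2'⟩ := exists_sep H.rep_nonzero hff' H'.rep_nonzero
    have e1 : P.rep = (a * (g ⬝ᵥ w)) • u := by
      have := key w
      rw [hc1, one_smul, hw1, hw2, one_smul, zero_smul, add_zero] at this
      exact (add_left_cancel this).symm
    have e2 : P'.rep = (a * (g ⬝ᵥ w')) • u := by
      have := key w'
      rw [hc1, one_smul, hw1', hw2', one_smul, zero_smul, add_zero] at this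
      exact (add_left_cancel this).symm
    exact hvv (hnp _ _ _ _ P.rep_nonzero P'.rep_nonzero e1 e2)
  · have e : ∀ x, H.rep ⬝ᵥ x = 0 → H'.rep ⬝ᵥ x = 0 → x = ((a * (g ⬝ᵥ x)) / (c - 1)) • u := by
      intro x hx hx'
      have := key x
      rw [hx, hx', zero_smul, zero_smul, add_zero, add_zero] at this
      funext i
      have hi := congrFun this i
      simp at hi
      rw [Pi.smul_apply, smul_eq_mul, div_mul_eq_mul_div, eq_div_iff (sub_ne_zero.mpr hc1)]
      linear_combination -hi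
    exact hvv (hnp _ _ _ _ P.rep_nonzero P'.rep_nonzero (e _ h h2) (e _ h1 h'))

/-- Image of a set of subgroups. -/
def mapSet (φ : MulAut (PSLn n F)) (S : Set (Subgroup (PSLn n F))) : Set (Subgroup (PSLn n F)) :=
  (Subgroup.map φ.toMonoidHom) '' S

theorem mapSet_mul (φ ψ : MulAut (PSLn n F)) (S : Set (Subgroup (PSLn n F))) :
    mapSet (φ * ψ) S = mapSet φ (mapSet ψ S) := by
  simp only [mapSet, Set.image_image, Subgroup.map_map]
  rfl

theorem mapSet_one (S : Set (Subgroup (PSLn n F))) : mapSet 1 S = S := by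
  simp only [mapSet]
  rw [show Subgroup.map (1 : MulAut (PSLn n F)).toMonoidHom = id from funext fun R => Subgroup.map_id R,
    Set.image_id]

theorem mapSet_inj {φ : MulAut (PSLn n F)} {S T : Set (Subgroup (PSLn n F))} (h : mapSet φ S = mapSet φ T) :
    S = T := by
  rw [← mapSet_one S, ← mapSet_one T, ← inv_mul_cancel φ, mapSet_mul, mapSet_mul, h]

/-- Root groups through a point. -/
def pset (P : ℙn) : Set (Subgroup (PSLn n F)) := {R | ∃ H, inc P H ∧ R = rootP P H}

/-- Root groups in a hyperplane. -/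
def hset (H : ℙn) : Set (Subgroup (PSLn n F)) := {R | ∃ P, inc P H ∧ R = rootP P H}

theorem mapSet_invT_pset (P : ℙn) : mapSet invTAut (pset P) = hset P := by
  apply Set.Subset.antisymm
  · rintro _ ⟨_, ⟨H, h, rfl⟩, rfl⟩
    exact ⟨H, inc_comm.mp h, map_invTAut_root _ _ h⟩
  · rintro _ ⟨Q, h, rfl⟩
    exact ⟨_, ⟨Q, inc_comm.mp h, rfl⟩, map_invTAut_root _ _ (inc_comm.mp h)⟩

theorem mapSet_invT_hset (P : ℙn) : mapSet invTAut (hset P) = pset P := by
  rw [← mapSet_invT_pset, ← mapSet_mul, invTAut_mul_self, mapSet_one]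

theorem rootRel_pset {P : ℙn} {R R' : Subgroup (PSLn n F)} (hR : R ∈ pset P) (hR' : R' ∈ pset P) :
    RootRel R R' := by
  obtain ⟨H, h, rfl⟩ := hR
  obtain ⟨H', h', rfl⟩ := hR'
  intro x hx y hy
  obtain ⟨a, rfl⟩ := (mem_root h).mp hx
  obtain ⟨b, rfl⟩ := (mem_root h').mp hy
  have hd : (a • H.rep + b • H'.rep) ⬝ᵥ P.rep = 0 := by
    rw [add_dotProduct, smul_dotProduct, smul_dotProduct, h, h', smul_zero, smul_zero, add_zero]
  have hz : ∀ f f' : Fin n → F, f ⬝ᵥ P.rep = 0 →
      vecMulVec P.rep f * vecMulVec P.rep f' = 0 := fun f f' hf => by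
    rw [vecMulVec_mul_vecMulVec, hf, zero_smul]; ext i j; simp [vecMulVec]
  have hprod : tv _ _ h a * tv _ _ h' b = tv _ _ hd 1 := by
    apply Subtype.ext
    rw [cmul, tv_coe, tv_coe, tv_coe, mul_add, mul_one, add_mul, one_mul, one_smul, smul_mul_assoc,
      mul_smul_comm, hz _ _ h, smul_zero, smul_zero, add_zero, vecMulVec_add, vecMulVec_smul, vecMulVec_smul,
      add_assoc]
  have hprod' : tv _ _ h' b * tv _ _ h a = tv _ _ hd 1 := by
    apply Subtype.ext
    rw [cmul, tv_coe, tv_coe, tv_coe, mul_add, mul_one, add_mul, one_mul, one_smul, smul_mul_assoc,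
      mul_smul_comm, hz _ _ h', smul_zero, smul_zero, add_zero, vecMulVec_add, vecMulVec_smul, vecMulVec_smul]
    abel
  refine ⟨?_, ?_⟩
  · show toP _ * toP _ = toP _ * toP _
    rw [← map_mul, ← map_mul, hprod, hprod']
  · rw [← map_mul, hprod]
    by_cases hne : a • H.rep + b • H'.rep = 0
    · refine ⟨rootP P H, mem_roots.mpr ⟨P, H, h, rfl⟩, ?_⟩
      rw [show tv _ _ hd 1 = (1 : SLn n F) from Subtype.ext (by rw [tv_coe, hne]; simp [vecMulVec, cone]; rfl), map_one]
      exact Subgroup.one_mem _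
    · exact ⟨_, ⟨_, _, P.rep_nonzero, hne, hd, rfl⟩, (mem_root hd).mpr ⟨1, rfl⟩⟩

theorem pset_eq_of_inter (hn : 2 ≤ n) {P Q : ℙn} {R : Subgroup (PSLn n F)} (h : R ∈ pset P) (h' : R ∈ pset Q) :
    P = Q := by
  obtain ⟨H, h, rfl⟩ := h
  obtain ⟨H', h', he⟩ := h'
  exact (rootP_inj hn h h' he).1

theorem hset_eq_of_inter (hn : 2 ≤ n) {P Q : ℙn} {R : Subgroup (PSLn n F)} (h : R ∈ hset P) (h' : R ∈ hset Q) :
    P = Q := by
  obtain ⟨H, h, rfl⟩ := h
  obtain ⟨H', h', he⟩ := h'
  exact (rootP_inj hn h h' he).2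

theorem pset_not_subset_hset (hn : 3 ≤ n) (P K : ℙn) : ¬ pset P ⊆ hset K := by
  intro hsub
  obtain ⟨H, h⟩ := exists_inc (by omega) P
  obtain ⟨H', h', hne⟩ := exists_inc_ne hn P H
  obtain ⟨Q, hq, e⟩ := hsub ⟨H, h, rfl⟩
  obtain ⟨Q', hq', e'⟩ := hsub ⟨H', h', rfl⟩
  exact hne ((rootP_inj (by omega) h' hq' e').2.trans (rootP_inj (by omega) h hq e).2.symm)

theorem pset_ne_hset (hn : 3 ≤ n) (P K : ℙn) : pset P ≠ hset K :=
  fun h => pset_not_subset_hset hn P K h.subset

theorem pset_inj (hn : 2 ≤ n) {P Q : ℙn} (h : pset P = pset Q) : P = Q := by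
  obtain ⟨H, hH⟩ := exists_inc hn P
  have hmem : rootP P H ∈ pset P := ⟨H, hH, rfl⟩
  exact pset_eq_of_inter hn hmem (h ▸ hmem)

theorem inter_iff (hn : 2 ≤ n) (P H : ℙn) : (∃ R, R ∈ pset P ∧ R ∈ hset H) ↔ inc P H := by
  constructor
  · rintro ⟨R, ⟨H', h', rfl⟩, ⟨P', h, he⟩⟩
    obtain ⟨-, rfl⟩ := rootP_inj hn h' h he
    exact h'
  · exact fun h => ⟨_, ⟨H, h, rfl⟩, ⟨P, h, rfl⟩⟩

theorem exists_superset (hn : 3 ≤ n) {S : Set (Subgroup (PSLn n F))} (hne : S.Nonempty) (hS : S ⊆ roots n F)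
    (hrel : ∀ R ∈ S, ∀ R' ∈ S, RootRel R R') : (∃ P, S ⊆ pset P) ∨ ∃ H, S ⊆ hset H := by
  obtain ⟨R, hR⟩ := hne
  obtain ⟨P, H, h, rfl⟩ := mem_roots.mp (hS hR)
  by_cases hall : S ⊆ hset H
  · exact Or.inr ⟨H, hall⟩
  obtain ⟨R1, hR1, hR1'⟩ := Set.not_subset.mp hall
  obtain ⟨P1, H1, h1, rfl⟩ := mem_roots.mp (hS hR1)
  have hH : H1 ≠ H := fun he => hR1' ⟨P1, he ▸ h1, by rw [he]⟩
  have hP : P1 = P := (rootRel_cases (by omega) h1 h (hrel _ hR1 _ hR)).resolve_right hH
  refine Or.inl ⟨P, fun R2 hR2 => ?_⟩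
  obtain ⟨P2, H2, h2, rfl⟩ := mem_roots.mp (hS hR2)
  rcases rootRel_cases (by omega) h2 h (hrel _ hR2 _ hR) with e | e
  · exact ⟨H2, e ▸ h2, by rw [e]⟩
  rcases rootRel_cases (by omega) h2 h1 (hrel _ hR2 _ hR1) with e' | e'
  · exact ⟨H2, (e'.trans hP) ▸ h2, by rw [e'.trans hP]⟩
  · exact absurd (e'.symm.trans e) hH

variable [Fintype F]

theorem rootRel_map (hn : 2 ≤ n) (φ : MulAut (PSLn n F)) {R R' : Subgroup (PSLn n F)} (h : RootRel R R') :
    RootRel (R.map φ.toMonoidHom) (R'.map φ.toMonoidHom) := by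
  rintro _ ⟨x, hx, rfl⟩ _ ⟨y, hy, rfl⟩
  obtain ⟨hc, R'', hR'', hm⟩ := h x hx y hy
  exact ⟨hc.map φ.toMonoidHom, _, map_mem_roots hn φ hR'', _, hm, map_mul _ _ _⟩

/-- A clique image is a full pencil. -/
theorem mapSet_subset (hn : 3 ≤ n) (φ : MulAut (PSLn n F)) {S : Set (Subgroup (PSLn n F))}
    (hne : S.Nonempty) (hS : S ⊆ roots n F) (hrel : ∀ R ∈ S, ∀ R' ∈ S, RootRel R R') :
    (∃ P, mapSet φ S ⊆ pset P) ∨ ∃ H, mapSet φ S ⊆ hset H := by
  refine exists_superset hn (hne.image _) ?_ ?_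
  · rintro _ ⟨R, hR, rfl⟩
    exact map_mem_roots (by omega) φ (hS hR)
  · rintro _ ⟨R, hR, rfl⟩ _ ⟨R', hR', rfl⟩
    exact rootRel_map (by omega) φ (hrel R hR R' hR')

theorem hset_nonempty (hn : 2 ≤ n) (H : ℙn) : (hset H).Nonempty := by
  obtain ⟨P, hP⟩ := exists_inc hn H
  exact ⟨_, P, inc_comm.mp hP, rfl⟩

theorem mapSet_pset (hn : 3 ≤ n) (φ : MulAut (PSLn n F)) (P : ℙn) :
    (∃ Q, mapSet φ (pset P) = pset Q) ∨ ∃ K, mapSet φ (pset P) = hset K := by
  have hrootsP : ∀ Q : ℙn, pset Q ⊆ roots n F := fun Q R ⟨H, h, e⟩ => mem_roots.mpr ⟨Q, H, h, e⟩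
  have hrootsH : ∀ Q : ℙn, hset Q ⊆ roots n F := fun Q R ⟨P, h, e⟩ => mem_roots.mpr ⟨P, Q, h, e⟩
  have hPne : (pset P).Nonempty := by
    obtain ⟨H, h⟩ := exists_inc (by omega) P
    exact ⟨_, H, h, rfl⟩
  have hrelH : ∀ Q : ℙn, ∀ R ∈ hset Q, ∀ R' ∈ hset Q, RootRel R R' := by
    intro Q R hR R' hR'
    rw [← mapSet_invT_pset] at hR hR'
    obtain ⟨R₁, h₁, rfl⟩ := hR
    obtain ⟨R₂, h₂, rfl⟩ := hR'
    exact rootRel_map (by omega) _ (rootRel_pset h₁ h₂)
  have key : ∀ X : Set (Subgroup (PSLn n F)), mapSet φ (pset P) ⊆ X →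
      ((∃ Q, mapSet φ⁻¹ X ⊆ pset Q) ∨ ∃ K, mapSet φ⁻¹ X ⊆ hset K) → mapSet φ (pset P) = X := by
    intro X hX hback
    have h1 : pset P ⊆ mapSet φ⁻¹ X := by
      have := Set.image_mono (f := Subgroup.map (φ⁻¹ : MulAut (PSLn n F)).toMonoidHom) hX
      change mapSet φ⁻¹ (mapSet φ (pset P)) ⊆ mapSet φ⁻¹ X at this
      rwa [← mapSet_mul, inv_mul_cancel, mapSet_one] at this
    rcases hback with ⟨Q, hQ⟩ | ⟨K, hK⟩
    · obtain ⟨R, hR⟩ := hPne
      obtain rfl := pset_eq_of_inter (by omega) hR (hQ (h1 hR))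
      have := Set.image_mono (f := Subgroup.map φ.toMonoidHom) hQ
      change mapSet φ (mapSet φ⁻¹ X) ⊆ mapSet φ (pset P) at this
      rw [← mapSet_mul, mul_inv_cancel, mapSet_one] at this
      exact Set.Subset.antisymm hX this
    · exact absurd (h1.trans hK) (pset_not_subset_hset hn P K)
  rcases mapSet_subset hn φ hPne (hrootsP P) (fun R hR R' hR' => rootRel_pset hR hR') with ⟨Q, hQ⟩ | ⟨K, hK⟩
  · refine Or.inl ⟨Q, key _ hQ (mapSet_subset hn φ⁻¹ ?_ (hrootsP Q) (fun R hR R' hR' => rootRel_pset hR hR'))⟩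
    exact (hPne.image _).mono hQ
  · exact Or.inr ⟨K, key _ hK (mapSet_subset hn φ⁻¹ ((hPne.image _).mono hK) (hrootsH K) (hrelH K))⟩

/-- `φ` maps point pencils to point pencils. -/
def PointType (φ : MulAut (PSLn n F)) : Prop := ∀ P : ℙn, ∃ Q, mapSet φ (pset P) = pset Q

theorem pointType_or (hn : 3 ≤ n) (φ : MulAut (PSLn n F)) : PointType φ ∨ PointType (invTAut * φ) := by
  haveI : Nonempty (ℙn) := ⟨basePt ⟨0, by omega⟩⟩
  let P₀ : ℙn := Classical.arbitrary _
  -- it suffices to treat the case where one point pencil maps to a point pencil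
  have main : ∀ ψ : MulAut (PSLn n F), (∃ Q, mapSet ψ (pset P₀) = pset Q) → PointType ψ := by
    rintro ψ ⟨Q₀, hQ₀⟩ P
    rcases mapSet_pset hn ψ P with h | ⟨K, hK⟩
    · exact h
    exfalso
    obtain ⟨H, h0, h⟩ := exists_common hn P₀ P
    have himg : (∃ Q, mapSet ψ (hset H) = pset Q) ∨ ∃ K', mapSet ψ (hset H) = hset K' := by
      rw [← mapSet_invT_pset, ← mapSet_mul]
      exact mapSet_pset hn _ H
    rcases himg with ⟨Q, hQ⟩ | ⟨K', hK'⟩
    · obtain ⟨R, hR, hR'⟩ := (inter_iff (by omega) P₀ H).mpr h0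
      have : Q₀ = Q := pset_eq_of_inter (R := R.map ψ.toMonoidHom) (by omega)
        (by rw [← hQ₀]; exact ⟨R, hR, rfl⟩) (by rw [← hQ]; exact ⟨R, hR', rfl⟩)
      exact pset_ne_hset hn P₀ H (mapSet_inj (hQ₀.trans (this ▸ hQ.symm)))
    · obtain ⟨R, hR, hR'⟩ := (inter_iff (by omega) P H).mpr h
      have : K = K' := hset_eq_of_inter (R := R.map ψ.toMonoidHom) (by omega)
        (by rw [← hK]; exact ⟨R, hR, rfl⟩) (by rw [← hK']; exact ⟨R, hR', rfl⟩)
      exact pset_ne_hset hn P H (mapSet_inj (hK.trans (this ▸ hK'.symm)))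
  rcases mapSet_pset hn φ P₀ with h | ⟨K, hK⟩
  · exact Or.inl (main φ h)
  · exact Or.inr (main _ ⟨K, by rw [mapSet_mul, hK, mapSet_invT_hset]⟩)

/-- An automorphism fixing every root group is trivial. -/
theorem eq_one_of_fix (hn : 2 ≤ n) (φ : MulAut (PSLn n F))
    (h : ∀ R ∈ roots n F, R.map φ.toMonoidHom = R) : φ = 1 := by
  refine MulEquiv.ext fun x => ?_
  obtain ⟨s, rfl⟩ := toP_surjective x
  obtain ⟨t, ht⟩ := toP_surjective (φ (toP s))
  rw [MulAut.one_apply, ← ht]
  have hpar : ∀ v : Fin n → F, v ≠ 0 → vup (smat t *ᵥ v) (smat s *ᵥ v) := by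
    intro v hv
    obtain ⟨H, hH⟩ := exists_inc hn (Projectivization.mk F v hv)
    have hd : H.rep ⬝ᵥ v = 0 := by
      rw [← H.mk_rep, inc_mk hv H.rep_nonzero] at hH
      exact hH
    have hmem : root v H.rep ∈ roots n F := ⟨v, _, hv, H.rep_nonzero, hd, rfl⟩
    have hne : smat t *ᵥ v ≠ 0 := fun h0 => by
      have := congrArg (fun u => smat t⁻¹ *ᵥ u) h0
      simp only [mulVec_mulVec, mulVec_zero, ← cmul, inv_mul_cancel, cone, one_mulVec] at this
      exact hv this
    have hne' : H.rep ᵥ* smat t⁻¹ ≠ 0 := fun h0 => by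
      have := congrArg (fun u => u ᵥ* smat t) h0
      simp only [vecMul_vecMul, zero_vecMul, ← cmul, inv_mul_cancel, cone, vecMul_one] at this
      exact H.rep_nonzero this
    have hne'' : smat s *ᵥ v ≠ 0 := fun h0 => by
      have := congrArg (fun u => smat s⁻¹ *ᵥ u) h0
      simp only [mulVec_mulVec, mulVec_zero, ← cmul, inv_mul_cancel, cone, one_mulVec] at this
      exact hv this
    have hne''' : H.rep ᵥ* smat s⁻¹ ≠ 0 := fun h0 => by
      have := congrArg (fun u => u ᵥ* smat s) h0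
      simp only [vecMul_vecMul, zero_vecMul, ← cmul, inv_mul_cancel, cone, vecMul_one] at this
      exact H.rep_nonzero this
    have e : (root v H.rep).map (MulAut.conj (toP t)).toMonoidHom =
        (root v H.rep).map (MulAut.conj (toP s)).toMonoidHom := by
      have h2 := h _ (show (root v H.rep).map (MulAut.conj (toP s)).toMonoidHom ∈ roots n F from
        ⟨_, _, hne'', hne''', conj_dot s v _ hd, map_conj_root s v _ hd⟩)
      rw [ht]
      conv_rhs => rw [← h2]
      conv_lhs => rw [← h _ hmem]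
      rw [Subgroup.map_map, Subgroup.map_map]
      congr 1
      ext y
      simp [MulAut.conj_apply]
    rw [map_conj_root t v _ hd, map_conj_root s v _ hd] at e
    exact (root_inj hn hne hne' (conj_dot t v _ hd) (conj_dot s v _ hd) e).1
  -- every vector is an eigenvector of `u = s⁻¹ t`
  have heig : ∀ v : Fin n → F, v ≠ 0 → ∃ c : F, smat (s⁻¹ * t) *ᵥ v = c • v := by
    intro v hv
    obtain ⟨c, -, hc⟩ := hpar v hv
    refine ⟨c, ?_⟩
    show (smat s⁻¹ * smat t) *ᵥ v = _
    rw [← mulVec_mulVec, hc, mulVec_smul, mulVec_mulVec, ← cmul, inv_mul_cancel, cone, one_mulVec]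
  choose c hc using heig
  let i₀ : Fin n := zf hn
  have hcol : ∀ i j, smat (s⁻¹ * t) i j = if i = j then c _ (single_ne (F := F) j) else 0 := by
    intro i j
    have := congrFun (hc _ (single_ne (F := F) j)) i
    rw [mulVec_single_one] at this
    simpa [Pi.single_apply] using this
  have hsame : ∀ j, c _ (single_ne (F := F) j) = c _ (single_ne (F := F) i₀) := by
    intro j
    rcases eq_or_ne j i₀ with rfl | hj
    · rfl
    have e := hc _ (add_single_ne hj (1 : F))
    rw [mulVec_add, hc _ (single_ne j), hc _ (single_ne i₀)] at e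
    have e1 := congrFun e j
    have e2 := congrFun e i₀
    simp [hj, Ne.symm hj] at e1 e2
    rw [e1, e2]
  set k := c _ (single_ne (F := F) i₀)
  have hmat : smat (s⁻¹ * t) = Matrix.scalar (Fin n) k := by
    ext i j
    rw [hcol i j, hsame j]
    simp [Matrix.diagonal]
  have hdet : k ^ n = 1 := by
    have := (s⁻¹ * t).det_coe
    change (smat (s⁻¹ * t)).det = 1 at this
    rwa [hmat, Matrix.scalar_apply, det_diagonal, Finset.prod_const, Finset.card_univ, Fintype.card_fin] at this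
  symm
  rw [toP_eq_iff]
  refine ⟨k, hdet, ?_⟩
  show smat t = k • smat s
  have : smat t = smat s * smat (s⁻¹ * t) := by
    rw [← cmul, mul_inv_cancel_left]
  rw [this, hmat, Matrix.scalar_apply, ← Matrix.smul_one_eq_diagonal, mul_smul_comm, mul_one]

/-- Automorphisms preserving point pencils are semilinear. -/
theorem exists_semiAut_of_pointType (hn : 3 ≤ n) (φ : MulAut (PSLn n F)) (hφ : PointType φ) :
    ∃ g σ, φ = semiAut g σ := by
  choose B hB using hφ
  have hBinj : Function.Injective B := fun P Q h =>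
    pset_inj (by omega) (mapSet_inj (φ := φ) (by rw [hB, hB, h]))
  haveI : Finite (ℙn) := inferInstance
  have hBs : Function.Surjective B := Finite.surjective_of_injective hBinj
  have hH : ∀ H, ∃ K, mapSet φ (hset H) = hset K := by
    intro H
    rw [← mapSet_invT_pset, ← mapSet_mul]
    rcases mapSet_pset hn (φ * invTAut) H with ⟨Q, hQ⟩ | h
    · exfalso
      obtain ⟨P, rfl⟩ := hBs Q
      rw [mapSet_mul, mapSet_invT_pset, ← hB] at hQ
      exact pset_ne_hset hn P H (mapSet_inj hQ).symm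
    · exact h
  choose D hD using hH
  have hDinj : Function.Injective D := fun P Q h => by
    have : mapSet φ (hset P) = mapSet φ (hset Q) := by rw [hD, hD, h]
    have h2 := mapSet_inj this
    rw [← mapSet_invT_pset, ← mapSet_invT_pset] at h2
    exact pset_inj (by omega) (mapSet_inj h2)
  have hinc : ∀ P H, inc (B P) (D H) ↔ inc P H := by
    intro P H
    rw [← inter_iff (by omega), ← inter_iff (by omega), ← hB, ← hD]
    constructor
    · rintro ⟨_, ⟨R, hR, rfl⟩, ⟨R', hR', he⟩⟩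
      have := Subgroup.map_injective φ.injective he
      exact ⟨R, hR, this ▸ hR'⟩
    · rintro ⟨R, hR, hR'⟩
      exact ⟨_, ⟨R, hR, rfl⟩, ⟨R, hR', rfl⟩⟩
  have hroot : ∀ P H, inc P H → (rootP P H).map φ.toMonoidHom = rootP (B P) (D H) := by
    intro P H h
    have h1 : (rootP P H).map φ.toMonoidHom ∈ pset (B P) := hB P ▸ ⟨_, ⟨H, h, rfl⟩, rfl⟩
    have h2 : (rootP P H).map φ.toMonoidHom ∈ hset (D H) := hD H ▸ ⟨_, ⟨P, h, rfl⟩, rfl⟩
    obtain ⟨H', hH', e⟩ := h1
    obtain ⟨P', hP', e'⟩ := h2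
    rw [e]
    obtain ⟨-, rfl⟩ := rootP_inj (by omega) hH' hP' (e.symm.trans e')
    rfl
  let eB := Equiv.ofBijective B ⟨hBinj, hBs⟩
  let eD := Equiv.ofBijective D ⟨hDinj, Finite.surjective_of_injective hDinj⟩
  have hI : Incid eB eD := ⟨fun P H => by rw [← inc_iff, ← inc_iff]; exact hinc P H⟩
  obtain ⟨g, σ, hgσ⟩ := exists_semilinear hn hI
  refine ⟨g, σ, ?_⟩
  suffices (semiAut g σ)⁻¹ * φ = 1 by rwa [inv_mul_eq_one, eq_comm] at this
  refine eq_one_of_fix (by omega) _ fun R hR => ?_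
  obtain ⟨P, H, h, rfl⟩ := mem_roots.mp hR
  have hs : (rootP P H).map (semiAut g σ).toMonoidHom = rootP (B P) (D H) := by
    have hd : H.rep ⬝ᵥ P.rep = 0 := h
    rw [rootP, map_semiAut_root g σ _ _ hd]
    set v' := (g : Matrix (Fin n) (Fin n) F) *ᵥ fun i => σ (P.rep i) with hv'def
    set f' := (fun i => σ (H.rep i)) ᵥ* ((g⁻¹ : GL (Fin n) F) : Matrix (Fin n) (Fin n) F) with hf'def
    have hv' : v' ≠ 0 := fun h0 => by
      have h1 := Matrix.mulVec_injective_of_isUnit g.isUnit (h0.trans (mulVec_zero _).symm)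
      exact P.rep_nonzero (funext fun i => σ.injective ((congrFun h1 i).trans (map_zero σ).symm))
    have hf' : f' ≠ 0 := fun h0 => by
      have h1 := congrArg (fun u => u ᵥ* (g : Matrix (Fin n) (Fin n) F)) h0
      simp only [hf'def, vecMul_vecMul, zero_vecMul, ← Units.val_mul, inv_mul_cancel, Units.val_one, vecMul_one] at h1
      exact H.rep_nonzero (funext fun i => σ.injective ((congrFun h1 i).trans (map_zero σ).symm))
    rw [← rootP_mk hv' hf']
    have hP : Projectivization.mk F v' hv' = B P := by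
      rw [← hgσ P.rep P.rep_nonzero hv', Projectivization.mk_rep]
      rfl
    have hH' : Projectivization.mk F f' hf' = D H := by
      obtain ⟨K, hK⟩ := eD.surjective (Projectivization.mk F f' hf')
      change D K = _ at hK
      suffices K = H by rw [← hK, this]
      have hsame : ∀ v, v ≠ 0 → (K.rep ⬝ᵥ v = 0 ↔ H.rep ⬝ᵥ v = 0) := by
        intro v hv
        have hne : ((g : Matrix (Fin n) (Fin n) F) *ᵥ fun i => σ (v i)) ≠ 0 := fun h0 => by
          have h1 := Matrix.mulVec_injective_of_isUnit g.isUnit (h0.trans (mulVec_zero _).symm)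
          exact hv (funext fun i => σ.injective ((congrFun h1 i).trans (map_zero σ).symm))
        have h1 := hinc (Projectivization.mk F v hv) K
        rw [show B (Projectivization.mk F v hv) = _ from hgσ v hv hne, hK, inc_mk hne hf'] at h1
        rw [show f' ⬝ᵥ ((g : Matrix (Fin n) (Fin n) F) *ᵥ fun i => σ (v i)) = σ (H.rep ⬝ᵥ v) by
          rw [hf'def, ← dotProduct_mulVec, mulVec_mulVec, ← Units.val_mul, inv_mul_cancel, Units.val_one, one_mulVec]
          simp only [dotProduct, ← map_mul, ← map_sum]] at h1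
        rw [EmbeddingLike.map_eq_zero_iff, ← K.mk_rep, inc_mk hv K.rep_nonzero] at h1
        exact h1.symm
      apply eq_of_vup
      by_contra hne
      obtain ⟨w, hw1, hw2⟩ := exists_sep H.rep_nonzero hne K.rep_nonzero
      have hw : w ≠ 0 := fun h0 => by rw [h0, dotProduct_zero] at hw1; exact zero_ne_one hw1
      exact one_ne_zero (hw1.symm.trans ((hsame w hw).mpr hw2))
    rw [hP, hH']
  rw [show ((semiAut g σ)⁻¹ * φ).toMonoidHom = ((semiAut g σ)⁻¹ : MulAut (PSLn n F)).toMonoidHom.comp φ.toMonoidHom from rfl,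
    ← Subgroup.map_map, hroot P H h, ← hs, Subgroup.map_map]
  rw [show ((semiAut g σ)⁻¹ : MulAut (PSLn n F)).toMonoidHom.comp (semiAut g σ).toMonoidHom = MonoidHom.id _ from
    MonoidHom.ext fun x => (semiAut g σ).symm_apply_apply x, Subgroup.map_id]

theorem two_cases (i : Fin 2) : i = 0 ∨ i = 1 := by fin_cases i <;> simp

theorem root_two {v f : Fin 2 → F} (hv : v ≠ 0) (hf : f ≠ 0) (h : f ⬝ᵥ v = 0) :
    root v f = root v ![-(v 1), v 0] := by
  apply root_congr ⟨1, one_ne_zero, (one_smul F v).symm⟩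
  simp [dotProduct, Fin.sum_univ_two] at h
  by_cases h0 : v 0 = 0
  · have h1 : v 1 ≠ 0 := fun h1 => hv (funext fun i => by rcases two_cases i with rfl | rfl <;> assumption)
    have hf1 : f 1 = 0 := by simpa [h0, h1] using h
    have hf0 : f 0 ≠ 0 := fun h2 => hf (funext fun i => by rcases two_cases i with rfl | rfl <;> assumption)
    refine ⟨-(f 0) / v 1, div_ne_zero (neg_ne_zero.mpr hf0) h1, funext fun i => ?_⟩
    rcases two_cases i with rfl | rfl
    · simp; field_simp
    · simp [h0, hf1]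
  · have hf1 : f 1 ≠ 0 := fun h2 => by
      have h3 : f 0 = 0 := by simpa [h2, h0] using h
      exact hf (funext fun i => by rcases two_cases i with rfl | rfl <;> assumption)
    refine ⟨f 1 / v 0, div_ne_zero hf1 h0, funext fun i => ?_⟩
    rcases two_cases i with rfl | rfl
    · simp
      field_simp
      linear_combination h
    · simp; field_simp

/-- Multiplicativity follows from multiplicativity on squares. -/
theorem exists_ringEquiv_of_squares (α : F → F) (hb : Function.Bijective α) (h1 : α 1 = 1)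
    (hadd : ∀ a b, α (a + b) = α a + α b)
    (hsq : ∀ l a : F, α (l * l * a) = α (l * l) * α a) : ∃ σ : F ≃+* F, ∀ a, σ a = α a := by
  classical
  let A : AddSubgroup F :=
    AddSubgroup.ofSub {c | ∀ a, α (c * a) = α c * α a} ⟨1, fun a => by rw [one_mul, h1, one_mul]⟩ (by
      intro x hx y hy a
      let αh : F →+ F := AddMonoidHom.mk' α hadd
      show αh ((x + -y) * a) = αh (x + -y) * αh a
      rw [add_mul, neg_mul, map_add, map_add, map_neg, map_neg, add_mul, neg_mul]
      show α (x * a) + -α (y * a) = α x * α a + -(α y * α a)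
      rw [hx, hy])
  have hA : A = ⊤ := by
    obtain ⟨p, hp⟩ := CharP.exists F
    by_cases hF : ringChar F = 2
    · rw [eq_top_iff]
      rintro c -
      obtain ⟨l, rfl⟩ := FiniteField.isSquare_of_char_two hF c
      exact fun a => hsq l a
    · -- more than half of the elements are squares
      have hodd : Fintype.card F % 2 = 1 := FiniteField.odd_card_of_char_ne_two hF
      let S : Finset F := Finset.univ.image fun l => l * l
      have hS : Fintype.card F + 1 ≤ 2 * S.card := by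
        have hle : Fintype.card F ≤ 2 * (S.card - 1) + 1 := by
          have h0 : (0 : F) ∈ S := Finset.mem_image.mpr ⟨0, by simp⟩
          have hsum := Finset.card_eq_sum_card_image (fun l : F => l * l) Finset.univ
          rw [← Finset.add_sum_erase _ _ h0] at hsum
          have hz : (Finset.univ.filter fun l : F => l * l = 0).card = 1 := by
            rw [Finset.card_eq_one]
            exact ⟨0, by ext l; simp⟩
          have hb2 : ∀ c ∈ S.erase 0, (Finset.univ.filter fun l : F => l * l = c).card ≤ 2 := by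
            intro c hc
            obtain ⟨l, -, rfl⟩ := Finset.mem_image.mp (Finset.mem_of_mem_erase hc)
            refine (Finset.card_le_card (t := {l, -l}) fun m hm => ?_).trans Finset.card_le_two
            have := (Finset.mem_filter.mp hm).2
            simpa using mul_self_eq_mul_self_iff.mp this
          have hb3 := Finset.sum_le_sum hb2
          rw [Finset.sum_const, Finset.card_erase_of_mem h0, smul_eq_mul] at hb3
          rw [Finset.card_univ, hz] at hsum
          omega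
        have : 0 < S.card := Finset.card_pos.mpr ⟨0, Finset.mem_image.mpr ⟨0, by simp⟩⟩
        omega
      have hsub : S.card ≤ Nat.card A := by
        rw [← Nat.card_eq_finsetCard]
        refine Nat.card_le_card_of_injective (fun c => (⟨c.1, ?_⟩ : A)) fun a b hab =>
          Subtype.ext (congrArg (fun z : A => (z : F)) hab)
        obtain ⟨l, -, hl⟩ := Finset.mem_image.mp c.2
        exact hl ▸ fun a => hsq l a
      rw [← AddSubgroup.card_eq_iff_eq_top]
      obtain ⟨k, hk⟩ := AddSubgroup.card_addSubgroup_dvd_card A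
      rw [Nat.card_eq_fintype_card (α := F)] at hk ⊢
      rcases Nat.lt_or_ge k 2 with h | h
      · rcases Nat.lt_or_ge k 1 with h' | h'
        · rw [Nat.lt_one_iff.mp h', mul_zero] at hk
          exact absurd hk Fintype.card_ne_zero
        · rw [hk, show k = 1 by omega, mul_one]
      · have : 2 * Nat.card A ≤ Nat.card A * k := by rw [mul_comm]; exact Nat.mul_le_mul_left _ h
        omega
  refine ⟨{ Equiv.ofBijective α hb with
    map_mul' := fun a b => (hA ▸ AddSubgroup.mem_top a : a ∈ A) b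
    map_add' := hadd }, fun a => rfl⟩

/-- For `n = 2` every automorphism is semilinear. -/
theorem exists_semiAut_two (φ : MulAut (PSLn 2 F)) : ∃ g σ, φ = semiAut g σ := by
  have he0 : (![1, 0] : Fin 2 → F) ≠ 0 := fun h => one_ne_zero (congrFun h 0)
  have he1 : (![0, 1] : Fin 2 → F) ≠ 0 := fun h => one_ne_zero (congrFun h 1)
  have hx : (![0, 1] : Fin 2 → F) ⬝ᵥ ![1, 0] = 0 := by simp
  have hy : (![1, 0] : Fin 2 → F) ⬝ᵥ ![0, 1] = 0 := by simp
  obtain ⟨v, f, hv, hf, h, hR⟩ := map_mem_roots le_rfl φ (R := root ![1, 0] ![0, 1]) ⟨_, _, he0, he1, hx, rfl⟩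
  obtain ⟨v', f', hv', hf', h', hR'⟩ := map_mem_roots le_rfl φ (R := root ![0, 1] ![1, 0]) ⟨_, _, he1, he0, hy, rfl⟩
  have hdet : (!![v 0, v' 0; v 1, v' 1] : Matrix (Fin 2) (Fin 2) F).det ≠ 0 := by
    intro hd
    have hvv : ∃ c : F, v = c • v' := by
      rw [det_fin_two_of] at hd
      by_cases h0 : v' 0 = 0
      · have h1 : v' 1 ≠ 0 := fun h1 => hv' (funext fun i => by rcases two_cases i with rfl | rfl <;> assumption)
        refine ⟨v 1 / v' 1, funext fun i => ?_⟩
        rcases two_cases i with rfl | rfl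
        · simp [h0]
          rw [h0] at hd
          simpa [h1] using hd
        · simp [h1]
      · refine ⟨v 0 / v' 0, funext fun i => ?_⟩
        rcases two_cases i with rfl | rfl
        · simp [h0]
        · simp
          field_simp
          linear_combination -hd
    obtain ⟨c, rfl⟩ := hvv
    have hc : c ≠ 0 := fun hc => hv (by rw [hc, zero_smul])
    have he : root (c • v') f = root v' f' := by
      rw [root_congr (⟨c, hc, rfl⟩ : vup (c • v') v') ⟨1, one_ne_zero, (one_smul F f).symm⟩]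
      have hfv' : f ⬝ᵥ v' = 0 := by simpa [dotProduct_smul, hc] using h
      rw [root_two hv' hf hfv', root_two hv' hf' h']
    have := Subgroup.map_injective φ.injective ((hR.trans he).trans hR'.symm)
    obtain ⟨⟨d, hd0, hd1⟩, -⟩ := root_inj le_rfl he0 he1 hx hy this
    simpa using congrFun hd1 0
  let g : GL (Fin 2) F := Matrix.GeneralLinearGroup.mkOfDetNeZero _ hdet
  let φ₁ := (semiAut g (RingEquiv.refl F))⁻¹ * φ
  have hcol : ∀ (u : Fin 2 → F) (e e' : Fin 2 → F) (hd : e' ⬝ᵥ e = 0) (u' : Fin 2 → F),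
      (g : Matrix (Fin 2) (Fin 2) F) *ᵥ e = u → u ≠ 0 → u' ≠ 0 → u' ⬝ᵥ u = 0 → e' ≠ 0 →
      (root e e').map φ.toMonoidHom = root u u' → (root e e').map φ₁.toMonoidHom = root e e' := by
    intro u e e' hd u' hu hu0 hu'0 hdu he' hm
    have h2 : (root e e').map (semiAut g (RingEquiv.refl F)).toMonoidHom = root u u' := by
      rw [map_semiAut_root g _ e e' hd]
      have hd' := semi_dot g (RingEquiv.refl F) hd
      simp only [RingEquiv.refl_apply] at hd' ⊢
      rw [hu] at hd' ⊢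
      have hne : e' ᵥ* ((g⁻¹ : GL (Fin 2) F) : Matrix (Fin 2) (Fin 2) F) ≠ 0 := fun h0 => by
        have h1 := congrArg (fun z => z ᵥ* (g : Matrix (Fin 2) (Fin 2) F)) h0
        simp only [vecMul_vecMul, zero_vecMul, ← Units.val_mul, inv_mul_cancel, Units.val_one, vecMul_one] at h1
        exact he' h1
      rw [root_two hu0 hne hd', root_two hu0 hu'0 hdu]
    rw [show φ₁.toMonoidHom = ((semiAut g (RingEquiv.refl F))⁻¹ : MulAut (PSLn 2 F)).toMonoidHom.comp φ.toMonoidHom from rfl,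
      ← Subgroup.map_map, hm, ← h2, Subgroup.map_map,
      show ((semiAut g (RingEquiv.refl F))⁻¹ : MulAut (PSLn 2 F)).toMonoidHom.comp (semiAut g (RingEquiv.refl F)).toMonoidHom = MonoidHom.id _ from
        MonoidHom.ext fun x => (semiAut g _).symm_apply_apply x, Subgroup.map_id]
  have hfix0 : (root (![1, 0] : Fin 2 → F) ![0, 1]).map φ₁.toMonoidHom = root ![1, 0] ![0, 1] :=
    hcol v _ _ hx f (by ext i; rcases two_cases i with rfl | rfl <;> simp [g, mulVec, dotProduct]) hv hf h he1 hR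
  have hfix1 : (root (![0, 1] : Fin 2 → F) ![1, 0]).map φ₁.toMonoidHom = root ![0, 1] ![1, 0] :=
    hcol v' _ _ hy f' (by ext i; rcases two_cases i with rfl | rfl <;> simp [g, mulVec, dotProduct]) hv' hf' h' he0 hR'
  -- the action on the first root group
  have hα : ∀ a, ∃ b, φ₁ (toP (tv _ _ hx a)) = toP (tv _ _ hx b) := by
    intro a
    have : φ₁ (toP (tv _ _ hx a)) ∈ root (![1, 0] : Fin 2 → F) ![0, 1] := by
      rw [← hfix0]
      exact ⟨_, (mem_root hx).mpr ⟨a, rfl⟩, rfl⟩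
    obtain ⟨b, hb⟩ := (mem_root hx).mp this
    exact ⟨b, hb.symm⟩
  choose α hα using hα
  have hinjX := tv_injective (le_refl 2) he0 he1 hx
  have hadd : ∀ a b, α (a + b) = α a + α b := fun a b => hinjX (by
    show toP (tv _ _ hx (α (a + b))) = toP (tv _ _ hx (α a + α b))
    rw [← hα, tv_add, tv_add, map_mul, map_mul, map_mul, hα, hα])
  have hαinj : Function.Injective α := fun a b hab =>
    hinjX (φ₁.injective (show φ₁ (toP (tv _ _ hx a)) = φ₁ (toP (tv _ _ hx b)) by rw [hα, hα, hab]))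
  have hα1 : α 1 ≠ 0 := fun h => one_ne_zero (hαinj (h.trans (show α 0 = 0 by simpa using hadd 0 0).symm))
  -- normalise `α 1 = 1`
  let dg : GL (Fin 2) F := Matrix.GeneralLinearGroup.mkOfDetNeZero !![α 1, 0; 0, 1] (by simp [det_fin_two_of, hα1])
  have hdg0 : (dg : Matrix (Fin 2) (Fin 2) F) *ᵥ ![1, 0] = α 1 • ![1, 0] := by
    ext i; rcases two_cases i with rfl | rfl <;> simp [dg, mulVec, dotProduct]
  have hdg1 : ![0, 1] ᵥ* ((dg⁻¹ : GL (Fin 2) F) : Matrix (Fin 2) (Fin 2) F) = ![0, 1] := by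
    have : (![0, 1] : Fin 2 → F) ᵥ* (dg : Matrix (Fin 2) (Fin 2) F) = ![0, 1] := by
      ext i; rcases two_cases i with rfl | rfl <;> simp [dg, vecMul, dotProduct]
    conv_lhs => rw [← this]
    rw [vecMul_vecMul, ← Units.val_mul, mul_inv_cancel, Units.val_one, vecMul_one]
  have hdgx : ∀ a, semiAut dg (RingEquiv.refl F) (toP (tv _ _ hx a)) = toP (tv _ _ hx (α 1 * a)) := by
    intro a
    rw [semiAut_tv]
    refine congrArg toP (Subtype.ext ?_)
    simp only [tv_coe, RingEquiv.refl_apply]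
    show 1 + a • vecMulVec ((dg : Matrix (Fin 2) (Fin 2) F) *ᵥ ![1, 0]) (![0, 1] ᵥ* _) = _
    rw [hdg0, hdg1, smul_vecMulVec, smul_smul, mul_comm]
  let φ₂ := (semiAut dg (RingEquiv.refl F))⁻¹ * φ₁
  let β : F → F := fun a => α a / α 1
  have hβ : ∀ a, φ₂ (toP (tv _ _ hx a)) = toP (tv _ _ hx (β a)) := by
    intro a
    show (semiAut dg (RingEquiv.refl F)).symm (φ₁ (toP (tv _ _ hx a))) = _
    rw [MulEquiv.symm_apply_eq, hα, hdgx, mul_div_cancel₀ _ hα1]
  have hfix1' : (root (![0, 1] : Fin 2 → F) ![1, 0]).map φ₂.toMonoidHom = root ![0, 1] ![1, 0] := by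
    have h2 : (root (![0, 1] : Fin 2 → F) ![1, 0]).map (semiAut dg (RingEquiv.refl F)).toMonoidHom = root ![0, 1] ![1, 0] := by
      rw [map_semiAut_root dg _ _ _ hy]
      simp only [RingEquiv.refl_apply]
      have e1 : (dg : Matrix (Fin 2) (Fin 2) F) *ᵥ ![0, 1] = ![0, 1] := by
        ext i; rcases two_cases i with rfl | rfl <;> simp [dg, mulVec, dotProduct]
      have hd' := semi_dot dg (RingEquiv.refl F) hy
      simp only [RingEquiv.refl_apply] at hd'
      rw [e1] at hd' ⊢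
      have hne : ![1, 0] ᵥ* ((dg⁻¹ : GL (Fin 2) F) : Matrix (Fin 2) (Fin 2) F) ≠ 0 := fun h0 => by
        have h1 := congrArg (fun z => z ᵥ* (dg : Matrix (Fin 2) (Fin 2) F)) h0
        simp only [vecMul_vecMul, zero_vecMul, ← Units.val_mul, inv_mul_cancel, Units.val_one, vecMul_one] at h1
        exact he0 h1
      rw [root_two he1 hne hd', root_two he1 he0 hy]
    conv_rhs => rw [← Subgroup.map_id (root (![0, 1] : Fin 2 → F) ![1, 0]),
      show MonoidHom.id (PSLn 2 F) = ((semiAut dg (RingEquiv.refl F))⁻¹ : MulAut (PSLn 2 F)).toMonoidHom.comp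
        (semiAut dg (RingEquiv.refl F)).toMonoidHom from (MonoidHom.ext fun x => (semiAut dg _).symm_apply_apply x).symm,
      ← Subgroup.map_map, h2]
    rw [show φ₂.toMonoidHom = ((semiAut dg (RingEquiv.refl F))⁻¹ : MulAut (PSLn 2 F)).toMonoidHom.comp φ₁.toMonoidHom from rfl,
      ← Subgroup.map_map, hfix1]
  have hβ1 : β 1 = 1 := div_self hα1
  have hβadd : ∀ a b, β (a + b) = β a + β b := fun a b => by
    show α (a + b) / α 1 = α a / α 1 + α b / α 1
    rw [hadd, add_div]
  have hβinj : Function.Injective β := fun a b hab => hαinj ((div_left_inj' hα1).mp hab)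
  have hβbij : Function.Bijective β := Finite.injective_iff_bijective.mp hβinj
  have hfix0' : (root (![1, 0] : Fin 2 → F) ![0, 1]).map φ₂.toMonoidHom = root ![1, 0] ![0, 1] :=
    map_root hx hx β hβbij.2 hβ
  have hsquares : ∀ l a : F, β (l * l * a) = β (l * l) * β a := by
    intro l a
    have hβ0 : β 0 = 0 := by simpa using hβadd 0 0
    rcases eq_or_ne l 0 with rfl | hl
    · simp [hβ0]
    let s : SLn 2 F := ⟨!![l, 0; 0, l⁻¹], by simp [det_fin_two_of, hl]⟩
    obtain ⟨t, ht⟩ := toP_surjective (φ₂ (toP s))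
    have hs : ∀ b, toP (s * tv _ _ hx b * s⁻¹) = toP (tv _ _ hx (l * l * b)) := by
      intro b
      refine congrArg toP (Subtype.ext ?_)
      show smat (s * tv _ _ hx b * s⁻¹) = _
      rw [tv_coe]
      show !![l, 0; 0, l⁻¹] * (1 + b • vecMulVec ![1, 0] ![0, 1]) * Matrix.adjugate !![l, 0; 0, l⁻¹] = _
      rw [adjugate_fin_two_of]
      ext i j
      rcases two_cases i with rfl | rfl <;> rcases two_cases j with rfl | rfl <;>
        simp [Matrix.mul_apply, Matrix.vecMul, dotProduct, Fin.sum_univ_two, vecMulVec, Matrix.one_apply, hl] <;> ring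
    have hconj : ∀ b, toP (tv _ _ (conj_dot t _ _ hx) (β b)) = toP (tv _ _ hx (β (l * l * b))) := by
      intro b
      rw [← conj_tv t _ _ hx, map_mul, map_mul, map_inv, ht, ← hβ, ← map_mul, ← map_inv, ← map_mul, ← map_inv,
        ← map_mul, ← map_mul, hs, hβ]
    have e1 := toP_tv_inj le_rfl _ hx (hconj 1)
    have e2 := toP_tv_inj le_rfl _ hx (hconj a)
    rw [mul_one, hβ1, one_smul] at e1
    rw [e1, smul_smul] at e2
    have := congrFun (congrFun e2 0) 1
    simp [vecMulVec] at this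
    linear_combination -this
  obtain ⟨σ, hσ⟩ := exists_ringEquiv_of_squares β hβbij hβ1 hβadd hsquares
  let φ₃ := (semiAut (1 : GL (Fin 2) F) σ)⁻¹ * φ₂
  have hσe0 : ((1 : GL (Fin 2) F) : Matrix (Fin 2) (Fin 2) F) *ᵥ (fun i => σ (![1, 0] i)) = ![1, 0] := by
    rw [Units.val_one, one_mulVec]
    funext i; rcases two_cases i with rfl | rfl <;> simp
  have hσe1' : ((1 : GL (Fin 2) F) : Matrix (Fin 2) (Fin 2) F) *ᵥ (fun i => σ (![0, 1] i)) = ![0, 1] := by
    rw [Units.val_one, one_mulVec]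
    funext i; rcases two_cases i with rfl | rfl <;> simp
  have hσe1 : (fun i => σ (![0, 1] i)) ᵥ* (((1 : GL (Fin 2) F)⁻¹ : GL (Fin 2) F) : Matrix (Fin 2) (Fin 2) F) = ![0, 1] := by
    rw [inv_one, Units.val_one, vecMul_one]
    funext i; rcases two_cases i with rfl | rfl <;> simp
  have hσe0' : (fun i => σ (![1, 0] i)) ᵥ* (((1 : GL (Fin 2) F)⁻¹ : GL (Fin 2) F) : Matrix (Fin 2) (Fin 2) F) = ![1, 0] := by
    rw [inv_one, Units.val_one, vecMul_one]
    funext i; rcases two_cases i with rfl | rfl <;> simp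
  have hpt : ∀ a, φ₃ (toP (tv _ _ hx a)) = toP (tv _ _ hx a) := by
    intro a
    show (semiAut (1 : GL (Fin 2) F) σ).symm (φ₂ (toP (tv _ _ hx a))) = _
    rw [MulEquiv.symm_apply_eq, hβ, semiAut_tv, tv_congr hσe0 hσe1 _ hx, hσ]
  have hR1 : (root (![0, 1] : Fin 2 → F) ![1, 0]).map φ₃.toMonoidHom = root ![0, 1] ![1, 0] := by
    have h2 : (root (![0, 1] : Fin 2 → F) ![1, 0]).map (semiAut (1 : GL (Fin 2) F) σ).toMonoidHom = root ![0, 1] ![1, 0] := by
      rw [map_semiAut_root _ _ _ _ hy, hσe1', hσe0']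
    conv_rhs => rw [← Subgroup.map_id (root (![0, 1] : Fin 2 → F) ![1, 0]),
      show MonoidHom.id (PSLn 2 F) = ((semiAut (1 : GL (Fin 2) F) σ)⁻¹ : MulAut (PSLn 2 F)).toMonoidHom.comp
        (semiAut (1 : GL (Fin 2) F) σ).toMonoidHom from (MonoidHom.ext fun x => (semiAut (1 : GL (Fin 2) F) σ).symm_apply_apply x).symm,
      ← Subgroup.map_map, h2]
    rw [show φ₃.toMonoidHom = ((semiAut (1 : GL (Fin 2) F) σ)⁻¹ : MulAut (PSLn 2 F)).toMonoidHom.comp φ₂.toMonoidHom from rfl,
      ← Subgroup.map_map, hfix1']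
  have h3 : φ₃ = 1 := by
    refine eq_one_of_fix le_rfl φ₃ ?_
    rintro R ⟨u, u', hu, hu', hd, rfl⟩
    by_cases h1 : u 1 = 0
    · have h0 : u 0 ≠ 0 := fun h0 => hu (funext fun i => by rcases two_cases i with rfl | rfl <;> assumption)
      have e : root u u' = root ![1, 0] ![0, 1] := by
        rw [root_two hu hu' hd]
        refine root_congr ⟨u 0, h0, ?_⟩ ⟨u 0, h0, ?_⟩ <;>
          (funext i; rcases two_cases i with rfl | rfl <;> simp [h1])
      rw [e]
      exact map_root hx hx id Function.surjective_id hpt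
    · set c := u 0 / u 1
      have hne2 : (![1, 0] : Fin 2 → F) ᵥ* smat (tv _ _ hx c)⁻¹ ≠ 0 := fun h0 => by
        have h1' := congrArg (fun z => z ᵥ* smat (tv _ _ hx c)) h0
        simp only [vecMul_vecMul, zero_vecMul, ← cmul, inv_mul_cancel, cone, vecMul_one] at h1'
        exact he0 h1'
      have hxe : smat (tv _ _ hx c) *ᵥ ![0, 1] = ![c, 1] := by
        rw [smat, tv_coe, add_mulVec, one_mulVec, smul_mulVec, vecMulVec_mulVec]
        funext i; rcases two_cases i with rfl | rfl <;> simp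
      have hcne : (![c, 1] : Fin 2 → F) ≠ 0 := fun h0 => one_ne_zero (congrFun h0 1)
      have hd' := conj_dot (tv _ _ hx c) _ _ hy
      rw [show ((tv _ _ hx c : SLn 2 F) : Matrix (Fin 2) (Fin 2) F) *ᵥ ![0, 1] = ![c, 1] from hxe] at hd'
      have e : root u u' = (root (![0, 1] : Fin 2 → F) ![1, 0]).map (MulAut.conj (toP (tv _ _ hx c))).toMonoidHom := by
        rw [map_conj_root _ _ _ hy, show ((tv _ _ hx c : SLn 2 F) : Matrix (Fin 2) (Fin 2) F) *ᵥ ![0, 1] = ![c, 1] from hxe,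
          root_two hcne hne2 hd', root_two hu hu' hd]
        refine root_congr ⟨u 1, h1, ?_⟩ ⟨u 1, h1, ?_⟩ <;>
          (funext i; rcases two_cases i with rfl | rfl <;> simp [c] <;> field_simp)
      rw [e, Subgroup.map_map]
      conv_rhs => rw [← hR1, Subgroup.map_map]
      congr 1
      refine MonoidHom.ext fun y => ?_
      simp [MulAut.conj_apply, hpt]
  have hφ : φ = semiAut g (RingEquiv.refl F) * (semiAut dg (RingEquiv.refl F) * semiAut (1 : GL (Fin 2) F) σ) := by
    simp only [φ₃, φ₂, φ₁] at h3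
    rw [inv_mul_eq_one] at h3
    rw [h3]
    group
  rw [semiAut_mul, semiAut_mul] at hφ
  exact ⟨_, _, hφ⟩

/-- Every automorphism is semilinear, up to inverse transpose. -/
theorem exists_decomp (hn : 2 ≤ n) (φ : MulAut (PSLn n F)) :
    ∃ g σ, φ = semiAut g σ ∨ (3 ≤ n ∧ φ = semiAut g σ * invTAut) := by
  rcases Nat.lt_or_ge n 3 with h | h
  · obtain rfl : n = 2 := by omega
    obtain ⟨g, σ, hg⟩ := exists_semiAut_two φ
    exact ⟨g, σ, Or.inl hg⟩
  · rcases pointType_or h φ with hp | hp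
    · obtain ⟨g, σ, hg⟩ := exists_semiAut_of_pointType h φ hp
      exact ⟨g, σ, Or.inl hg⟩
    · obtain ⟨g, σ, hg⟩ := exists_semiAut_of_pointType h _ hp
      refine ⟨contra g, σ, Or.inr ⟨h, ?_⟩⟩
      rw [← invTAut_mul_semiAut, ← hg, ← mul_assoc, invTAut_mul_self, one_mul]

omit [Fintype F] in
/-- A semilinear automorphism determines the field automorphism and the matrix up to scalars. -/
theorem eq_of_semiAut_eq_one (hn : 2 ≤ n) {g : GL (Fin n) F} {σ : F ≃+* F} (h : semiAut g σ = 1) :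
    σ = RingEquiv.refl F ∧ ∃ c : Fˣ, g = Matrix.GeneralLinearGroup.scalar (Fin n) c := by
  have hv : ∀ v : Fin n → F, v ≠ 0 → ∃ c : F, (g : Matrix (Fin n) (Fin n) F) *ᵥ (fun i => σ (v i)) = c • v := by
    intro v hv
    obtain ⟨H, hH⟩ := exists_inc hn (Projectivization.mk F v hv)
    rw [← H.mk_rep, inc_mk hv H.rep_nonzero] at hH
    have e := map_semiAut_root g σ v H.rep hH
    rw [h, show (1 : MulAut (PSLn n F)).toMonoidHom = MonoidHom.id _ from rfl, Subgroup.map_id] at e
    obtain ⟨⟨c, hc0, hc⟩, -⟩ := root_inj hn hv H.rep_nonzero hH (semi_dot g σ hH) e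
    refine ⟨c⁻¹, ?_⟩
    conv_rhs => rw [hc, smul_smul, inv_mul_cancel₀ hc0, one_smul]
  choose c hc using hv
  let i₀ : Fin n := zf hn
  have hcol : ∀ i j, (g : Matrix (Fin n) (Fin n) F) i j = if i = j then c _ (single_ne (F := F) j) else 0 := by
    intro i j
    have := congrFun (hc _ (single_ne (F := F) j)) i
    rw [show (fun i => σ ((Pi.single j (1 : F) : Fin n → F) i)) = Pi.single j 1 from
      funext fun i => by rcases eq_or_ne i j with rfl | h <;> simp [*]] at this
    rw [mulVec_single_one] at this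
    simpa [Pi.single_apply] using this
  have hg0 : ∀ j, c _ (single_ne (F := F) j) ≠ 0 := by
    intro j h0
    have hcl : (g : Matrix (Fin n) (Fin n) F) *ᵥ Pi.single j 1 = 0 := by
      rw [mulVec_single_one]; funext i; simp [hcol, h0]
    exact single_ne (F := F) j (Matrix.mulVec_injective_of_isUnit g.isUnit (hcl.trans (mulVec_zero _).symm))
  have hpair : ∀ j, j ≠ i₀ → ∀ a : F, ∀ k : F,
      (g : Matrix (Fin n) (Fin n) F) *ᵥ (fun i => σ ((Pi.single i₀ (1 : F) + Pi.single j a : Fin n → F) i)) =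
        k • (Pi.single i₀ (1 : F) + Pi.single j a) →
      c _ (single_ne (F := F) i₀) = k ∧ c _ (single_ne (F := F) j) * σ a = k * a := by
    intro j hj a k e
    have hσv : (fun i => σ ((Pi.single i₀ (1 : F) + Pi.single j a : Fin n → F) i)) = Pi.single i₀ 1 + Pi.single j (σ a) := by
      funext i
      rcases eq_or_ne i i₀ with rfl | h1
      · simp [Ne.symm hj]
      rcases eq_or_ne i j with rfl | h2 <;> simp [*]
    rw [hσv, mulVec_add, mulVec_single, mulVec_single] at e
    have e1 := congrFun e i₀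
    have e2 := congrFun e j
    simp [hcol, hj, Ne.symm hj] at e1 e2
    exact ⟨e1, by rw [mul_comm]; exact e2⟩
  obtain ⟨j₁, hj₁⟩ : ∃ j : Fin n, j ≠ i₀ := by
    haveI := Fin.nontrivial_iff_two_le.mpr hn
    exact exists_ne i₀
  have hsame : ∀ j, c _ (single_ne (F := F) j) = c _ (single_ne (F := F) i₀) := by
    intro j
    rcases eq_or_ne j i₀ with rfl | hj
    · rfl
    obtain ⟨h1, h2⟩ := hpair j hj 1 _ (hc _ (add_single_ne (Ne.symm hj) 1))
    rw [map_one, mul_one, mul_one, ← h1] at h2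
    exact h2
  refine ⟨RingEquiv.ext fun a => ?_, Units.mk0 _ (hg0 i₀), Units.ext ?_⟩
  · obtain ⟨h1, h2⟩ := hpair j₁ hj₁ a _ (hc _ (add_single_ne (Ne.symm hj₁) a))
    rw [← h1, hsame] at h2
    exact mul_left_cancel₀ (hg0 i₀) h2
  · ext i j
    rw [hcol, hsame, Matrix.GeneralLinearGroup.coe_scalar]
    simp [Matrix.diagonal]

theorem semiAut_inv (g : GL (Fin n) F) (σ : F ≃+* F) :
    (semiAut g σ)⁻¹ = semiAut (glMap σ.symm g⁻¹) σ.symm := by
  refine inv_eq_of_mul_eq_one_left ?_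
  rw [semiAut_mul, ← map_mul, inv_mul_cancel, map_one,
    show σ.trans σ.symm = RingEquiv.refl F from RingEquiv.ext fun x => σ.symm_apply_apply x]
  exact semiAut_one

/-- For `n ≥ 3` inverse transpose is not semilinear. -/
theorem semiAut_ne_invT (hn : 3 ≤ n) (g h : GL (Fin n) F) (σ τ : F ≃+* F) :
    semiAut g σ ≠ semiAut h τ * invTAut := by
  intro e
  have e' : semiAut (glMap τ.symm h⁻¹ * glMap τ.symm g) (σ.trans τ.symm) = invTAut := by
    rw [← semiAut_mul, ← semiAut_inv, e, inv_mul_cancel_left]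
  set k := glMap τ.symm h⁻¹ * glMap τ.symm g
  set ρ := σ.trans τ.symm
  obtain ⟨H, hH⟩ := exists_inc (by omega : 2 ≤ n) (basePt (F := F) (⟨0, by omega⟩ : Fin n))
  obtain ⟨H', hH', hne⟩ := exists_inc_ne hn (basePt (F := F) (⟨0, by omega⟩ : Fin n)) H
  set v := (basePt (F := F) (⟨0, by omega⟩ : Fin n)).rep with hvdef
  have hv : v ≠ 0 := Projectivization.rep_nonzero _
  have key : ∀ K : ℙn, K.rep ⬝ᵥ v = 0 → vup K.rep ((k : Matrix (Fin n) (Fin n) F) *ᵥ fun i => ρ (v i)) := by
    intro K hK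
    have hd : v ⬝ᵥ K.rep = 0 := by rw [dotProduct_comm, hK]
    have := map_semiAut_root k ρ v K.rep hK
    rw [e', map_invTAut_root v K.rep hK] at this
    exact (root_inj (by omega) K.rep_nonzero hv hd (semi_dot k ρ hK) this).1
  obtain ⟨c, hc, e1⟩ := key H hH
  obtain ⟨d, hd, e2⟩ := key H' hH'
  refine hne (eq_of_vup ⟨d * c⁻¹, mul_ne_zero hd (inv_ne_zero hc), ?_⟩)
  conv_rhs => rw [e1]
  rw [smul_smul, mul_assoc, inv_mul_cancel₀ hc, mul_one, ← e2]

end Cfsg.Agent.H56
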