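import Mathlib
import Cfsg.Prelude.Def_KGroupFacts
import Cfsg.Agent.H56.AutPSL
import Cfsg.Agent.Linear.Generation

/-! The outer automorphism group of `PSL_n(F)`. -/

set_option autoImplicit false

namespace Cfsg.Agent.H56

open Matrix
open scoped MatrixGroups

section RingAutFinite

variable (F : Type*) [Field F] [Fintype F]

/-- The automorphism group of a field with `p ^ f` elements is cyclic of order `f`. -/
theorem ringAut_equiv {p f : ℕ} [Fact p.Prime] (hf : 1 ≤ f) (hF : Fintype.card F = p ^ f) :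
    Nonempty (RingAut F ≃* Multiplicative (ZMod f)) := by
  obtain ⟨r, hr⟩ := CharP.exists F
  obtain ⟨k, hrp, hk⟩ := FiniteField.card F r
  have hpr : r = p := by
    have hd : r ∣ p ^ f := hF ▸ hk ▸ dvd_pow_self r k.pos.ne'
    exact (Nat.prime_dvd_prime_iff_eq hrp Fact.out).mp (hrp.dvd_of_dvd_pow hd)
  subst hpr
  letI := ZMod.algebra F r
  have hfin : Module.finrank (ZMod r) F = f := by
    have h := Module.card_eq_pow_finrank (K := ZMod r) (V := F)
    rw [hF, ZMod.card] at h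
    exact (Nat.pow_right_injective hrp.two_le h).symm
  let e : RingAut F ≃* (F ≃ₐ[ZMod r] F) :=
    { toFun := fun σ => AlgEquiv.ofRingEquiv (f := σ)
        (fun x => RingHom.congr_fun (Subsingleton.elim ((σ : F →+* F).comp (algebraMap (ZMod r) F)) (algebraMap (ZMod r) F)) x)
      invFun := fun g => g.toRingEquiv
      left_inv := fun σ => RingEquiv.ext fun x => rfl
      right_inv := fun g => AlgEquiv.ext fun x => rfl
      map_mul' := fun σ τ => AlgEquiv.ext fun x => rfl }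
  have hcard : Nat.card (RingAut F) = f := by
    rw [Nat.card_congr e.toEquiv, ← Nat.card_eq_of_bijective _
      (FiniteField.bijective_frobeniusAlgEquivOfAlgebraic_pow (ZMod r) F), Nat.card_eq_fintype_card,
      Fintype.card_fin, hfin]
  haveI : IsCyclic (RingAut F) := isCyclic_of_surjective e.symm e.symm.surjective
  exact ⟨(zmodCyclicMulEquiv (G := RingAut F) inferInstance).symm.trans
    (hcard ▸ MulEquiv.refl _)⟩

end RingAutFinite

variable {F : Type*} [Field F] [Fintype F] {n : ℕ}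

theorem invTAut_inv : (invTAut : MulAut (PSLn n F))⁻¹ = invTAut :=
  inv_eq_of_mul_eq_one_right invTAut_mul_self

/-- `σ` is the field part of `φ`. -/
def IsFieldPart (φ : MulAut (PSLn n F)) (σ : F ≃+* F) : Prop :=
  ∃ g, φ = semiAut g σ ∨ (3 ≤ n ∧ φ = semiAut g σ * invTAut)

theorem eq_of_semiAut (hn : 2 ≤ n) {g h : GL (Fin n) F} {σ τ : F ≃+* F}
    (e : semiAut g σ = semiAut h τ) : σ = τ := by
  have e' : semiAut (glMap τ.symm h⁻¹ * glMap τ.symm g) (σ.trans τ.symm) = 1 := by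
    rw [← semiAut_mul, ← semiAut_inv, e, inv_mul_cancel]
  obtain ⟨h1, -⟩ := eq_of_semiAut_eq_one hn e'
  exact RingEquiv.ext fun x => τ.symm.injective ((RingEquiv.congr_fun h1 x).trans (τ.symm_apply_apply x).symm)

theorem fieldPart_unique (hn : 2 ≤ n) {φ : MulAut (PSLn n F)} {σ τ : F ≃+* F} (h1 : IsFieldPart φ σ)
    (h2 : IsFieldPart φ τ) : σ = τ := by
  obtain ⟨g, e1⟩ := h1
  obtain ⟨g', e2⟩ := h2
  rcases e1 with e1 | ⟨h3, e1⟩ <;> rcases e2 with e2 | ⟨h3', e2⟩
  · exact eq_of_semiAut hn (e1.symm.trans e2)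
  · exact absurd (e1.symm.trans e2) (semiAut_ne_invT h3' _ _ _ _)
  · exact absurd (e2.symm.trans e1) (semiAut_ne_invT h3 _ _ _ _)
  · exact eq_of_semiAut hn (mul_right_cancel (e1.symm.trans e2))

theorem fieldPart_mul {φ ψ : MulAut (PSLn n F)} {σ τ : F ≃+* F} (h1 : IsFieldPart φ σ)
    (h2 : IsFieldPart ψ τ) : IsFieldPart (φ * ψ) (τ.trans σ) := by
  obtain ⟨g, e1⟩ := h1
  obtain ⟨g', e2⟩ := h2
  rcases e1 with rfl | ⟨h3, rfl⟩ <;> rcases e2 with rfl | ⟨h3', rfl⟩
  · exact ⟨_, Or.inl (semiAut_mul _ _ _ _)⟩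
  · exact ⟨_, Or.inr ⟨h3', by rw [← mul_assoc, semiAut_mul]⟩⟩
  · exact ⟨_, Or.inr ⟨h3, by rw [mul_assoc, invTAut_mul_semiAut, ← mul_assoc, semiAut_mul]⟩⟩
  · exact ⟨_, Or.inl (by
      rw [mul_assoc, ← mul_assoc invTAut, invTAut_mul_semiAut, mul_assoc, invTAut_mul_self, mul_one,
        semiAut_mul])⟩

theorem exists_fieldPart (hn : 2 ≤ n) (φ : MulAut (PSLn n F)) : ∃ σ, IsFieldPart φ σ := by
  obtain ⟨g, σ, h⟩ := exists_decomp hn φ
  exact ⟨σ, g, h⟩

/-- The field part as a homomorphism. -/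
noncomputable def fieldHom (hn : 2 ≤ n) : MulAut (PSLn n F) →* RingAut F :=
  MonoidHom.mk' (fun φ => Classical.choose (exists_fieldPart hn φ)) fun φ ψ =>
    fieldPart_unique hn (Classical.choose_spec (exists_fieldPart hn (φ * ψ)))
      (fieldPart_mul (Classical.choose_spec (exists_fieldPart hn φ))
        (Classical.choose_spec (exists_fieldPart hn ψ)))

theorem fieldHom_semiAut (hn : 2 ≤ n) (g : GL (Fin n) F) (σ : F ≃+* F) :
    fieldHom hn (semiAut g σ) = σ :=
  fieldPart_unique hn (Classical.choose_spec (exists_fieldPart hn (semiAut g σ))) ⟨g, Or.inl rfl⟩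

theorem fieldHom_invT (hn : 3 ≤ n) : fieldHom (F := F) (by omega : 2 ≤ n) invTAut = 1 :=
  fieldPart_unique (by omega) (Classical.choose_spec (exists_fieldPart (n := n) (F := F) (by omega) invTAut))
    ⟨1, Or.inr ⟨hn, by
      show invTAut = semiAut 1 (RingEquiv.refl F) * invTAut
      rw [semiAut_one, one_mul]⟩⟩

/-- The semilinear automorphisms. -/
def semiGroup (n : ℕ) (F : Type*) [Field F] [Fintype F] : Subgroup (MulAut (PSLn n F)) where
  carrier := {φ | ∃ g σ, φ = semiAut g σ}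
  mul_mem' := by
    rintro _ _ ⟨g, σ, rfl⟩ ⟨h, τ, rfl⟩
    exact ⟨_, _, semiAut_mul g h σ τ⟩
  one_mem' := ⟨_, _, semiAut_one.symm⟩
  inv_mem' := by
    rintro _ ⟨g, σ, rfl⟩
    exact ⟨_, _, semiAut_inv g σ⟩

theorem mem_semiGroup (g : GL (Fin n) F) (σ : F ≃+* F) : semiAut g σ ∈ semiGroup n F := ⟨g, σ, rfl⟩

open Classical in
/-- The graph part as a homomorphism. -/
noncomputable def graphHom (hn : 3 ≤ n) : MulAut (PSLn n F) →* Multiplicative (ZMod 2) :=
  MonoidHom.mk' (fun φ => if φ ∈ semiGroup n F then 1 else Multiplicative.ofAdd 1) fun φ ψ => by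
    have hnot : ∀ g σ, semiAut g σ * invTAut ∉ semiGroup n F := fun g σ ⟨h, τ, e⟩ => semiAut_ne_invT hn h g τ σ e.symm
    obtain ⟨g, σ, e1⟩ := exists_decomp (by omega : 2 ≤ n) φ
    obtain ⟨h, τ, e2⟩ := exists_decomp (by omega : 2 ≤ n) ψ
    rcases e1 with rfl | ⟨-, rfl⟩ <;> rcases e2 with rfl | ⟨-, rfl⟩
    · rw [if_pos (mem_semiGroup g σ), if_pos (mem_semiGroup h τ), semiAut_mul, if_pos (mem_semiGroup _ _), one_mul]
    · rw [if_pos (mem_semiGroup g σ), if_neg (hnot h τ), if_neg, one_mul]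
      rw [← mul_assoc, semiAut_mul]
      exact hnot _ _
    · rw [if_neg (hnot g σ), if_pos (mem_semiGroup h τ), if_neg, mul_one]
      rw [mul_assoc, invTAut_mul_semiAut, ← mul_assoc, semiAut_mul]
      exact hnot _ _
    · rw [if_neg (hnot g σ), if_neg (hnot h τ), if_pos]
      · decide
      · refine ⟨g * glMap σ (contra h), τ.trans σ, ?_⟩
        rw [mul_assoc, ← mul_assoc invTAut, invTAut_mul_semiAut, mul_assoc, invTAut_mul_self, mul_one,
          semiAut_mul]

theorem graphHom_semiAut (hn : 3 ≤ n) (g : GL (Fin n) F) (σ : F ≃+* F) : graphHom hn (semiAut g σ) = 1 := by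
  classical exact if_pos ⟨g, σ, rfl⟩

theorem graphHom_invT (hn : 3 ≤ n) : graphHom (F := F) hn invTAut = Multiplicative.ofAdd 1 := by
  classical
  refine if_neg fun ⟨g, σ, e⟩ => semiAut_ne_invT hn g 1 σ (RingEquiv.refl F) ?_
  rw [semiAut_one, one_mul]
  exact e.symm

theorem fieldHom_inn (hn : 2 ≤ n) : Cfsg.Inn (PSLn n F) ≤ (fieldHom (F := F) hn).ker := by
  rintro _ ⟨x, rfl⟩
  obtain ⟨s, rfl⟩ := toP_surjective x
  rw [MonoidHom.mem_ker, ← semiAut_eq_conj, fieldHom_semiAut]
  rfl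

theorem graphHom_inn (hn : 3 ≤ n) : Cfsg.Inn (PSLn n F) ≤ (graphHom (F := F) hn).ker := by
  rintro _ ⟨x, rfl⟩
  obtain ⟨s, rfl⟩ := toP_surjective x
  rw [MonoidHom.mem_ker, ← semiAut_eq_conj, graphHom_semiAut]

/-- Diagonal automorphisms modulo inner ones. -/
noncomputable def diagOut (hn : 2 ≤ n) : Fˣ →* Cfsg.Out (PSLn n F) :=
  (QuotientGroup.mk' (Cfsg.Inn (PSLn n F))).comp
    (MonoidHom.mk' (fun c => semiAut (Linear.diagGL (Pi.mulSingle (zf hn) c)) (RingEquiv.refl F)) fun a b => by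
      rw [semiAut_mul, show glMap (n := n) (RingEquiv.refl F) = MonoidHom.id _ from
        MonoidHom.ext fun g => Units.ext (by ext i j; rfl), MonoidHom.id_apply, ← Linear.diagGL_mul,
        ← Pi.mulSingle_mul]
      rfl)

theorem det_diag (hn : 2 ≤ n) (c : Fˣ) :
    Matrix.GeneralLinearGroup.det (Linear.diagGL (Pi.mulSingle (zf hn) c : Fin n → Fˣ)) = c := by
  apply Units.ext
  rw [Matrix.GeneralLinearGroup.val_det_apply, Linear.diagGL_coe, det_diagonal,
    Finset.prod_eq_single (zf hn) (fun i _ hi => by simp [Pi.mulSingle_eq_of_ne hi]) (by simp)]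
  simp

theorem diagOut_ker (hn : 2 ≤ n) : (diagOut (F := F) hn).ker = (powMonoidHom n : Fˣ →* Fˣ).range := by
  haveI : Nonempty (Fin n) := ⟨zf hn⟩
  ext c
  rw [MonoidHom.mem_ker, diagOut, MonoidHom.comp_apply, QuotientGroup.mk'_apply, QuotientGroup.eq_one_iff,
    MonoidHom.mk'_apply]
  set d := Linear.diagGL (Pi.mulSingle (zf hn) c : Fin n → Fˣ) with hd
  constructor
  · rintro ⟨x, hx⟩
    obtain ⟨s, rfl⟩ := toP_surjective x
    rw [← semiAut_eq_conj] at hx
    have h2 : semiAut (d * (Matrix.SpecialLinearGroup.toGL s)⁻¹) (RingEquiv.refl F) = 1 := by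
      have : semiAut d (RingEquiv.refl F) * (semiAut (Matrix.SpecialLinearGroup.toGL s) (RingEquiv.refl F))⁻¹ = 1 := by
        rw [← hx, mul_inv_cancel]
      rw [semiAut_inv, semiAut_mul] at this
      exact this
    obtain ⟨-, u, hu⟩ := eq_of_semiAut_eq_one hn h2
    refine ⟨u, ?_⟩
    have h3 := congrArg Matrix.GeneralLinearGroup.det hu
    rw [map_mul, map_inv, det_diag] at h3
    have hs : Matrix.GeneralLinearGroup.det (Matrix.SpecialLinearGroup.toGL s) = 1 := by
      apply Units.ext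
      rw [Matrix.GeneralLinearGroup.val_det_apply]
      exact s.det_coe
    rw [hs, inv_one, mul_one] at h3
    rw [h3, powMonoidHom_apply]
    apply Units.ext
    simp [Matrix.GeneralLinearGroup.val_det_apply, Matrix.GeneralLinearGroup.coe_scalar]
  · rintro ⟨u, rfl⟩
    have hdet : ((Matrix.GeneralLinearGroup.scalar (Fin n) u⁻¹ * d : GL (Fin n) F) : Matrix (Fin n) (Fin n) F).det = 1 := by
      rw [← Matrix.GeneralLinearGroup.val_det_apply, map_mul, det_diag, powMonoidHom_apply]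
      simp [Matrix.GeneralLinearGroup.val_det_apply, Matrix.GeneralLinearGroup.coe_scalar]
    refine ⟨toP ⟨_, hdet⟩, ?_⟩
    refine (semiAut_eq_conj _).symm.trans ?_
    rw [show Matrix.SpecialLinearGroup.toGL ⟨_, hdet⟩ = Matrix.GeneralLinearGroup.scalar (Fin n) u⁻¹ * d from
      Units.ext rfl]
    have := semiAut_mul (Matrix.GeneralLinearGroup.scalar (Fin n) u⁻¹) d (RingEquiv.refl F) (RingEquiv.refl F)
    rw [semiAut_scalar, one_mul, show glMap (n := n) (RingEquiv.refl F) = MonoidHom.id _ from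
      MonoidHom.ext fun g => Units.ext (by ext i j; rfl)] at this
    exact this.symm

theorem diagOut_range (hn : 2 ≤ n) (g : GL (Fin n) F) :
    (QuotientGroup.mk (semiAut g (RingEquiv.refl F)) : Cfsg.Out (PSLn n F)) ∈ (diagOut hn).range := by
  set d := Linear.diagGL (Pi.mulSingle (zf hn) (Matrix.GeneralLinearGroup.det g) : Fin n → Fˣ) with hd
  refine ⟨Matrix.GeneralLinearGroup.det g, ?_⟩
  have hdet : ((g * d⁻¹ : GL (Fin n) F) : Matrix (Fin n) (Fin n) F).det = 1 := by
    rw [← Matrix.GeneralLinearGroup.val_det_apply, map_mul, map_inv, det_diag, mul_inv_cancel, Units.val_one]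
  have hg : semiAut g (RingEquiv.refl F) = MulAut.conj (toP ⟨_, hdet⟩) * semiAut d (RingEquiv.refl F) := by
    rw [show MulAut.conj (toP ⟨_, hdet⟩) = semiAut (Matrix.SpecialLinearGroup.toGL ⟨_, hdet⟩) (RingEquiv.refl F) from
        (semiAut_eq_conj _).symm, semiAut_mul, show glMap (n := n) (RingEquiv.refl F) = MonoidHom.id _ from
      MonoidHom.ext fun g => Units.ext (by ext i j; rfl), MonoidHom.id_apply,
      show Matrix.SpecialLinearGroup.toGL ⟨_, hdet⟩ = g * d⁻¹ from Units.ext rfl, inv_mul_cancel_right]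
    rfl
  rw [hg, QuotientGroup.mk_mul, (QuotientGroup.eq_one_iff (N := Cfsg.Inn (PSLn n F)) (MulAut.conj (toP ⟨_, hdet⟩))).mpr
    (MonoidHom.mem_range.mpr ⟨_, rfl⟩), one_mul]
  rfl

theorem diagOut_card (hn : 2 ≤ n) :
    IsCyclic (diagOut (F := F) hn).range ∧ Nat.card (diagOut (F := F) hn).range = Nat.gcd n (Fintype.card F - 1) := by
  refine ⟨isCyclic_of_surjective _ (diagOut (F := F) hn).rangeRestrict_surjective, ?_⟩
  rw [← Nat.card_congr (QuotientGroup.quotientKerEquivRange (diagOut (F := F) hn)).toEquiv, diagOut_ker,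
    ← Subgroup.index_eq_card]
  have h := Subgroup.card_mul_index (powMonoidHom n : Fˣ →* Fˣ).range
  have hc : Nat.card Fˣ = Fintype.card F - 1 := by rw [Nat.card_units, Nat.card_eq_fintype_card]
  rw [IsCyclic.card_powMonoidHom_range, hc] at h
  have hpos : 0 < Fintype.card F - 1 := by have := Fintype.one_lt_card (α := F); omega
  have hd := Nat.gcd_dvd_left (Fintype.card F - 1) n
  have h2 := Nat.div_mul_cancel hd
  have hq : 0 < (Fintype.card F - 1) / (Fintype.card F - 1).gcd n :=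
    Nat.div_pos (Nat.le_of_dvd hpos hd) (Nat.gcd_pos_of_pos_left _ hpos)
  rw [Nat.gcd_comm]
  exact Nat.eq_of_mul_eq_mul_left hq (h.trans h2.symm)

/-- `GL` maps onto the inner-diagonal automorphisms, with kernel the scalars. -/
noncomputable def pglToAut (hn : 2 ≤ n) : GL (Fin n) F →* MulAut (PSLn n F) :=
  MonoidHom.mk' (fun g => semiAut g (RingEquiv.refl F)) fun a b => by
    rw [semiAut_mul, show glMap (n := n) (RingEquiv.refl F) = MonoidHom.id _ from
      MonoidHom.ext fun g => Units.ext (by ext i j; rfl)]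
    rfl

theorem pglToAut_ker (hn : 2 ≤ n) : (pglToAut (F := F) hn).ker = Subgroup.center (GL (Fin n) F) := by
  ext g
  rw [MonoidHom.mem_ker, Matrix.GeneralLinearGroup.center_eq_range_scalar]
  constructor
  · intro h
    obtain ⟨-, c, rfl⟩ := eq_of_semiAut_eq_one hn (show semiAut g (RingEquiv.refl F) = 1 from h)
    exact ⟨c, rfl⟩
  · rintro ⟨c, rfl⟩
    exact semiAut_scalar c

end Cfsg.Agent.H56
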