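import Mathlib
import Cfsg.Prelude.Def_Classical

/-! Quadratic forms over `ZMod 2` polarizing to the hyperbolic alternating form. -/

set_option autoImplicit false

namespace Cfsg.Agent.H56

open Finset

abbrev HV (m : ℕ) : Type := Fin m ⊕ Fin m → ZMod 2

/-- The polar of the standard hyperbolic form. -/
def pol (m : ℕ) (u v : HV m) : ZMod 2 :=
  Cfsg.quadFormPlus m (ZMod 2) (u + v) - Cfsg.quadFormPlus m (ZMod 2) u - Cfsg.quadFormPlus m (ZMod 2) v

theorem pol_eq (m : ℕ) (u v : HV m) :
    pol m u v = ∑ i, (u (.inl i) * v (.inr i) + v (.inl i) * u (.inr i)) := by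
  simp only [pol, Cfsg.quadFormPlus, ← Finset.sum_sub_distrib, Pi.add_apply]
  exact Finset.sum_congr rfl fun i _ => by ring

theorem pol_add_left (m : ℕ) (u v w : HV m) : pol m (u + v) w = pol m u w + pol m v w := by
  simp only [pol_eq, ← Finset.sum_add_distrib, Pi.add_apply]
  exact Finset.sum_congr rfl fun i _ => by ring

theorem pol_comm (m : ℕ) (u v : HV m) : pol m u v = pol m v u := by
  simp only [pol_eq]; exact Finset.sum_congr rfl fun i _ => by ring

theorem pol_add_right (m : ℕ) (u v w : HV m) : pol m u (v + w) = pol m u v + pol m u w := by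
  rw [pol_comm, pol_add_left, pol_comm m v u, pol_comm m w u]

theorem pol_smul_left (m : ℕ) (c : ZMod 2) (u w : HV m) : pol m (c • u) w = c * pol m u w := by
  simp only [pol_eq, Finset.mul_sum, Pi.smul_apply, smul_eq_mul]
  exact Finset.sum_congr rfl fun i _ => by ring

theorem pol_self (m : ℕ) (u : HV m) : pol m u u = 0 := by
  rw [pol_eq]; exact Finset.sum_eq_zero fun i _ => CharTwo.add_self_eq_zero _

theorem plus_add (m : ℕ) (u v : HV m) :
    Cfsg.quadFormPlus m (ZMod 2) (u + v)
      = Cfsg.quadFormPlus m (ZMod 2) u + Cfsg.quadFormPlus m (ZMod 2) v + pol m u v := by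
  simp only [pol]; ring

/-- `q` polarizes to `pol`. -/
def Polz (m : ℕ) (q : HV m → ZMod 2) : Prop := ∀ u v, q (u + v) = q u + q v + pol m u v

/-- The form `P + pol(·, w)`. -/
def qw (m : ℕ) (w : HV m) (v : HV m) : ZMod 2 := Cfsg.quadFormPlus m (ZMod 2) v + pol m v w

theorem polz_qw (m : ℕ) (w : HV m) : Polz m (qw m w) := fun u v => by
  simp only [qw, plus_add, pol_add_left]; ring

theorem qw_zero (m : ℕ) : qw m 0 = Cfsg.quadFormPlus m (ZMod 2) := by
  funext v; simp [qw, pol_eq]

theorem qw_add (m : ℕ) (a w v : HV m) : qw m (a + w) v = qw m a v + pol m v w := by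
  simp only [qw, pol_add_right]; ring

theorem qw_injective (m : ℕ) : Function.Injective (qw m) := by
  intro a b h
  funext x
  rcases x with i | i
  · have := congrFun h (Pi.single (.inr i) 1)
    simpa [qw, pol_eq, Pi.single_apply, Finset.sum_ite_eq'] using this
  · have := congrFun h (Pi.single (.inl i) 1)
    simpa [qw, pol_eq, Pi.single_apply, Finset.sum_ite_eq'] using this

/-- The parameter of a polarizing form. -/
def wOf (m : ℕ) (q : HV m → ZMod 2) : HV m := Sum.elim
  (fun i => q (Pi.single (.inr i) 1)) (fun i => q (Pi.single (.inl i) 1))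

theorem qw_wOf (m : ℕ) (q : HV m → ZMod 2) (hq : Polz m q) : qw m (wOf m q) = q := by
  let d : HV m →+ ZMod 2 := AddMonoidHom.mk' (fun v => q v + Cfsg.quadFormPlus m (ZMod 2) v)
    (fun u v => by simp only [hq u v, plus_add]; linear_combination CharTwo.add_self_eq_zero (pol m u v))
  funext v
  have hd : d v = pol m v (wOf m q) := by
    have hv : v = ∑ x, (v x) • Pi.single x (1 : ZMod 2) := pi_eq_sum_univ' v
    conv_lhs => rw [hv]
    rw [map_sum, Fintype.sum_sum_type, pol_eq, Finset.sum_add_distrib]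
    simp only [ZMod.map_smul, smul_eq_mul]
    refine congrArg₂ (· + ·) (Finset.sum_congr rfl fun i _ => ?_) (Finset.sum_congr rfl fun i _ => ?_)
    · simp [d, wOf, Cfsg.quadFormPlus, Pi.single_apply]
    · simp [d, wOf, Cfsg.quadFormPlus, Pi.single_apply]; ring
  rw [qw, ← hd]
  simp only [d, AddMonoidHom.mk'_apply]
  linear_combination CharTwo.add_self_eq_zero (Cfsg.quadFormPlus m (ZMod 2) v)

/-- The bijection `w ↦ P + pol(·, w)`. -/
noncomputable def qwEquiv (m : ℕ) : HV m ≃ {q : HV m → ZMod 2 // Polz m q} :=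
  Equiv.ofBijective (fun w => ⟨qw m w, polz_qw m w⟩)
    ⟨fun _ _ h => qw_injective m (congrArg Subtype.val h),
      fun q => ⟨wOf m q.1, Subtype.ext (qw_wOf m q.1 q.2)⟩⟩

/-- `±1` valued character of `ZMod 2`. -/
def chi (x : ZMod 2) : ℤ := if x = 0 then 1 else -1

theorem chi_add : ∀ x y : ZMod 2, chi (x + y) = chi x * chi y := by decide

section Gauss
variable {V : Type*} [AddCommGroup V] [Module (ZMod 2) V] [Fintype V]

/-- The Gauss sum of a function. -/
def gsum (q : V → ZMod 2) : ℤ := ∑ v, chi (q v)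

theorem two_mul_card_zero (q : V → ZMod 2) :
    2 * (Nat.card {v // q v = 0} : ℤ) = Fintype.card V + gsum q := by
  have : gsum q = ∑ v, (2 * (if q v = 0 then (1 : ℤ) else 0) - 1) :=
    Finset.sum_congr rfl fun v _ => by unfold chi; split <;> rfl
  rw [this, Finset.sum_sub_distrib, ← Finset.mul_sum, Finset.sum_boole, Nat.card_eq_fintype_card,
    Fintype.card_subtype]
  simp

theorem gsum_comp {W : Type*} [AddCommGroup W] [Module (ZMod 2) W] [Fintype W] (g : V ≃ W)
    (q : W → ZMod 2) : gsum (fun v => q (g v)) = gsum q :=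
  Equiv.sum_comp g (fun w => chi (q w))

theorem gsum_of_singular (q : V → ZMod 2) (f : V → V → ZMod 2)
    (hq : ∀ u v, q (u + v) = q u + q v + f u v) (hf : ∀ u v w, f u (v + w) = f u v + f u w)
    (U : Submodule (ZMod 2) V) (hU : ∀ u ∈ U, q u = 0)
    (hperp : ∀ v, v ∉ U → ∃ u ∈ U, f v u = 1) : gsum q = Nat.card U := by
  classical
  have hfU : ∀ u ∈ U, ∀ v ∈ U, f u v = 0 := by
    intro u hu v hv
    have := hq u v
    rw [hU _ (U.add_mem hu hv), hU u hu, hU v hv] at this
    simpa using this.symm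
  have h1 : ∀ u : U, gsum q = ∑ v, chi (q v) * chi (f v u) := by
    intro u
    calc gsum q = ∑ v, chi (q (v + u)) := (Equiv.sum_comp (Equiv.addRight (u : V)) (fun v => chi (q v))).symm
      _ = _ := Finset.sum_congr rfl fun v _ => by rw [hq, hU u u.2, add_zero, chi_add]
  have hU0 : (Fintype.card U : ℤ) ≠ 0 := by exact_mod_cast Fintype.card_ne_zero
  apply mul_left_cancel₀ hU0
  calc (Fintype.card U : ℤ) * gsum q = ∑ _u : U, gsum q := by simp
    _ = ∑ u : U, ∑ v, chi (q v) * chi (f v u) := Finset.sum_congr rfl fun u _ => h1 u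
    _ = ∑ v, chi (q v) * ∑ u : U, chi (f v u) := by
        rw [Finset.sum_comm]; simp only [Finset.mul_sum]
    _ = ∑ v, if v ∈ U then (Fintype.card U : ℤ) else 0 := by
        refine Finset.sum_congr rfl fun v _ => ?_
        split
        case isTrue hv =>
          rw [hU v hv, Finset.sum_congr rfl (fun (u : U) _ => by rw [hfU v hv u u.2])]
          simp [chi]
        case isFalse hv =>
          obtain ⟨u₁, hu₁, h⟩ := hperp v hv
          have hneg : ∑ u : U, chi (f v u) = -∑ u : U, chi (f v u) := by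
            conv_lhs => rw [← Equiv.sum_comp (Equiv.addRight (⟨u₁, hu₁⟩ : U)) (fun u : U => chi (f v u))]
            rw [← Finset.sum_neg_distrib]
            exact Finset.sum_congr rfl fun u _ => by
              simp only [Equiv.coe_addRight, Submodule.coe_add, hf, h, chi_add]
              simp [chi]
          have : ∑ u : U, chi (f v u) = 0 := by omega
          rw [this, mul_zero]
    _ = (Fintype.card U : ℤ) * (Nat.card U : ℤ) := by
        rw [← Finset.sum_filter, Finset.sum_const, ← Fintype.card_subtype]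
        simp [Nat.card_eq_fintype_card]

end Gauss

/-- The totally singular subspace `r = 0`. -/
def lag (m : ℕ) : Submodule (ZMod 2) (HV m) where
  carrier := {v | ∀ i, v (.inr i) = 0}
  zero_mem' := fun i => rfl
  add_mem' := fun {a b} ha hb i => by simp [ha i, hb i]
  smul_mem' := fun c {a} ha i => by simp [ha i]

theorem lag_singular (m : ℕ) : ∀ v ∈ lag m, Cfsg.quadFormPlus m (ZMod 2) v = 0 := fun v hv =>
  Finset.sum_eq_zero fun i _ => by rw [hv i, mul_zero]

theorem finrank_lag (m : ℕ) : Module.finrank (ZMod 2) (lag m) = m := by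
  let e : lag m ≃ₗ[ZMod 2] (Fin m → ZMod 2) :=
    { toFun := fun v i => v.1 (.inl i)
      map_add' := fun _ _ => rfl
      map_smul' := fun _ _ => rfl
      invFun := fun x => ⟨Sum.elim x 0, fun i => rfl⟩
      left_inv := fun v => Subtype.ext (by
        funext i; rcases i with i | i
        · rfl
        · exact (v.2 i).symm)
      right_inv := fun x => rfl }
  rw [e.finrank_eq, Module.finrank_fintype_fun_eq_card, Fintype.card_fin]

theorem card_lag (m : ℕ) : Nat.card (lag m) = 2 ^ m := by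
  rw [Module.natCard_eq_pow_finrank (K := ZMod 2), finrank_lag, Nat.card_zmod]

theorem gsum_plus (m : ℕ) : gsum (Cfsg.quadFormPlus m (ZMod 2)) = (2 : ℤ) ^ m := by
  rw [gsum_of_singular _ (pol m) (plus_add m) (pol_add_right m) (lag m) (lag_singular m), card_lag]
  · norm_num
  · intro v hv
    obtain ⟨i, hi⟩ : ∃ i, v (.inr i) ≠ 0 := by
      by_contra h
      exact hv fun i => not_not.mp fun hi => h ⟨i, hi⟩
    refine ⟨Pi.single (.inl i) 1, fun j => by simp [Pi.single_apply], ?_⟩
    have h01 : ∀ x : ZMod 2, x ≠ 0 → x = 1 := by decide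
    simpa [pol_eq, Pi.single_apply, Finset.sum_ite_eq'] using h01 _ hi

theorem gsum_qw (m : ℕ) (w : HV m) :
    gsum (qw m w) = chi (Cfsg.quadFormPlus m (ZMod 2) w) * (2 : ℤ) ^ m := by
  rw [← gsum_plus, gsum, gsum, Finset.mul_sum]
  refine Fintype.sum_equiv (Equiv.addRight w) _ _ fun v => ?_
  rw [← chi_add, Equiv.coe_addRight, plus_add, qw]
  congr 1
  linear_combination - CharTwo.add_self_eq_zero (Cfsg.quadFormPlus m (ZMod 2) w)

/-- The transvection `v ↦ v + pol(v,w) w`. -/
def trv (m : ℕ) (w : HV m) : HV m ≃ₗ[ZMod 2] HV m :=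
  LinearEquiv.ofInvolutive
    { toFun := fun v => v + pol m v w • w
      map_add' := fun u v => by simp only [pol_add_left, add_smul]; abel
      map_smul' := fun c v => by simp only [pol_smul_left, mul_smul, smul_add, RingHom.id_apply] }
    (fun v => by
      show (v + pol m v w • w) + pol m (v + pol m v w • w) w • w = v
      rw [pol_add_left, pol_smul_left, pol_self, mul_zero, add_zero, add_assoc, ← add_smul,
        CharTwo.add_self_eq_zero, zero_smul, add_zero])

theorem polz_trv {m : ℕ} {q : HV m → ZMod 2} (hq : Polz m q) (w : HV m) (hw : q w = 0) (v : HV m) :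
    q (trv m w v) = q v + pol m v w := by
  show q (v + pol m v w • w) = _
  rcases (by decide : ∀ x : ZMod 2, x = 0 ∨ x = 1) (pol m v w) with h | h
  · rw [h, zero_smul, add_zero, add_zero]
  · rw [h, one_smul, hq, hw, h, add_zero]

theorem qw_equiv_plus {m : ℕ} (w : HV m) (hw : Cfsg.quadFormPlus m (ZMod 2) w = 0) :
    ∃ g : HV m ≃ₗ[ZMod 2] HV m, ∀ v, qw m w v = Cfsg.quadFormPlus m (ZMod 2) (g v) :=
  ⟨trv m w, fun v => (polz_trv (plus_add m) w hw v).symm⟩

theorem qw_equiv_qw {m : ℕ} (w w' : HV m)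
    (h : Cfsg.quadFormPlus m (ZMod 2) w = Cfsg.quadFormPlus m (ZMod 2) w') :
    ∃ g : HV m ≃ₗ[ZMod 2] HV m, ∀ v, qw m w v = qw m w' (g v) := by
  refine ⟨trv m (w + w'), fun v => ?_⟩
  have h2 : qw m w' (w + w') = 0 := by
    simp only [qw, plus_add, pol_add_left, pol_self]
    linear_combination h + CharTwo.add_self_eq_zero (pol m w w') + CharTwo.add_self_eq_zero (Cfsg.quadFormPlus m (ZMod 2) w')
  rw [polz_trv (polz_qw m w') _ h2, ← qw_add]
  congr 1
  funext i
  simp only [Pi.add_apply]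
  linear_combination - CharTwo.add_self_eq_zero (w' i)

/-- The index bijection used for the minus form. -/
def minusIdx (k : ℕ) : (Fin k ⊕ Fin k) ⊕ Fin 2 ≃ Fin (k + 1) ⊕ Fin (k + 1) where
  toFun := Sum.elim (Sum.elim (fun i => .inl i.castSucc) (fun i => .inr i.castSucc))
    (fun j => if j = 0 then .inl (Fin.last k) else .inr (Fin.last k))
  invFun := Sum.elim (Fin.lastCases (.inr 0) (fun i => .inl (.inl i)))
    (Fin.lastCases (.inr 1) (fun i => .inl (.inr i)))
  left_inv := by
    rintro ((i | i) | j)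
    · simp
    · simp
    · fin_cases j <;> simp
  right_inv := by
    rintro (i | i) <;> induction i using Fin.lastCases <;> simp

/-- The linear equivalence with the index set of the minus form. -/
def minusEquiv (k : ℕ) : HV (k + 1) ≃ₗ[ZMod 2] ((Fin k ⊕ Fin k) ⊕ Fin 2 → ZMod 2) :=
  LinearEquiv.funCongrLeft (ZMod 2) (ZMod 2) (minusIdx k)

/-- The parameter giving the standard minus form. -/
def wMinus (k : ℕ) : HV (k + 1) :=
  Sum.elim (Pi.single (Fin.last k) 1) (Pi.single (Fin.last k) 1)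

theorem plus_wMinus (k : ℕ) : Cfsg.quadFormPlus (k + 1) (ZMod 2) (wMinus k) = 1 := by
  simp [Cfsg.quadFormPlus, wMinus, Pi.single_apply]

theorem qw_wMinus (k : ℕ) (v : HV (k + 1)) :
    qw (k + 1) (wMinus k) v = Cfsg.quadFormMinus k (ZMod 2) 1 1 (minusEquiv k v) := by
  have hsq : ∀ x : ZMod 2, x ^ 2 = x := by decide
  simp only [qw, Cfsg.quadFormMinus, Cfsg.quadFormPlus, pol_eq, Fin.sum_univ_castSucc]
  simp [wMinus, minusEquiv, minusIdx, LinearEquiv.funCongrLeft_apply, hsq, Pi.single_apply]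
  ring

/-- A form of plus type. -/
def IsPlus (m : ℕ) (q : HV m → ZMod 2) : Prop :=
  ∃ g : HV m ≃ₗ[ZMod 2] HV m, ∀ v, q v = Cfsg.quadFormPlus m (ZMod 2) (g v)

/-- A form of minus type. -/
def IsMinus (k : ℕ) (q : HV (k + 1) → ZMod 2) : Prop :=
  ∃ g : HV (k + 1) ≃ₗ[ZMod 2] ((Fin k ⊕ Fin k) ⊕ Fin 2 → ZMod 2),
    ∀ v, q v = Cfsg.quadFormMinus k (ZMod 2) 1 1 (g v)

theorem gsum_minus (k : ℕ) : gsum (Cfsg.quadFormMinus k (ZMod 2) 1 1) = -(2 : ℤ) ^ (k + 1) := by
  rw [← gsum_comp (minusEquiv k).toEquiv, show (fun v => Cfsg.quadFormMinus k (ZMod 2) 1 1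
    ((minusEquiv k).toEquiv v)) = qw (k + 1) (wMinus k) from funext fun v => (qw_wMinus k v).symm,
    gsum_qw, plus_wMinus]
  simp [chi]

theorem isPlus_qw_iff (m : ℕ) (w : HV m) :
    IsPlus m (qw m w) ↔ Cfsg.quadFormPlus m (ZMod 2) w = 0 := by
  refine ⟨fun ⟨g, hg⟩ => ?_, qw_equiv_plus w⟩
  have h := gsum_comp g.toEquiv (Cfsg.quadFormPlus m (ZMod 2))
  rw [show (fun v => Cfsg.quadFormPlus m (ZMod 2) (g.toEquiv v)) = qw m w from
    funext fun v => (hg v).symm, gsum_qw, gsum_plus] at h
  by_contra hne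
  simp only [chi, if_neg hne] at h
  have : (0 : ℤ) < 2 ^ m := by positivity
  omega

theorem isMinus_qw_iff (k : ℕ) (w : HV (k + 1)) :
    IsMinus k (qw (k + 1) w) ↔ Cfsg.quadFormPlus (k + 1) (ZMod 2) w = 1 := by
  constructor
  · rintro ⟨g, hg⟩
    have h := gsum_comp g.toEquiv (Cfsg.quadFormMinus k (ZMod 2) 1 1)
    rw [show (fun v => Cfsg.quadFormMinus k (ZMod 2) 1 1 (g.toEquiv v)) = qw (k + 1) w from
      funext fun v => (hg v).symm, gsum_qw, gsum_minus] at h
    rcases (by decide : ∀ x : ZMod 2, x = 0 ∨ x = 1) (Cfsg.quadFormPlus (k + 1) (ZMod 2) w) with h' | h'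
    · simp only [chi, h', if_pos] at h
      have : (0 : ℤ) < 2 ^ (k + 1) := by positivity
      omega
    · exact h'
  · intro hw
    obtain ⟨g, hg⟩ := qw_equiv_qw w (wMinus k) (hw.trans (plus_wMinus k).symm)
    exact ⟨g.trans (minusEquiv k), fun v => (hg v).trans (qw_wMinus k (g v))⟩

theorem plus_zero_or_one (m : ℕ) (w : HV m) :
    Cfsg.quadFormPlus m (ZMod 2) w = 0 ∨ Cfsg.quadFormPlus m (ZMod 2) w = 1 :=
  (by decide : ∀ x : ZMod 2, x = 0 ∨ x = 1) _

theorem card_HV (m : ℕ) : Nat.card (HV m) = 2 ^ (2 * m) := by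
  simp [Nat.card_fun, two_mul]

theorem card_plus_zero (m : ℕ) :
    2 * (Nat.card {w : HV m // Cfsg.quadFormPlus m (ZMod 2) w = 0}) = 2 ^ (2 * m) + 2 ^ m := by
  have h := two_mul_card_zero (Cfsg.quadFormPlus m (ZMod 2))
  rw [gsum_plus, ← Nat.card_eq_fintype_card, card_HV] at h
  exact_mod_cast h

/-- `v ↦ pol(v, ·)` restricted to a submodule. -/
def polRes {m : ℕ} (U : Submodule (ZMod 2) (HV m)) : HV m →ₗ[ZMod 2] Module.Dual (ZMod 2) U where
  toFun v :=
    { toFun := fun u => pol m u v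
      map_add' := fun a b => pol_add_left m a b v
      map_smul' := fun c a => pol_smul_left m c a v }
  map_add' := fun v v' => LinearMap.ext fun u => pol_add_right m u v v'
  map_smul' := fun c v => LinearMap.ext fun u => by
    show pol m u (c • v) = c * pol m u v
    rw [pol_comm, pol_smul_left, pol_comm]

theorem polRes_surjective {m : ℕ} (U : Submodule (ZMod 2) (HV m)) :
    Function.Surjective (polRes U) := by
  intro φ
  obtain ⟨ψ, rfl⟩ := LinearMap.exists_extend φ
  refine ⟨Sum.elim (fun i => ψ (Pi.single (.inr i) 1)) (fun i => ψ (Pi.single (.inl i) 1)),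
    LinearMap.ext fun u => ?_⟩
  show pol m u _ = ψ (u : HV m)
  have hu : (u : HV m) = ∑ x, ((u : HV m) x) • Pi.single x (1 : ZMod 2) := pi_eq_sum_univ' _
  conv_rhs => rw [hu]
  rw [map_sum, Fintype.sum_sum_type, pol_eq, Finset.sum_add_distrib]
  simp only [map_smul, smul_eq_mul, Sum.elim_inl, Sum.elim_inr]
  exact congrArg₂ (· + ·) rfl (Finset.sum_congr rfl fun i _ => mul_comm _ _)

theorem singular_le_ker {m : ℕ} {q : HV m → ZMod 2} (hq : Polz m q)
    (U : Submodule (ZMod 2) (HV m)) (hU : ∀ u ∈ U, q u = 0) : U ≤ LinearMap.ker (polRes U) := by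
  intro v hv
  refine LinearMap.mem_ker.mpr (LinearMap.ext fun u => ?_)
  show pol m u v = 0
  have := hq u v
  rw [hU _ (U.add_mem u.2 hv), hU u u.2, hU v hv] at this
  simpa using this.symm

theorem finrank_ker_polRes {m : ℕ} (U : Submodule (ZMod 2) (HV m)) :
    Module.finrank (ZMod 2) (LinearMap.ker (polRes U)) + Module.finrank (ZMod 2) U = 2 * m := by
  have h := (polRes U).finrank_range_add_finrank_ker
  rw [LinearMap.range_eq_top.mpr (polRes_surjective U), finrank_top, Subspace.dual_finrank_eq,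
    Module.finrank_fintype_fun_eq_card, Fintype.card_sum, Fintype.card_fin] at h
  omega

theorem finrank_singular_le {m : ℕ} {q : HV m → ZMod 2} (hq : Polz m q)
    (U : Submodule (ZMod 2) (HV m)) (hU : ∀ u ∈ U, q u = 0) : Module.finrank (ZMod 2) U ≤ m := by
  have h1 := Submodule.finrank_mono (singular_le_ker hq U hU)
  have h2 := finrank_ker_polRes U
  omega

theorem gsum_pos_of_lagrangian {m : ℕ} {q : HV m → ZMod 2} (hq : Polz m q)
    (U : Submodule (ZMod 2) (HV m)) (hU : ∀ u ∈ U, q u = 0) (hd : Module.finrank (ZMod 2) U = m) :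
    0 < gsum q := by
  have hker : U = LinearMap.ker (polRes U) :=
    Submodule.eq_of_le_of_finrank_le (singular_le_ker hq U hU) (by have := finrank_ker_polRes U; omega)
  rw [gsum_of_singular q (pol m) hq (pol_add_right m) U hU]
  · exact_mod_cast Nat.card_pos
  · intro v hv
    by_contra h
    push Not at h
    refine hv (hker ▸ LinearMap.mem_ker.mpr (LinearMap.ext fun u => ?_))
    show pol m u v = 0
    rw [pol_comm]
    exact ((by decide : ∀ x : ZMod 2, x ≠ 1 → x = 0) _ (h u u.2))

end Cfsg.Agent.H56
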