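import Mathlib
import Cfsg.Agent.S0144
import Cfsg.Agent.S0675
import Cfsg.Agent.S0713
import Cfsg.Agent.S0495
import Cfsg.Agent.H27.SevenPoints

/-! Subgroups of `A₈` without nontrivial normal solvable subgroups. -/

set_option autoImplicit false

namespace Cfsg.Agent.H56.SubAltEight

open Equiv Equiv.Perm
open scoped Pointwise

universe u

variable {G : Type u} [Group G] [Finite G]

theorem isSolvable_of_dvd_two {p q a b : ℕ} (hp : p.Prime) (hq : q.Prime) (h : Nat.card G ∣ p ^ a * q ^ b) :
    Group.IsSolvable G := by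
  obtain ⟨d1, d2, h1, h2, he⟩ := exists_dvd_and_dvd_of_dvd_mul h
  obtain ⟨a', -, rfl⟩ := (Nat.dvd_prime_pow hp).mp h1
  obtain ⟨b', -, rfl⟩ := (Nat.dvd_prime_pow hq).mp h2
  exact S0144.result p q a' b' hp hq he

theorem dvd_of_not_solvable (hns : ¬ Group.IsSolvable G) {p q r a b c : ℕ} (hp : p.Prime) (hq : q.Prime)
    (hr : r.Prime) (h : Nat.card G ∣ p ^ a * q ^ b * r ^ c) : r ∣ Nat.card G := by
  by_contra hn
  exact hns (isSolvable_of_dvd_two hp hq
    ((((hr.coprime_iff_not_dvd.mpr hn).symm).pow_right c).dvd_of_dvd_mul_right h))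

theorem isSolvable_of_squarefree (h : Squarefree (Nat.card G)) : Group.IsSolvable G := by
  haveI := IsZGroup.of_squarefree h
  infer_instance

theorem index_factorial {S : Type*} [Group S] [Finite S] [IsSimpleGroup S] (K : Subgroup S) (hK : K ≠ ⊤) :
    Nat.card S ∣ K.index.factorial := by
  have hbot : K.normalCore = ⊥ := (Subgroup.normalCore_normal K).eq_bot_or_eq_top.resolve_right
    fun h => hK (top_le_iff.mp (h ▸ Subgroup.normalCore_le K))
  have hinj : Function.Injective (MulAction.toPermHom S (S ⧸ K)) := by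
    rw [← MonoidHom.ker_eq_bot_iff, ← Subgroup.normalCore_eq_ker]
    exact hbot
  have h := Subgroup.card_dvd_of_injective _ hinj
  rwa [Nat.card_perm, ← Subgroup.index_eq_card] at h

theorem exists_stab_hom {X : Type u} [Group X] [Finite X] (K : Subgroup X) (hcore : K.normalCore = ⊥) :
    ∃ (Q : Type u) (_ : Fintype Q) (_ : DecidableEq Q), Nat.card Q = K.index - 1 ∧
      ∃ θ : X →* Equiv.Perm (X ⧸ K), ∃ η : ↥K →* Equiv.Perm Q, Function.Injective η ∧
        ∀ [Fintype (X ⧸ K)] [DecidableEq (X ⧸ K)], ∀ k : ↥K, Equiv.Perm.sign (η k) = Equiv.Perm.sign (θ k) := by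
  classical
  haveI : Fintype (X ⧸ K) := Fintype.ofFinite _
  let θ := MulAction.toPermHom X (X ⧸ K)
  let o : X ⧸ K := ((1 : X) : X ⧸ K)
  have hfix : ∀ k : ↥K, θ k o = o := fun k => by
    show ((k : X) * 1 : X) = ((1 : X) : X ⧸ K)
    rw [mul_one]
    exact QuotientGroup.eq.mpr (by simp)
  have hiff : ∀ (k : ↥K) (x : X ⧸ K), θ k x ≠ o ↔ x ≠ o := fun k x =>
    not_congr ⟨fun h => (θ k).injective (h.trans (hfix k).symm), fun h => h ▸ hfix k⟩
  refine ⟨{x : X ⧸ K // x ≠ o}, inferInstance, inferInstance, ?_, θ,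
    MonoidHom.mk' (fun k => (θ k).subtypePerm (hiff k)) (fun a b => Equiv.ext fun x => Subtype.ext ?_), ?_, ?_⟩
  · rw [Nat.card_eq_fintype_card, Fintype.card_subtype_compl, Fintype.card_subtype_eq, Subgroup.index_eq_card,
      Nat.card_eq_fintype_card]
  · show θ ((a : X) * b) x.1 = _
    rw [map_mul]
    rfl
  · refine (injective_iff_map_eq_one _).mpr fun k hk => ?_
    have h1 : θ k = 1 := Equiv.ext fun x => by
      by_cases hx : x = o
      · subst hx; exact hfix k
      · exact congrArg Subtype.val (Equiv.congr_fun hk ⟨x, hx⟩)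
    have h2 : (k : X) ∈ K.normalCore := by rw [Subgroup.normalCore_eq_ker]; exact h1
    rw [hcore, Subgroup.mem_bot] at h2
    exact Subtype.ext h2
  · intro i1 i2 k
    obtain rfl := Subsingleton.elim i1 (Fintype.ofFinite _)
    convert Equiv.Perm.sign_subtypePerm (θ k) (hiff k) (fun x (hx : θ k x ≠ x) (h : x = o) => hx (by rw [h]; exact hfix k))
    rfl

theorem equiv_of_card {A B : Type*} [Group A] [Group B] [Finite B] (f : A →* B) (hf : Function.Injective f)
    (h : Nat.card A = Nat.card B) : Nonempty (A ≃* B) := by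
  haveI : Finite A := Finite.of_injective f hf
  exact ⟨MulEquiv.ofBijective f ((Nat.bijective_iff_injective_and_card f).mpr ⟨hf, h⟩)⟩

theorem iso_alt_five {α : Type*} [Fintype α] [DecidableEq α] (hα : Fintype.card α = 6)
    (L : Subgroup ↥(alternatingGroup α)) (hL : L.index = 6) : Nonempty (↥L ≃* alternatingGroup (Fin 5)) := by
  classical
  haveI := alternatingGroup.isSimpleGroup (α := α) (by rw [Nat.card_eq_fintype_card, hα]; norm_num)
  haveI : Nontrivial α := Fintype.one_lt_card_iff_nontrivial.mp (by omega)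
  have hne : L ≠ ⊤ := fun h => by rw [h, Subgroup.index_top] at hL; omega
  have hcore : L.normalCore = ⊥ := (Subgroup.normalCore_normal L).eq_bot_or_eq_top.resolve_right
    fun h => hne (top_le_iff.mp (h ▸ Subgroup.normalCore_le L))
  obtain ⟨Q, _, _, hQ, θ, η, hη, hsign⟩ := exists_stab_hom L hcore
  haveI : Fintype (↥(alternatingGroup α) ⧸ L) := Fintype.ofFinite _
  have hA : Nat.card ↥(alternatingGroup α) = 360 := by
    rw [nat_card_alternatingGroup, Nat.card_eq_fintype_card, hα]; rfl
  have hθ : ∀ x, Equiv.Perm.sign (θ x) = 1 := by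
    have hker : (Equiv.Perm.sign.comp θ).ker = ⊤ := by
      refine (Equiv.Perm.sign.comp θ).normal_ker.eq_bot_or_eq_top.resolve_left fun h => ?_
      have h2 := Subgroup.card_dvd_of_injective _ ((MonoidHom.ker_eq_bot_iff _).mp h)
      rw [hA, show Nat.card ℤˣ = 2 by rw [Nat.card_eq_fintype_card]; rfl] at h2
      exact absurd (Nat.le_of_dvd (by norm_num) h2) (by norm_num)
    intro x
    have h := Subgroup.mem_top x
    rw [← hker] at h
    exact h
  have hQ5 : Fintype.card Q = 5 := by rw [← Nat.card_eq_fintype_card, hQ, hL]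
  haveI : Nontrivial Q := Fintype.one_lt_card_iff_nontrivial.mp (by omega)
  have hLc : Nat.card ↥L = 60 := by
    have h := Subgroup.card_mul_index L
    rw [hL, hA] at h
    omega
  obtain ⟨e⟩ := equiv_of_card (η.codRestrict (alternatingGroup Q) fun k => by
      rw [Equiv.Perm.mem_alternatingGroup, hsign, hθ])
    (fun a b h => hη (congrArg Subtype.val h))
    (by rw [hLc, nat_card_alternatingGroup, Nat.card_eq_fintype_card, hQ5]; rfl)
  exact ⟨e.trans (Equiv.altCongrHom (Fintype.equivFinOfCardEq hQ5))⟩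

/-- A nonsolvable subgroup meets the alternating group in a nonsolvable subgroup. -/
theorem inf_alt_not_solvable {α : Type*} [Fintype α] [DecidableEq α] (R : Subgroup (Equiv.Perm α))
    (hR : ¬ Group.IsSolvable R) :
    ¬ Group.IsSolvable ↥(R.subgroupOf (alternatingGroup α)) := by
  intro h
  refine hR ?_
  let f : ↥R →* ℤˣ := Equiv.Perm.sign.comp R.subtype
  let g : ↥f.ker →* ↥(R.subgroupOf (alternatingGroup α)) :=
    MonoidHom.mk' (fun x => ⟨⟨x.1.1, x.2⟩, x.1.2⟩) fun _ _ => rfl
  haveI := Group.isSolvable_of_isSolvable_injective (f := g) (fun a b e => Subtype.ext (Subtype.ext (congrArg (fun y => y.1.1) e)))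
  haveI : Group.IsSolvable ℤˣ := Group.isSolvable_of_comm fun a b => mul_comm a b
  exact Group.isSolvable_of_ker_le_range f.ker.subtype f (by rw [Subgroup.range_subtype])

theorem subgroupOf_equiv_of_le {X : Type*} [Group X] {R A : Subgroup X} (h : R ≤ A) :
    Nonempty (↥R ≃* ↥(R.subgroupOf A)) := ⟨(Subgroup.subgroupOfEquivOfLe h).symm⟩

theorem alt_le_cases {α : Type*} [Fintype α] [DecidableEq α] [Nontrivial α] (R : Subgroup (Equiv.Perm α))
    (h : alternatingGroup α ≤ R) : R = alternatingGroup α ∨ R = ⊤ := by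
  have h1 := Subgroup.index_dvd_of_le h
  rw [alternatingGroup.index_eq_two] at h1
  rcases (Nat.dvd_prime Nat.prime_two).mp h1 with h2 | h2
  · exact Or.inr (Subgroup.index_eq_one.mp h2)
  · exact Or.inl (eq_alternatingGroup_of_index_eq_two h2)

theorem center_perm {α : Type*} [Fintype α] [DecidableEq α] (hα : 3 ≤ Fintype.card α) (s : Equiv.Perm α)
    (h : ∀ t, Commute s t) : s = 1 := by
  refine Equiv.ext fun a => ?_
  by_contra hne
  have hne' : s a ≠ a := hne
  have : ∃ c : α, c ≠ a ∧ c ≠ s a := by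
    have hlt : ({a, s a} : Finset α).card < Fintype.card α :=
      lt_of_le_of_lt Finset.card_le_two (by omega)
    obtain ⟨c, -, hc⟩ := Finset.exists_mem_notMem_of_card_lt_card (s := ({a, s a} : Finset α)) (t := Finset.univ)
      (by rwa [Finset.card_univ])
    exact ⟨c, fun e => hc (by simp [e]), fun e => hc (by simp [e])⟩
  obtain ⟨c, hca, hcs⟩ := this
  have h1 := Equiv.congr_fun (h (Equiv.swap (s a) c)).eq a
  simp only [Perm.mul_apply, Equiv.swap_apply_left, Equiv.swap_apply_of_ne_of_ne hne'.symm hca.symm] at h1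
  exact hcs h1.symm

theorem five_points {α : Type*} [Fintype α] [DecidableEq α] (hα : Fintype.card α = 5) (R : Subgroup (Equiv.Perm α))
    (hR : ¬ Group.IsSolvable R) :
    Nonempty (↥R ≃* alternatingGroup (Fin 5)) ∨ Nonempty (↥R ≃* Equiv.Perm (Fin 5)) := by
  haveI := alternatingGroup.isSimpleGroup (α := α) (by rw [Nat.card_eq_fintype_card, hα])
  haveI : Nontrivial α := Fintype.one_lt_card_iff_nontrivial.mp (by omega)
  set L := R.subgroupOf (alternatingGroup α)
  have hns : ¬ Group.IsSolvable L := inf_alt_not_solvable R hR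
  have hA : Nat.card ↥(alternatingGroup α) = 60 := by
    rw [nat_card_alternatingGroup, Nat.card_eq_fintype_card, hα]; rfl
  have hd : Nat.card L ∣ 60 := hA ▸ Subgroup.card_subgroup_dvd_card L
  have h2 : 2 ∣ Nat.card L := dvd_of_not_solvable hns Nat.prime_three Nat.prime_five Nat.prime_two
    (a := 1) (b := 1) (c := 2) (hd.trans (by norm_num))
  have h3 : 3 ∣ Nat.card L := dvd_of_not_solvable hns Nat.prime_two Nat.prime_five Nat.prime_three
    (a := 2) (b := 1) (c := 1) (hd.trans (by norm_num))
  have h5 : 5 ∣ Nat.card L := dvd_of_not_solvable hns Nat.prime_two Nat.prime_three Nat.prime_five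
    (a := 2) (b := 1) (c := 1) (hd.trans (by norm_num))
  have hi := Subgroup.card_mul_index L
  rw [hA] at hi
  have htop : L = ⊤ := by
    by_contra hne
    have h := index_factorial L hne
    rw [hA] at h
    have hle : L.index ≤ 2 := by
      have : 30 ≤ Nat.card L := Nat.le_of_dvd Nat.card_pos (by omega)
      nlinarith
    exact absurd ((h.trans (Nat.factorial_dvd_factorial hle))) (by decide)
  rcases alt_le_cases R (Subgroup.subgroupOf_eq_top.mp htop) with rfl | rfl
  · exact Or.inl ⟨Equiv.altCongrHom (Fintype.equivFinOfCardEq hα)⟩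
  · exact Or.inr ⟨Subgroup.topEquiv.trans (Fintype.equivFinOfCardEq hα).permCongrHom⟩

theorem six_points {α : Type*} [Fintype α] [DecidableEq α] (hα : Fintype.card α = 6) (R : Subgroup (Equiv.Perm α))
    (hR : ¬ Group.IsSolvable R) :
    (∃ n, 5 ≤ n ∧ n ≤ 8 ∧ Nonempty (↥R ≃* alternatingGroup (Fin n))) ∨
      Nonempty (↥R ≃* Equiv.Perm (Fin 5)) ∨ Nonempty (↥R ≃* Equiv.Perm (Fin 6)) := by
  haveI := alternatingGroup.isSimpleGroup (α := α) (by rw [Nat.card_eq_fintype_card, hα]; norm_num)
  haveI : Nontrivial α := Fintype.one_lt_card_iff_nontrivial.mp (by omega)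
  set L := R.subgroupOf (alternatingGroup α) with hL
  have hns : ¬ Group.IsSolvable L := inf_alt_not_solvable R hR
  have hA : Nat.card ↥(alternatingGroup α) = 360 := by
    rw [nat_card_alternatingGroup, Nat.card_eq_fintype_card, hα]; rfl
  have hd : Nat.card L ∣ 360 := hA ▸ Subgroup.card_subgroup_dvd_card L
  have h2 : 2 ∣ Nat.card L := dvd_of_not_solvable hns Nat.prime_three Nat.prime_five Nat.prime_two
    (a := 2) (b := 1) (c := 3) (hd.trans (by norm_num))
  have h3 : 3 ∣ Nat.card L := dvd_of_not_solvable hns Nat.prime_two Nat.prime_five Nat.prime_three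
    (a := 3) (b := 1) (c := 2) (hd.trans (by norm_num))
  have h5 : 5 ∣ Nat.card L := dvd_of_not_solvable hns Nat.prime_two Nat.prime_three Nat.prime_five
    (a := 3) (b := 2) (c := 1) (hd.trans (by norm_num))
  have hi := Subgroup.card_mul_index L
  rw [hA] at hi
  by_cases htop : L = ⊤
  · rcases alt_le_cases R (Subgroup.subgroupOf_eq_top.mp htop) with rfl | rfl
    · exact Or.inl ⟨6, by norm_num, by norm_num, ⟨Equiv.altCongrHom (Fintype.equivFinOfCardEq hα)⟩⟩
    · exact Or.inr (Or.inr ⟨Subgroup.topEquiv.trans (Fintype.equivFinOfCardEq hα).permCongrHom⟩)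
  have hfac := index_factorial L htop
  rw [hA] at hfac
  have hge : 6 ≤ L.index := by
    by_contra h
    exact absurd (hfac.trans (Nat.factorial_dvd_factorial (show L.index ≤ 5 by omega))) (by decide)
  have h60 : Nat.card L = 60 ∧ L.index = 6 := by
    obtain ⟨t, ht⟩ : 30 ∣ Nat.card L := by omega
    have ht12 : t ≤ 12 := by
      have := Nat.le_of_dvd (by norm_num) hd; omega
    have ht0 : t ≠ 0 := fun h => (Nat.card_pos (α := L)).ne' (by rw [ht, h])
    have ht2 : t ≤ 2 := by
      by_contra h
      have : 90 ≤ Nat.card L := by omega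
      nlinarith
    rcases (show t = 1 ∨ t = 2 by omega) with rfl | rfl
    · refine absurd (isSolvable_of_squarefree (G := L) ?_) hns
      rw [ht]
      decide +kernel
    · refine ⟨ht, ?_⟩
      rw [ht] at hi
      omega
  obtain ⟨eL⟩ := iso_alt_five hα L h60.2
  by_cases hle : R ≤ alternatingGroup α
  · exact Or.inl ⟨5, le_rfl, by norm_num, ⟨(Subgroup.subgroupOfEquivOfLe hle).symm.trans eL⟩⟩
  refine Or.inr (Or.inl ?_)
  have hRc : Nat.card R = 120 := by
    let f : ↥R →* ℤˣ := Equiv.Perm.sign.comp R.subtype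
    have hker : Nat.card f.ker = 60 := by
      rw [← h60.1]
      exact Nat.card_congr
        { toFun := fun x => ⟨⟨x.1.1, x.2⟩, x.1.2⟩
          invFun := fun y => ⟨⟨y.1.1, y.2⟩, y.1.2⟩
          left_inv := fun _ => rfl
          right_inv := fun _ => rfl }
    have hsurj : Function.Surjective f := by
      obtain ⟨r, hr, hr'⟩ := SetLike.not_le_iff_exists.mp hle
      have hneg : f ⟨r, hr⟩ = -1 := (Int.units_eq_one_or _).resolve_left hr'
      intro u
      rcases Int.units_eq_one_or u with rfl | rfl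
      · exact ⟨1, map_one f⟩
      · exact ⟨_, hneg⟩
    rw [Subgroup.card_eq_card_quotient_mul_card_subgroup f.ker, hker,
      Nat.card_congr (QuotientGroup.quotientKerEquivOfSurjective f hsurj).toEquiv,
      show Nat.card ℤˣ = 2 by rw [Nat.card_eq_fintype_card]; rfl]
  have hRi : R.index = 6 := by
    have h := Subgroup.card_mul_index R
    rw [hRc, Nat.card_perm, Nat.card_eq_fintype_card, hα] at h
    have : (6 : ℕ).factorial = 720 := rfl
    omega
  have hcore : R.normalCore = ⊥ := by
    have hM : (R.normalCore).subgroupOf (alternatingGroup α) = ⊥ := by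
      refine ((Subgroup.normalCore_normal R).subgroupOf (alternatingGroup α)).eq_bot_or_eq_top.resolve_right fun h => ?_
      exact htop (Subgroup.subgroupOf_eq_top.mpr ((Subgroup.subgroupOf_eq_top.mp h).trans (Subgroup.normalCore_le R)))
    refine (Subgroup.eq_bot_iff_forall _).mpr fun s hs => center_perm (by omega) s fun t => ?_
    have hc : s * t * s⁻¹ * t⁻¹ ∈ R.normalCore := by
      rw [mul_assoc, mul_assoc]
      refine mul_mem hs ?_
      rw [← mul_assoc]
      exact (Subgroup.normalCore_normal R).conj_mem _ (inv_mem hs) t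
    have ha : s * t * s⁻¹ * t⁻¹ ∈ alternatingGroup α := by
      rw [Equiv.Perm.mem_alternatingGroup]
      simp [mul_comm, mul_assoc, mul_left_comm]
    have h1 : (⟨_, ha⟩ : ↥(alternatingGroup α)) ∈ (R.normalCore).subgroupOf (alternatingGroup α) := hc
    rw [hM, Subgroup.mem_bot] at h1
    have h2 : s * t * s⁻¹ * t⁻¹ = 1 := congrArg Subtype.val h1
    exact commutatorElement_eq_one_iff_commute.mp h2
  obtain ⟨Q, _, _, hQ, θ, η, hη, -⟩ := exists_stab_hom R hcore
  have hQ5 : Fintype.card Q = 5 := by rw [← Nat.card_eq_fintype_card, hQ, hRi]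
  obtain ⟨e⟩ := equiv_of_card η hη (by rw [hRc, Nat.card_perm, Nat.card_eq_fintype_card, hQ5]; rfl)
  exact ⟨e.trans (Fintype.equivFinOfCardEq hQ5).permCongrHom⟩

theorem seven_points {α : Type*} [Fintype α] [DecidableEq α] (hα : Fintype.card α = 7) (R : Subgroup (Equiv.Perm α))
    (hR : ¬ Group.IsSolvable R) [MulAction.IsPretransitive R α] (hsub : R ≤ alternatingGroup α)
    (h5 : 5 ∣ Nat.card R) : Nonempty (↥R ≃* alternatingGroup (Fin 7)) := by
  haveI := alternatingGroup.isSimpleGroup (α := α) (by rw [Nat.card_eq_fintype_card, hα]; norm_num)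
  haveI : Nontrivial α := Fintype.one_lt_card_iff_nontrivial.mp (by omega)
  have h2t : MulAction.IsMultiplyPretransitive R α 2 :=
    (S0675.result (hα ▸ by norm_num) R).resolve_left hR
  have h42 : 42 ∣ Nat.card R := by
    obtain ⟨x⟩ : Nonempty (Fin 2 ↪ α) := Function.Embedding.nonempty_of_card_le (by rw [Fintype.card_fin]; omega)
    have h := @MulAction.index_stabilizer_of_transitive ↥R (Fin 2 ↪ α) _ _ x h2t
    rw [Nat.card_eq_fintype_card, Fintype.card_embedding_eq, hα, Fintype.card_fin] at h
    exact (show (7 : ℕ).descFactorial 2 = 42 from rfl) ▸ h ▸ Subgroup.index_dvd_card _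
  set L := R.subgroupOf (alternatingGroup α)
  have hA : Nat.card ↥(alternatingGroup α) = 2520 := by
    rw [nat_card_alternatingGroup, Nat.card_eq_fintype_card, hα]; rfl
  have hLR : Nat.card L = Nat.card R := Nat.card_congr (Subgroup.subgroupOfEquivOfLe hsub).toEquiv
  by_cases htop : L = ⊤
  · obtain rfl : R = alternatingGroup α := le_antisymm hsub (Subgroup.subgroupOf_eq_top.mp htop)
    exact ⟨Equiv.altCongrHom (Fintype.equivFinOfCardEq hα)⟩
  exfalso
  have hfac := index_factorial L htop
  rw [hA] at hfac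
  have hi := Subgroup.card_mul_index L
  rw [hA, hLR] at hi
  have hge : 7 ≤ L.index := by
    by_contra h
    exact absurd (hfac.trans (Nat.factorial_dvd_factorial (show L.index ≤ 6 by omega))) (by decide)
  obtain ⟨t, ht⟩ : 210 ∣ Nat.card R := by omega
  have ht0 : t ≠ 0 := fun h => (Nat.card_pos (α := R)).ne' (by rw [ht, h])
  have ht1 : t = 1 := by
    by_contra h
    have : 420 ≤ Nat.card R := by omega
    nlinarith
  refine hR (isSolvable_of_squarefree ?_)
  rw [ht, ht1]
  decide +kernel

/-! ### Elements of order 5 and 7 -/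

theorem cycle_of_prime_order {α : Type*} [Fintype α] [DecidableEq α] (hα : Fintype.card α = 8) {c : Equiv.Perm α}
    {p : ℕ} (hp : p.Prime) (h5 : 5 ≤ p) (hc : orderOf c = p) : c.IsCycle ∧ c.support.card = p := by
  obtain ⟨n, hn⟩ := cycleType_prime_order (hc.symm ▸ hp : (orderOf c).Prime)
  have hsum : c.cycleType.sum ≤ 8 := by
    rw [sum_cycleType, ← hα]
    exact Finset.card_le_univ _
  rw [hn, Multiset.sum_replicate, smul_eq_mul, hc] at hsum
  obtain rfl : n = 0 := by
    by_contra h
    have : 2 * 5 ≤ (n + 1) * p := Nat.mul_le_mul (by omega) h5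
    omega
  refine ⟨card_cycleType_eq_one.mp (by rw [hn, Multiset.card_replicate]), ?_⟩
  rw [← sum_cycleType, hn, hc]
  simp

/-- A permutation of eight points commuting with a seven-cycle is a power of it. -/
theorem eq_pow_of_commute {c s : Equiv.Perm (Fin 8)} (hc : c.IsCycle) (h7 : c.support.card = 7)
    (h : Commute s c) : ∃ i : ℕ, s = c ^ i := by
  obtain ⟨y, hy⟩ : c.support.Nonempty := Finset.card_pos.mp (by omega)
  obtain ⟨z, hz⟩ : (c.supportᶜ).Nonempty := Finset.card_pos.mp (by rw [Finset.card_compl, h7, Fintype.card_fin]; omega)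
  have hone : (c.supportᶜ).card = 1 := by rw [Finset.card_compl, h7, Fintype.card_fin]
  have hfixed : ∀ x, c x = x → x = z := fun x hx =>
    Finset.card_le_one.mp hone.le x (by simp [hx]) z hz
  have hcz : c z = z := notMem_support.mp (Finset.mem_compl.mp hz)
  have hsc : ∀ x, s (c x) = c (s x) := fun x => Equiv.congr_fun h.eq x
  have hcy : c y ≠ y := mem_support.mp hy
  obtain ⟨i, hi⟩ := hc.exists_pow_eq hcy (show c (s y) ≠ s y from fun e => hcy (s.injective ((hsc y).trans e)))
  refine ⟨i, Equiv.ext fun x => ?_⟩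
  by_cases hx : c x = x
  · obtain rfl := hfixed x hx
    rw [Equiv.Perm.pow_apply_eq_self_of_apply_eq_self hcz]
    exact hfixed (s x) (by rw [← hsc, hcz])
  · obtain ⟨j, rfl⟩ := hc.exists_pow_eq hcy hx
    have h1 := Equiv.congr_fun (h.pow_right j).eq y
    rw [Perm.mul_apply, Perm.mul_apply] at h1
    rw [h1, ← hi, ← Perm.mul_apply, ← Perm.mul_apply, ← pow_add, ← pow_add, Nat.add_comm]

/-- The standard seven-cycle. -/
def c0 : Equiv.Perm (Fin 8) :=
  ⟨![1, 2, 3, 4, 5, 6, 0, 7], ![6, 0, 1, 2, 3, 4, 5, 7], by decide +kernel, by decide +kernel⟩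

/-- An odd permutation inverting the standard seven-cycle. -/
def t0 : Equiv.Perm (Fin 8) :=
  ⟨![0, 6, 5, 4, 3, 2, 1, 7], ![0, 6, 5, 4, 3, 2, 1, 7], by decide +kernel, by decide +kernel⟩

/-- An even permutation of eight points does not invert a seven-cycle. -/
theorem not_invert {c s : Equiv.Perm (Fin 8)} (hc : orderOf c = 7) (hs : Equiv.Perm.sign s = 1)
    (h : s * c * s⁻¹ = c⁻¹) : False := by
  have hc0 : orderOf c0 = 7 :=
    haveI : Fact (Nat.Prime 7) := ⟨by norm_num⟩
    orderOf_eq_prime (by decide +kernel) (by decide +kernel)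
  obtain ⟨h1, h2⟩ := cycle_of_prime_order (Fintype.card_fin 8) (by norm_num) (by norm_num) hc
  obtain ⟨k1, k2⟩ := cycle_of_prime_order (Fintype.card_fin 8) (by norm_num) (by norm_num) hc0
  obtain ⟨σ, hσ⟩ := isConj_iff.mp ((h1.isConj_iff k1).mpr (h2.trans k2.symm))
  have hs' : (σ * s * σ⁻¹) * c0 * (σ * s * σ⁻¹)⁻¹ = c0⁻¹ := by
    rw [← hσ, show σ * s * σ⁻¹ * (σ * c * σ⁻¹) * (σ * s * σ⁻¹)⁻¹ = σ * (s * c * s⁻¹) * σ⁻¹ by group, h]
    group
  have ht : t0 * c0 * t0⁻¹ = c0⁻¹ := by decide +kernel
  have hcomm : Commute (t0⁻¹ * (σ * s * σ⁻¹)) c0 := by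
    refine mul_inv_eq_iff_eq_mul.mp ?_
    rw [show t0⁻¹ * (σ * s * σ⁻¹) * c0 * (t0⁻¹ * (σ * s * σ⁻¹))⁻¹ =
      t0⁻¹ * ((σ * s * σ⁻¹) * c0 * (σ * s * σ⁻¹)⁻¹) * t0 by group, hs', ← ht]
    group
  obtain ⟨i, hi⟩ := eq_pow_of_commute k1 k2 hcomm
  have hsgn := congrArg Equiv.Perm.sign hi
  rw [map_pow, show Equiv.Perm.sign c0 = 1 by decide +kernel, one_pow, map_mul, map_mul, map_mul, map_inv, map_inv,
    show Equiv.Perm.sign t0 = -1 by decide +kernel, hs, mul_one, mul_inv_cancel, mul_one] at hsgn
  exact absurd hsgn (by decide)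

variable (f : G →* Equiv.Perm (Fin 8))

omit [Finite G] in
theorem prime_comm {P : Subgroup G} {p : ℕ} [Fact p.Prime] (h : Nat.card P = p) {x y : G} (hx : x ∈ P) (hy : y ∈ P) :
    x * y = y * x := by
  haveI : IsCyclic P := isCyclic_of_prime_card h
  exact congrArg Subtype.val ((IsCyclic.isMulCommutative (α := ↥P)).is_comm.comm ⟨x, hx⟩ ⟨y, hy⟩)

theorem sylow_seven_card (hd : Nat.card G ∣ 4032) (h7 : 7 ∣ Nat.card G) [Fact (Nat.Prime 7)] (P : Sylow 7 G) :
    Nat.card P = 7 := by
  obtain ⟨k, hk⟩ := IsPGroup.iff_card.mp P.isPGroup'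
  have h1 : Nat.card P ∣ 7 := by
    have hdv := (Subgroup.card_subgroup_dvd_card (P : Subgroup G)).trans hd
    rw [hk] at hdv ⊢
    have hk1 : k ≤ 1 := by
      by_contra h
      exact absurd ((pow_dvd_pow 7 (show 2 ≤ k by omega)).trans hdv) (by decide)
    exact (pow_dvd_pow 7 hk1).trans (by norm_num)
  have h2 : 7 ∣ Nat.card P := P.dvd_card_of_dvd_card h7
  exact Nat.dvd_antisymm h1 h2

theorem normalizer_seven (hf : Function.Injective f) (hsign : ∀ g, Equiv.Perm.sign (f g) = 1) (P : Subgroup G)
    (hP : Nat.card P = 7) : Nat.card (Subgroup.normalizer (P : Set G)) ∣ 21 := by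
  haveI : Fact (Nat.Prime 7) := ⟨by norm_num⟩
  haveI : IsCyclic P := isCyclic_of_prime_card hP
  obtain ⟨g, hg, hne⟩ : ∃ g ∈ P, g ≠ 1 := by
    by_contra h
    push Not at h
    rw [(Subgroup.eq_bot_iff_forall P).mpr h, Subgroup.card_bot] at hP
    omega
  have hog : orderOf g = 7 :=
    orderOf_eq_prime (by simpa [hP] using congrArg Subtype.val (pow_card_eq_one' (G := ↥P) (x := ⟨g, hg⟩))) hne
  have hPg : Subgroup.zpowers g = P := Subgroup.eq_of_le_of_card_ge (Subgroup.zpowers_le.mpr hg)
    (by rw [Nat.card_zpowers, hog, hP])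
  have hfo : orderOf (f g) = 7 := by rw [orderOf_injective f hf, hog]
  obtain ⟨hcyc, hsupp⟩ := cycle_of_prime_order (Fintype.card_fin 8) (by norm_num) (by norm_num) hfo
  set N := Subgroup.normalizer (P : Set G)
  have hC : ∀ x : G, Commute x g → x ∈ P := fun x hx => by
    obtain ⟨i, hi⟩ := eq_pow_of_commute hcyc hsupp (hx.map f)
    rw [← map_pow] at hi
    rw [hf hi]
    exact pow_mem hg i
  have hker : Nat.card P.normalizerMonoidHom.ker = 7 := by
    rw [Subgroup.normalizerMonoidHom_ker, ← hP]
    have hCP : Subgroup.centralizer (P : Set G) = P := by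
      refine le_antisymm (fun x hx => hC x (Subgroup.mem_centralizer_iff.mp hx g hg).symm) ?_
      intro x hx
      refine Subgroup.mem_centralizer_iff.mpr fun y hy => ?_
      exact prime_comm hP hy hx
    rw [hCP]
    exact Nat.card_congr (Subgroup.subgroupOfEquivOfLe Subgroup.le_normalizer).toEquiv
  have h42 : Nat.card N ∣ 42 := by
    rw [Subgroup.card_eq_card_quotient_mul_card_subgroup P.normalizerMonoidHom.ker, hker,
      Nat.card_congr (QuotientGroup.quotientKerEquivRange P.normalizerMonoidHom).toEquiv]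
    have h6 : Nat.card (MulAut ↥P) = 6 := by rw [IsCyclic.card_mulAut, hP]; rfl
    exact mul_dvd_mul (h6 ▸ Subgroup.card_subgroup_dvd_card P.normalizerMonoidHom.range) (dvd_refl 7)
  have hodd : ¬ 2 ∣ Nat.card N := by
    intro h2
    haveI : Fact (Nat.Prime 2) := ⟨Nat.prime_two⟩
    obtain ⟨⟨t, htN⟩, hto⟩ := exists_prime_orderOf_dvd_card' (G := ↥N) 2 h2
    have hto2 : orderOf t = 2 := by rw [← hto]; exact (Subgroup.orderOf_mk t htN).symm
    have ht2 : t * t = 1 := by
      have h := pow_orderOf_eq_one t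
      rwa [hto2, pow_two] at h
    have htinv : t⁻¹ = t := inv_eq_of_mul_eq_one_right ht2
    have hgt : t * g * t⁻¹ ∈ P := (Subgroup.mem_normalizer_iff.mp htN g).mp hg
    have hcomm : (t * g * t⁻¹) * g = g * (t * g * t⁻¹) := prime_comm hP hgt hg
    have hmem : g * (t * g * t⁻¹) ∈ P := mul_mem hg hgt
    by_cases hh : g * (t * g * t⁻¹) = 1
    · have hinv : f t * f g * (f t)⁻¹ = (f g)⁻¹ := by
        rw [← map_mul, ← map_inv, ← map_mul, ← map_inv, eq_inv_of_mul_eq_one_right hh]
      exact not_invert hfo (hsign t) hinv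
    · have hfix : Commute t (g * (t * g * t⁻¹)) := by
        show t * (g * (t * g * t⁻¹)) = g * (t * g * t⁻¹) * t
        calc t * (g * (t * g * t⁻¹)) = (t * g * t⁻¹) * (t * t * g * (t * t)⁻¹) * t := by group
          _ = (t * g * t⁻¹) * g * t := by rw [ht2]; group
          _ = g * (t * g * t⁻¹) * t := by rw [hcomm]
      have hgen : Subgroup.zpowers (g * (t * g * t⁻¹)) = P := Subgroup.eq_of_le_of_card_ge
        (Subgroup.zpowers_le.mpr hmem) (by
          have ho : orderOf (g * (t * g * t⁻¹)) = 7 :=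
            orderOf_eq_prime (by simpa [hP] using congrArg Subtype.val (pow_card_eq_one' (G := ↥P) (x := ⟨_, hmem⟩))) hh
          rw [Nat.card_zpowers, ho, hP])
      have hg' : g ∈ Subgroup.zpowers (g * (t * g * t⁻¹)) := hgen.symm ▸ hg
      obtain ⟨k, hk⟩ := Subgroup.mem_zpowers_iff.mp hg'
      have htP : t ∈ P := hC t (hk ▸ hfix.zpow_right k)
      have hd2 := orderOf_dvd_natCard (⟨t, htP⟩ : ↥P)
      rw [Subgroup.orderOf_mk, hP, hto2] at hd2
      exact absurd hd2 (by norm_num)
  exact (Nat.prime_two.coprime_iff_not_dvd.mpr hodd).symm.dvd_of_dvd_mul_left (h42 : Nat.card N ∣ 2 * 21)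

theorem seven_case (hf : Function.Injective f) (hsign : ∀ g, Equiv.Perm.sign (f g) = 1)
    (hns : ¬ Group.IsSolvable G) (hd : Nat.card G ∣ 4032) [Fact (Nat.Prime 7)] :
    (Nat.card G = 168 ∨ Nat.card G = 1344) ∧ ∀ P : Sylow 7 G, Nat.card (Subgroup.normalizer (P : Set G)) = 21 := by
  have h7 : 7 ∣ Nat.card G := dvd_of_not_solvable hns Nat.prime_two Nat.prime_three Fact.out
    (a := 6) (b := 2) (c := 1) (hd.trans (by norm_num))
  have key : ∀ P : Sylow 7 G, Nat.card (Subgroup.normalizer (P : Set G)) = 21 ∧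
      (Nat.card (Sylow 7 G) = 8 ∨ Nat.card (Sylow 7 G) = 64) := by
    intro P
    have hP := sylow_seven_card hd h7 P
    set N := Subgroup.normalizer (P : Set G)
    have hN21 : Nat.card N ∣ 21 := normalizer_seven f hf hsign P hP
    have hidx : Nat.card N * Nat.card (Sylow 7 G) = Nat.card G := by
      rw [P.card_eq_index_normalizer, Subgroup.card_mul_index]
    have hN7 : 7 ∣ Nat.card N := hP ▸ Subgroup.card_dvd_of_le Subgroup.le_normalizer
    have hmod : Nat.card (Sylow 7 G) % 7 = 1 := card_sylow_modEq_one 7 G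
    have hn576 : Nat.card (Sylow 7 G) ∣ 576 := by
      have h := ((mul_dvd_mul_right hN7 (Nat.card (Sylow 7 G))).trans (hidx ▸ dvd_rfl)).trans hd
      exact (Nat.mul_dvd_mul_iff_left (by norm_num : 0 < 7)).mp (h.trans (by norm_num : 4032 ∣ 7 * 576))
    have hmem : Nat.card (Sylow 7 G) ∈ (Nat.divisors 576).filter (fun x => x % 7 = 1) :=
      Finset.mem_filter.mpr ⟨Nat.mem_divisors.mpr ⟨hn576, by norm_num⟩, hmod⟩
    rw [show (Nat.divisors 576).filter (fun x => x % 7 = 1) = {1, 8, 36, 64, 288} by decide +kernel] at hmem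
    simp only [Finset.mem_insert, Finset.mem_singleton] at hmem
    haveI : IsCyclic (P : Subgroup G) := isCyclic_of_prime_card hP
    haveI : Group.IsSolvable (P : Subgroup G) := Group.isSolvable_of_comm fun a b => Subtype.ext (prime_comm hP a.2 b.2)
    have hne1 : Nat.card (Sylow 7 G) ≠ 1 := by
      intro h
      haveI : (P : Subgroup G).Normal := by
        exact Subgroup.normalizer_eq_top_iff.mp (Subgroup.index_eq_one.mp (P.card_eq_index_normalizer.symm.trans h))
      haveI : Group.IsSolvable (G ⧸ (P : Subgroup G)) := isSolvable_of_dvd_two (a := 6) (b := 2) Nat.prime_two Nat.prime_three (by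
        have h' := Subgroup.card_eq_card_quotient_mul_card_subgroup (P : Subgroup G)
        rw [hP] at h'
        exact (Nat.mul_dvd_mul_iff_right (by norm_num : 0 < 7)).mp ((h' ▸ hd).trans (by norm_num)))
      exact hns (Group.isSolvable_of_ker_le_range (P : Subgroup G).subtype (QuotientGroup.mk' (P : Subgroup G))
        (by rw [QuotientGroup.ker_mk', Subgroup.range_subtype]))
    have hN : Nat.card N = 21 := by
      have hdiv := hN21
      rcases (show Nat.card N = 7 ∨ Nat.card N = 21 by
        have hle := Nat.le_of_dvd (by norm_num) hN21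
        obtain ⟨t, ht⟩ := hN7
        have h0 : 0 < Nat.card N := Nat.card_pos
        rw [ht] at hN21 hle h0 ⊢
        rcases (show t = 1 ∨ t = 2 ∨ t = 3 by omega) with rfl | rfl | rfl
        · exact Or.inl rfl
        · exact absurd hN21 (by norm_num)
        · exact Or.inr rfl) with h | h
      · exfalso
        have hNP : N = (P : Subgroup G) := (Subgroup.eq_of_le_of_card_ge Subgroup.le_normalizer (h.trans hP.symm).le).symm
        have hNC : N ≤ Subgroup.centralizer (P : Set G) := by
          intro x hx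
          rw [hNP] at hx
          exact Subgroup.mem_centralizer_iff.mpr fun y hy => prime_comm hP hy hx
        have hcompl := MonoidHom.ker_transferSylow_isComplement' P hNC
        set K := (MonoidHom.transferSylow P hNC).ker
        have hK : Nat.card K * 7 = Nat.card G := by rw [← hP]; exact hcompl.card_mul
        haveI : Group.IsSolvable K := isSolvable_of_dvd_two (a := 6) (b := 2) Nat.prime_two Nat.prime_three
          ((Nat.mul_dvd_mul_iff_right (by norm_num : 0 < 7)).mp ((hK ▸ hd).trans (by norm_num)))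
        exact hns (Group.isSolvable_of_ker_le_range K.subtype (MonoidHom.transferSylow P hNC)
          (by rw [Subgroup.range_subtype]))
      · exact h
    refine ⟨hN, ?_⟩
    have h := hidx ▸ hd
    rw [hN] at h
    rcases hmem with e | e | e | e | e <;> rw [e] at h ⊢ <;> first | omega | norm_num at h | exact absurd e hne1
  refine ⟨?_, fun P => (key P).1⟩
  obtain ⟨hN, hn⟩ := key default
  have hidx : Nat.card (Subgroup.normalizer ((default : Sylow 7 G) : Set G)) * Nat.card (Sylow 7 G) = Nat.card G := by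
    rw [(default : Sylow 7 G).card_eq_index_normalizer, Subgroup.card_mul_index]
  rw [hN] at hidx
  omega

/-- Trivial solvable radical. -/
def CoreFree (G : Type*) [Group G] : Prop := ∀ N : Subgroup G, N.Normal → Group.IsSolvable N → N = ⊥

theorem not_solvable_of_coreFree [Nontrivial G] (hcore : CoreFree G) : ¬ Group.IsSolvable G := fun h =>
  top_ne_bot (hcore ⊤ inferInstance inferInstance)

theorem seven_simple [Nontrivial G] (hf : Function.Injective f) (hsign : ∀ g, Equiv.Perm.sign (f g) = 1)
    (hcore : CoreFree G) (hd : Nat.card G ∣ 4032) [Fact (Nat.Prime 7)] : IsSimpleGroup G := by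
  obtain ⟨hG, hN21⟩ := seven_case f hf hsign (not_solvable_of_coreFree hcore) hd
  refine ⟨fun M hM => ?_⟩
  by_contra h
  push Not at h
  obtain ⟨hMb, hMt⟩ := h
  obtain ⟨hMc, -⟩ := seven_case (f.comp M.subtype) (hf.comp M.subtype_injective) (fun g => hsign g)
    (fun hs => hMb (hcore M hM hs)) ((Subgroup.card_subgroup_dvd_card M).trans hd)
  have hdM : Nat.card M ∣ 4032 := (Subgroup.card_subgroup_dvd_card M).trans hd
  have h7M : 7 ∣ Nat.card M := by rcases hMc with e | e <;> rw [e] <;> norm_num
  let Q : Sylow 7 M := default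
  have hQc : Nat.card ((Q : Subgroup M).map M.subtype) = 7 := by
    rw [← Nat.card_congr (Subgroup.equivMapOfInjective _ _ M.subtype_injective).toEquiv]
    exact sylow_seven_card hdM h7M Q
  have h7G : 7 ∣ Nat.card G := h7M.trans (Subgroup.card_subgroup_dvd_card M)
  have hfac : (Nat.card G).factorization 7 = 1 := by
    have h := (default : Sylow 7 G).card_eq_multiplicity
    rw [sylow_seven_card hd h7G] at h
    exact (Nat.pow_right_injective (by norm_num : 2 ≤ 7) (h.symm.trans (pow_one 7).symm))
  let P : Sylow 7 G := Sylow.ofCard ((Q : Subgroup M).map M.subtype) (by rw [hQc, hfac, pow_one])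
  have hP : (P : Subgroup G) = (Q : Subgroup M).map M.subtype := rfl
  have hN : Nat.card (Subgroup.normalizer (((Q : Subgroup M).map M.subtype : Subgroup G) : Set G)) = 21 := by
    rw [← hN21 P]
    rfl
  have hsup := Sylow.normalizer_sup_eq_top Q
  let φ := (QuotientGroup.mk' M).comp (Subgroup.normalizer (((Q : Subgroup M).map M.subtype : Subgroup G) : Set G)).subtype
  have hsurj : Function.Surjective φ := by
    intro y
    obtain ⟨x, rfl⟩ := QuotientGroup.mk'_surjective M y
    have hx := Subgroup.mem_top x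
    rw [← hsup] at hx
    obtain ⟨a, ha, b, hb, rfl⟩ := Subgroup.mem_sup_of_normal_right.mp hx
    refine ⟨⟨a, ha⟩, ?_⟩
    show QuotientGroup.mk' M a = QuotientGroup.mk' M (a * b)
    rw [map_mul]
    simp [(QuotientGroup.eq_one_iff b).mpr hb]
  have hidx : M.index ∣ 21 := hN ▸ Subgroup.index_eq_card M ▸ Subgroup.card_dvd_of_surjective φ hsurj
  have hmul := Subgroup.card_mul_index M
  have h1 : M.index ≠ 1 := fun h => hMt (Subgroup.index_eq_one.mp h)
  have hle := Nat.le_of_dvd (by norm_num) hidx
  rcases hG with e | e <;> rcases hMc with e' | e' <;> rw [e, e'] at hmul <;>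
    first
      | omega
      | (obtain rfl : M.index = 8 := by omega)
        norm_num at hidx
      | (exact absurd ((show M.index = 8 by omega) ▸ hidx) (by norm_num))

theorem ZModTwo_add_self : ∀ c : ZMod 2, c + c = 0 := by decide

theorem no_simple_1344 [IsSimpleGroup G] (hG : Nat.card G = 1344) (j : G →* GL (Fin 4) (ZMod 2))
    (hj : Function.Injective j) : False := by
  classical
  haveI : Fact (Nat.Prime 2) := ⟨Nat.prime_two⟩
  have hfact : ∀ K : Subgroup G, K.index ≤ 7 → K = ⊤ := fun K hle => by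
    by_contra hK
    exact absurd ((hG ▸ index_factorial K hK).trans (Nat.factorial_dvd_factorial hle)) (by decide)
  letI : MulAction G (Fin 4 → ZMod 2) :=
    { smul := fun g w => (j g : Matrix (Fin 4) (Fin 4) (ZMod 2)).mulVec w
      one_smul := fun w => by
        show (j 1 : Matrix (Fin 4) (Fin 4) (ZMod 2)).mulVec w = w
        rw [map_one, Units.val_one, Matrix.one_mulVec]
      mul_smul := fun g h w => by
        show (j (g * h) : Matrix (Fin 4) (Fin 4) (ZMod 2)).mulVec w = _
        rw [map_mul, Units.val_mul, ← Matrix.mulVec_mulVec]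
        rfl }
  have hzero : ∀ g : G, g • (0 : Fin 4 → ZMod 2) = 0 := fun g => Matrix.mulVec_zero _
  let S : Sylow 2 G := default
  obtain ⟨v, hv0, hv⟩ : ∃ v : Fin 4 → ZMod 2, v ≠ 0 ∧ ∀ g ∈ (S : Subgroup G), g • v = v := by
    have h0 : (0 : Fin 4 → ZMod 2) ∈ MulAction.fixedPoints ↥(S : Subgroup G) (Fin 4 → ZMod 2) := fun g => hzero g
    obtain ⟨v, hv, hne⟩ := S.isPGroup'.exists_fixed_point_of_prime_dvd_card_of_fixed_point (Fin 4 → ZMod 2)
      (by simp [Nat.card_eq_fintype_card]) h0
    exact ⟨v, Ne.symm hne, fun g hg => hv ⟨g, hg⟩⟩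
  have hS21 : (S : Subgroup G).index ∣ 21 := by
    have h1 : 2 ^ 6 ∣ Nat.card S := S.pow_dvd_card_of_pow_dvd_card (by rw [hG]; norm_num)
    obtain ⟨t, ht⟩ := h1
    have h := Subgroup.card_mul_index (S : Subgroup G)
    rw [ht, hG] at h
    exact ⟨t, by nlinarith⟩
  have hstabv : MulAction.stabilizer G v = ⊤ := by
    refine hfact _ ?_
    have hd : (MulAction.stabilizer G v).index ∣ 21 :=
      (Subgroup.index_dvd_of_le fun g hg => hv g hg).trans hS21
    have hle : (MulAction.stabilizer G v).index ≤ 15 := by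
      rw [MulAction.index_stabilizer]
      calc (MulAction.orbit G v).ncard ≤ ({0}ᶜ : Set (Fin 4 → ZMod 2)).ncard := by
            refine Set.ncard_le_ncard ?_ (Set.toFinite _)
            rintro _ ⟨g, rfl⟩ (e : g • v = 0)
            exact hv0 (MulAction.injective g (e.trans (hzero g).symm))
        _ = 15 := by rw [Set.ncard_compl, Nat.card_eq_fintype_card]; simp
    obtain ⟨t, ht⟩ := hd
    rcases Nat.lt_or_ge t 2 with h | h
    · interval_cases t <;> omega
    · rcases Nat.lt_or_ge t 3 with h3 | h3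
      · interval_cases t; omega
      · nlinarith
  have hvg : ∀ g : G, g • v = v := fun g => by
    have h := Subgroup.mem_top g
    rwa [← hstabv] at h
  let W : Submodule (ZMod 2) (Fin 4 → ZMod 2) := Submodule.span (ZMod 2) {v}
  have hlin : ∀ (g : G) (c : ZMod 2), g • (c • v) = c • v := fun g c => by
    show (j g : Matrix (Fin 4) (Fin 4) (ZMod 2)).mulVec (c • v) = c • v
    rw [Matrix.mulVec_smul]
    exact congrArg (c • ·) (hvg g)
  have hsub : ∀ (g : G) (a b : Fin 4 → ZMod 2), g • (a - b) = g • a - g • b := fun g a b => Matrix.mulVec_sub _ a b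
  have hW : ∀ (g : G) (a b : Fin 4 → ZMod 2), a - b ∈ W → g • a - g • b ∈ W := by
    intro g a b h
    obtain ⟨c, hc⟩ := Submodule.mem_span_singleton.mp h
    rw [← hsub, ← hc, hlin]
    exact Submodule.smul_mem _ _ (Submodule.mem_span_singleton_self v)
  letI : MulAction G ((Fin 4 → ZMod 2) ⧸ W) :=
    { smul := fun g => Quotient.map' (fun w => g • w)
        (fun a b h => (Submodule.quotientRel_def W).mpr (hW g a b ((Submodule.quotientRel_def W).mp h)))
      one_smul := fun x => Quotient.inductionOn' x fun w => congrArg Quotient.mk'' (one_smul G w)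
      mul_smul := fun g h x => Quotient.inductionOn' x fun w => congrArg Quotient.mk'' (mul_smul g h w) }
  have htriv : ∀ (g : G) (x : (Fin 4 → ZMod 2) ⧸ W), g • x = x := by
    intro g x
    by_cases hx : x = 0
    · subst hx
      exact congrArg Quotient.mk'' (hzero g)
    have h8 : Nat.card ((Fin 4 → ZMod 2) ⧸ W) = 8 := by
      have h := Submodule.card_eq_card_quotient_mul_card W
      rw [Nat.card_eq_fintype_card (α := Fin 4 → ZMod 2),
        Module.natCard_eq_pow_finrank (K := ZMod 2) (V := ↥W), finrank_span_singleton hv0, Nat.card_zmod] at h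
      have e16 : Fintype.card (Fin 4 → ZMod 2) = 16 := by simp
      omega
    have hst : MulAction.stabilizer G x = ⊤ := by
      refine hfact _ ?_
      rw [MulAction.index_stabilizer]
      calc (MulAction.orbit G x).ncard ≤ ({0}ᶜ : Set ((Fin 4 → ZMod 2) ⧸ W)).ncard := by
            refine Set.ncard_le_ncard ?_ (Set.toFinite _)
            rintro _ ⟨k, rfl⟩ (e : k • x = 0)
            exact hx (MulAction.injective k (e.trans (congrArg Quotient.mk'' (hzero k)).symm))
        _ = 7 := by rw [Set.ncard_compl, h8, Set.ncard_singleton]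
    have h := Subgroup.mem_top g
    rwa [← hst] at h
  have hsq : ∀ g : G, g * g = 1 := by
    intro g
    refine hj (Units.ext ?_)
    rw [map_one, Units.val_one]
    refine Matrix.ext_of_mulVec_single fun k => ?_
    rw [Matrix.one_mulVec]
    set w : Fin 4 → ZMod 2 := Pi.single k 1
    show (g * g) • w = w
    have h := (Submodule.Quotient.eq W).mp (htriv g (Submodule.Quotient.mk w))
    obtain ⟨c, hc⟩ := Submodule.mem_span_singleton.mp h
    have e : g • w = w + c • v := by rw [hc]; abel
    rw [mul_smul, e]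
    show (j g : Matrix (Fin 4) (Fin 4) (ZMod 2)).mulVec (w + c • v) = w
    rw [Matrix.mulVec_add]
    show g • w + g • (c • v) = w
    rw [e, hlin, add_assoc, ← add_smul, ZModTwo_add_self c, zero_smul, add_zero]
  haveI : Fact (Nat.Prime 7) := ⟨by norm_num⟩
  obtain ⟨g, hg⟩ := exists_prime_orderOf_dvd_card' (G := G) 7 (by rw [hG]; norm_num)
  have h := orderOf_dvd_of_pow_eq_one (show g ^ 2 = 1 by rw [pow_two]; exact hsq g)
  rw [hg] at h
  norm_num at h

theorem classify [Nontrivial G] (hf : Function.Injective f) (hsign : ∀ g, Equiv.Perm.sign (f g) = 1)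
    (j : G →* GL (Fin 4) (ZMod 2)) (hj : Function.Injective j) (hcore : CoreFree G) :
    (∃ n, 5 ≤ n ∧ n ≤ 8 ∧ Nonempty (G ≃* alternatingGroup (Fin n))) ∨
      Nonempty (G ≃* Equiv.Perm (Fin 5)) ∨ Nonempty (G ≃* Equiv.Perm (Fin 6)) ∨
      Nonempty (G ≃* GL (Fin 3) (ZMod 2)) := by
  classical
  have hns := not_solvable_of_coreFree hcore
  have hd : Nat.card G ∣ 20160 := by
    have h := Subgroup.card_dvd_of_injective (f.codRestrict (alternatingGroup (Fin 8)) fun g => hsign g)
      (fun a b e => hf (congrArg Subtype.val e))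
    rwa [nat_card_alternatingGroup, Nat.card_eq_fintype_card (α := Fin 8), Fintype.card_fin,
      show (8 : ℕ).factorial / 2 = 20160 from rfl] at h
  by_cases h5 : 5 ∣ Nat.card G
  swap
  · haveI : Fact (Nat.Prime 7) := ⟨by norm_num⟩
    have hd' : Nat.card G ∣ 4032 :=
      ((show Nat.Prime 5 by norm_num).coprime_iff_not_dvd.mpr h5).symm.dvd_of_dvd_mul_left (hd.trans (by norm_num : 20160 ∣ 5 * 4032))
    haveI := seven_simple f hf hsign hcore hd'
    rcases (seven_case f hf hsign hns hd').1 with h | h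
    · obtain ⟨e⟩ := S0495.result (G := G) h (F := ZMod 7) (by rw [ZMod.card])
      obtain ⟨e'⟩ := H27.SevenPoints.psl_two_seven
      exact Or.inr (Or.inr (Or.inr ⟨e.trans e'⟩))
    · exact (no_simple_1344 h j hj).elim
  haveI : Fact (Nat.Prime 5) := ⟨by norm_num⟩
  obtain ⟨g, hg⟩ := exists_prime_orderOf_dvd_card' (G := G) 5 h5
  have hfo : orderOf (f g) = 5 := by rw [orderOf_injective f hf, hg]
  obtain ⟨hcyc, hsupp⟩ := cycle_of_prime_order (Fintype.card_fin 8) (by norm_num) le_rfl hfo
  obtain ⟨a, ha⟩ : (f g).support.Nonempty := Finset.card_pos.mp (by omega)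
  let p : Fin 8 → Prop := fun x => ∃ h, f h a = x
  have hp : ∀ (h : G) (x : Fin 8), p (f h x) ↔ p x := by
    intro h x
    constructor
    · rintro ⟨k, hk⟩
      exact ⟨h⁻¹ * k, by rw [map_mul, Perm.mul_apply, hk, map_inv]; exact (f h).symm_apply_apply x⟩
    · rintro ⟨k, hk⟩
      exact ⟨h * k, by rw [map_mul, Perm.mul_apply, hk]⟩
  have hsub : ∀ x ∈ (f g).support, p x := by
    intro x hx
    obtain ⟨i, hi⟩ := hcyc.exists_pow_eq (mem_support.mp ha) (mem_support.mp hx)
    exact ⟨g ^ i, by rw [map_pow, hi]⟩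
  have hk5 : 5 ≤ Fintype.card {x // p x} := by
    rw [← hsupp, Fintype.card_subtype]
    exact Finset.card_le_card fun x hx => by simp [hsub x hx]
  have hk8 : Fintype.card {x // p x} ≤ 8 := by
    have := Fintype.card_subtype_le p
    rwa [Fintype.card_fin] at this
  let ψ : G →* Equiv.Perm {x // p x} := MonoidHom.mk' (fun h => (f h).subtypePerm (hp h)) fun u v =>
    Equiv.ext fun x => Subtype.ext (by
      show f (u * v) x.1 = _
      rw [map_mul]; rfl)
  have hψ : Function.Injective ψ := by
    rw [← MonoidHom.ker_eq_bot_iff]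
    refine hcore _ ψ.normal_ker ?_
    let χ : ↥ψ.ker →* Equiv.Perm {x // ¬ p x} := MonoidHom.mk' (fun h => (f h).subtypePerm (fun x => not_congr (hp h x)))
      fun u v => Equiv.ext fun x => Subtype.ext (by
        show f ((u : G) * v) x.1 = _
        rw [map_mul]; rfl)
    have hχ : Function.Injective χ := (injective_iff_map_eq_one _).mpr fun h hh => by
      refine Subtype.ext (hf ?_)
      show f (h : G) = f (1 : G)
      rw [map_one f]
      refine Equiv.ext fun x => ?_
      by_cases hx : p x
      · exact congrArg Subtype.val (Equiv.congr_fun (MonoidHom.mem_ker.mp h.2) ⟨x, hx⟩)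
      · exact congrArg Subtype.val (Equiv.congr_fun hh ⟨x, hx⟩)
    haveI : Group.IsSolvable (Equiv.Perm {x // ¬ p x}) := by
      refine isSolvable_of_squarefree ?_
      rw [Nat.card_perm, Nat.card_eq_fintype_card]
      have hle : Fintype.card {x // ¬ p x} ≤ 3 := by
        rw [Fintype.card_subtype_compl, Fintype.card_fin]; omega
      interval_cases (Fintype.card {x // ¬ p x}) <;> decide +kernel
    exact Group.isSolvable_of_isSolvable_injective hχ
  let R := ψ.range
  let eR : G ≃* ↥R := MonoidHom.ofInjective hψ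
  have hRns : ¬ Group.IsSolvable R := fun h => hns (Group.isSolvable_of_isSolvable_injective (f := eR.toMonoidHom) eR.injective)
  have hbig : Fintype.card {x // p x} ≥ 7 → ∀ (h : G) (x : Fin 8), f h x ≠ x → p x := by
    intro hk h x hx
    by_contra hpx
    have hle : Fintype.card {x // ¬ p x} ≤ 1 := by
      rw [Fintype.card_subtype_compl, Fintype.card_fin]; omega
    have h1 : ¬ p (f h x) := fun e => hpx ((hp h x).mp e)
    exact hx (congrArg Subtype.val (Fintype.card_le_one_iff.mp hle ⟨f h x, h1⟩ ⟨x, hpx⟩))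
  have htrans : MulAction.IsPretransitive ↥R {x // p x} := by
    refine ⟨fun x y => ?_⟩
    obtain ⟨u, hu⟩ := x.2
    obtain ⟨v, hv⟩ := y.2
    refine ⟨⟨ψ (v * u⁻¹), ⟨_, rfl⟩⟩, Subtype.ext ?_⟩
    show f (v * u⁻¹) x.1 = y.1
    rw [← hu, ← hv, map_mul, Perm.mul_apply, map_inv]
    exact congrArg (f v) ((f u).symm_apply_apply a)
  rcases (show Fintype.card {x // p x} = 5 ∨ Fintype.card {x // p x} = 6 ∨ Fintype.card {x // p x} = 7 ∨
      Fintype.card {x // p x} = 8 by omega) with hk | hk | hk | hk
  · rcases five_points hk R hRns with ⟨⟨e⟩⟩ | ⟨⟨e⟩⟩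
    · exact Or.inl ⟨5, le_rfl, by norm_num, ⟨eR.trans e⟩⟩
    · exact Or.inr (Or.inl ⟨eR.trans e⟩)
  · rcases six_points hk R hRns with ⟨n, h1, h2, ⟨e⟩⟩ | ⟨⟨e⟩⟩ | ⟨⟨e⟩⟩
    · exact Or.inl ⟨n, h1, h2, ⟨eR.trans e⟩⟩
    · exact Or.inr (Or.inl ⟨eR.trans e⟩)
    · exact Or.inr (Or.inr (Or.inl ⟨eR.trans e⟩))
  · refine Or.inl ⟨7, by norm_num, by norm_num, ?_⟩
    have hle : R ≤ alternatingGroup {x // p x} := by
      rintro _ ⟨h, rfl⟩
      rw [Equiv.Perm.mem_alternatingGroup]
      exact (Equiv.Perm.sign_subtypePerm (f h) (hp h) (hbig (by omega) h)).trans (hsign h)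
    obtain ⟨e⟩ := seven_points hk R hRns hle (Nat.card_congr eR.toEquiv ▸ h5)
    exact ⟨eR.trans e⟩
  · refine Or.inl ⟨8, by norm_num, le_rfl, ?_⟩
    let f' := f.range
    have hall : ∀ x, p x := by
      intro x
      by_contra hx
      have := Fintype.card_subtype_lt (p := p) hx
      rw [hk, Fintype.card_fin] at this
      omega
    haveI htr : MulAction.IsPretransitive ↥f' (Fin 8) := by
      refine ⟨fun x y => ?_⟩
      obtain ⟨u, hu⟩ := hall x
      obtain ⟨v, hv⟩ := hall y
      refine ⟨⟨f (v * u⁻¹), ⟨_, rfl⟩⟩, ?_⟩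
      show f (v * u⁻¹) x = y
      rw [← hu, ← hv, map_mul, Perm.mul_apply, map_inv]
      exact congrArg (f v) ((f u).symm_apply_apply a)
    have hprim : MulAction.IsPreprimitive ↥f' (Fin 8) := by
      refine MulAction.IsPreprimitive.of_isTrivialBlock_base a (fun {B} haB hB => ?_)
      by_cases hcB : (⟨f g, g, rfl⟩ : ↥f') • B = B
      · refine Or.inr ?_
        have hpow : ∀ i : ℕ, ((⟨f g, g, rfl⟩ : ↥f') ^ i) • B = B := by
          intro i
          induction i with
          | zero => simp
          | succ i ih => rw [pow_succ, mul_smul, hcB, ih]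
        have hsupB : ((f g).support : Set (Fin 8)) ⊆ B := by
          intro x hx
          obtain ⟨i, hi⟩ := hcyc.exists_pow_eq (mem_support.mp ha) (mem_support.mp (Finset.mem_coe.mp hx))
          rw [← hpow i]
          refine ⟨a, haB, ?_⟩
          exact hi
        have h5B : 5 ≤ B.ncard := by
          rw [← hsupp, ← Set.ncard_coe_finset]
          exact Set.ncard_le_ncard hsupB (Set.toFinite _)
        have hdv := hB.ncard_dvd_card ⟨a, haB⟩
        rw [Nat.card_eq_fintype_card, Fintype.card_fin] at hdv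
        have hle := Nat.le_of_dvd (by norm_num) hdv
        apply (Set.eq_univ_iff_ncard B).mpr
        rw [Nat.card_eq_fintype_card, Fintype.card_fin]
        obtain ⟨t, ht⟩ := hdv
        have ht1 : t = 1 := by
          rcases Nat.lt_or_ge t 2 with h | h
          · interval_cases t <;> omega
          · have : B.ncard * 2 ≤ B.ncard * t := Nat.mul_le_mul_left _ h
            omega
        rw [ht1, mul_one] at ht
        omega
      · refine Or.inl ?_
        rw [← Set.ncard_le_one_iff_subsingleton]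
        set c : ↥f' := ⟨f g, g, rfl⟩ with hc
        have hoc : orderOf c = 5 := by rw [← Subgroup.orderOf_coe]; exact hfo
        have hdisj : ((Finset.range 5 : Finset ℕ) : Set ℕ).PairwiseDisjoint fun i => c ^ i • B := by
          intro i hi j hj hij
          refine hB fun e => ?_
          have hmem : ∀ m : ℕ, c ^ m • B = B → ¬ 5 ∣ m → False := by
            intro m hm hnd
            apply hcB
            obtain ⟨r, hr⟩ := exists_pow_eq_self_of_coprime (show Nat.Coprime m (orderOf c) by
              rw [hoc]; exact ((show Nat.Prime 5 by norm_num).coprime_iff_not_dvd.mpr hnd).symm)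
            rw [← hr]
            exact (MulAction.stabilizer ↥f' B).pow_mem hm r
          simp only [Finset.coe_range, Set.mem_Iio] at hi hj
          rcases Nat.lt_or_gt_of_ne hij with h | h
          · refine hmem (j - i) ?_ (fun hd => by have := Nat.le_of_dvd (by omega) hd; omega)
            apply MulAction.injective (c ^ i)
            show c ^ i • c ^ (j - i) • B = c ^ i • B
            rw [← mul_smul, ← pow_add, Nat.add_sub_cancel' h.le, e]
          · refine hmem (i - j) ?_ (fun hd => by have := Nat.le_of_dvd (by omega) hd; omega)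
            apply MulAction.injective (c ^ j)
            show c ^ j • c ^ (i - j) • B = c ^ j • B
            rw [← mul_smul, ← pow_add, Nat.add_sub_cancel' h.le, ← e]
        have hsum := Finset.card_biUnion (s := Finset.range 5) (t := fun i => (c ^ i • B).toFinset)
          (fun i hi j hj hij => Set.disjoint_toFinset.mpr (hdisj hi hj hij))
        simp only [← Set.ncard_eq_toFinset_card', Set.ncard_smul_set] at hsum
        rw [Finset.sum_const, Finset.card_range, smul_eq_mul] at hsum
        have h8 := Finset.card_le_univ ((Finset.range 5).biUnion fun i => (c ^ i • B).toFinset)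
        rw [hsum, Fintype.card_fin] at h8
        omega
    have hA8 : alternatingGroup (Fin 8) ≤ f' :=
      S0713.result f' hprim (by norm_num : Nat.Prime 5) (by simp) (by simp) hcyc hsupp ⟨g, rfl⟩
    have heq : f' = alternatingGroup (Fin 8) := le_antisymm (by rintro _ ⟨h, rfl⟩; exact hsign h) hA8
    exact ⟨(MonoidHom.ofInjective hf).trans (MulEquiv.subgroupCongr heq)⟩

end Cfsg.Agent.H56.SubAltEight
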