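import Mathlib

/-!
Arithmetic behind the classification of Hall subgroups of symmetric and alternating groups:
binomial coefficients without small prime divisors.
-/

set_option autoImplicit false

namespace Cfsg.Agent.H56.HallSym

open Nat

/-- Numbers without a carry. -/
theorem mod_add_mod_lt_of_not_dvd_choose {p : ℕ} (hp : p.Prime) {m c : ℕ}
    (h : ¬ p ∣ (m + c).choose c) (i : ℕ) : m % p ^ i + c % p ^ i < p ^ i := by
  rcases Nat.eq_zero_or_pos i with rfl | hi
  · simp [Nat.mod_one]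
  by_contra hc
  refine h ?_
  have hfac := Nat.factorization_choose' (p := p) (n := m) (k := c) hp
    (b := Nat.log p (m + c) + i + 1) (by omega)
  have hmem : i ∈ (Finset.Ico 1 (Nat.log p (m + c) + i + 1)).filter
      (fun j => p ^ j ≤ c % p ^ j + m % p ^ j) :=
    Finset.mem_filter.2 ⟨Finset.mem_Ico.2 ⟨hi, by omega⟩, by omega⟩
  have h0 : 0 < ((m + c).choose c).factorization p := by
    rw [hfac]; exact Finset.card_pos.2 ⟨i, hmem⟩
  exact Nat.dvd_of_factorization_pos (by omega)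

theorem add_mod_eq {p : ℕ} (hp : p.Prime) {m c : ℕ} (h : ¬ p ∣ (m + c).choose c) (i : ℕ) :
    (m + c) % p ^ i = m % p ^ i + c % p ^ i :=
  Nat.add_mod_of_add_mod_lt (mod_add_mod_lt_of_not_dvd_choose hp h i)

/-- If all prime divisors of `L` are at most `m` and every prime power dividing `L` divides `X`. -/
theorem dvd_of_small {L X m : ℕ} (hs : ∀ p, p.Prime → p ∣ L → p ≤ m)
    (h : ∀ p i, p.Prime → p ≤ m → 0 < i → p ^ i ∣ L → p ^ i ∣ X) : L ∣ X := by
  rw [Nat.dvd_iff_prime_pow_dvd_dvd]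
  intro p i hp hpL
  rcases Nat.eq_zero_or_pos i with rfl | hi
  · simp
  exact h p i hp (hs p hp ((dvd_pow_self p hi.ne').trans hpL)) hi hpL

/-- A composite number `L ≤ 2 m + 1` has all prime divisors at most `m`. -/
theorem le_of_not_prime {L m p : ℕ} (hL : ¬ L.Prime) (hL0 : 1 < L) (hLm : L ≤ 2 * m + 1)
    (hp : p.Prime) (hpL : p ∣ L) : p ≤ m := by
  obtain ⟨k, hk⟩ := hpL
  have hk2 : 2 ≤ k := by
    rcases Nat.lt_or_ge k 2 with h | h
    · interval_cases k
      · omega
      · exact absurd (by rw [hk, mul_one]; exact hp) hL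
    · exact h
  nlinarith

theorem binom_three {m c : ℕ} (hm : 3 ≤ m) (hc : 2 ≤ c) (hcm : c ≤ m)
    (hfree : ∀ p, p.Prime → p ≤ m → ¬ p ∣ (m + c).choose c) : m = 4 ∧ c = 3 := by
  have hA := fun {p : ℕ} (hp : p.Prime) (hle : p ≤ m) (i : ℕ) =>
    add_mod_eq hp (hfree p hp hle) i
  have hn : (m + c).Prime := by
    by_contra hn
    have hdvd : m + c ∣ m := dvd_of_small (fun p hp h => le_of_not_prime (m := m) hn (by omega) (by omega) hp h)
      fun p i hp hpm _ hi => by
        have := hA hp hpm i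
        rw [Nat.mod_eq_zero_of_dvd hi] at this
        exact Nat.dvd_of_mod_eq_zero (Nat.eq_zero_of_add_eq_zero this.symm).1
    have := Nat.le_of_dvd (by omega) hdvd
    omega
  have hm1 : (m + 1).Prime := by
    by_contra hn1
    have hdvd : m + 1 ∣ c := dvd_of_small (fun p hp h => le_of_not_prime (m := m) hn1 (by omega) (by omega) hp h)
      fun p i hp hpm hi0 hi => by
        have h1 := mod_add_mod_lt_of_not_dvd_choose hp (hfree p hp hpm) i
        have hd : 1 < p ^ i := Nat.one_lt_pow hi0.ne' hp.one_lt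
        obtain ⟨k, hk⟩ := hi
        rcases Nat.eq_zero_or_pos k with rfl | hk0
        · omega
        obtain ⟨k', rfl⟩ : ∃ k', k = k' + 1 := ⟨k - 1, by omega⟩
        rw [Nat.mul_succ] at hk
        have : m % p ^ i = p ^ i - 1 := by
          rw [show m = p ^ i - 1 + p ^ i * k' from by omega, Nat.add_mul_mod_self_left,
            Nat.mod_eq_of_lt (by omega)]
        refine Nat.dvd_of_mod_eq_zero ?_
        generalize c % p ^ i = y at *
        omega
    have := Nat.le_of_dvd (by omega) hdvd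
    omega
  obtain ⟨m', hm'⟩ : Even m := by
    rcases hm1.eq_two_or_odd' with h | h
    · omega
    · exact (Nat.odd_add_one.1 h |> Nat.not_odd_iff_even.1)
  obtain ⟨c', hc'⟩ : Odd c := by
    rcases hn.eq_two_or_odd' with h | ⟨k, hk⟩
    · omega
    · exact ⟨k - m', by omega⟩
  have hsmall : ∀ L, Even L → L ≤ 2 * m + 1 → 2 < L → ∀ p, p.Prime → p ∣ L → p ≤ m := by
    intro L hL h1 h2 p hp hpL
    refine le_of_not_prime (fun hp' => ?_) (by omega) h1 hp hpL
    have := hp'.even_iff.1 hL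
    omega
  -- small residues
  have hres : ∀ {p i : ℕ}, p.Prime → p ≤ m → 0 < i → ∀ j, j < p ^ i → (m + c) % p ^ i = j →
      m % p ^ i ≤ j ∧ c % p ^ i ≤ j ∧ m % p ^ i + c % p ^ i = j := by
    intro p i hp hpm _ j _ hj
    have := hA hp hpm i
    rw [hj] at this
    generalize m % p ^ i = x at *
    generalize c % p ^ i = y at *
    omega
  have hL1 : m + c - 1 ∣ c * (c - 1) := by
    refine dvd_of_small (hsmall _ ⟨m' + c', by omega⟩ (by omega) (by omega)) fun p i hp hpm hi0 hi => ?_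
    have hd : 1 < p ^ i := Nat.one_lt_pow hi0.ne' hp.one_lt
    obtain ⟨k, hk⟩ := hi
    have hj : (m + c) % p ^ i = 1 := by
      rw [show m + c = 1 + p ^ i * k by omega, Nat.add_mul_mod_self_left, Nat.mod_eq_of_lt hd]
    obtain ⟨-, h2, -⟩ := hres hp hpm hi0 1 hd hj
    rcases Nat.le_one_iff_eq_zero_or_eq_one.1 h2 with h | h
    · exact Dvd.dvd.mul_right (Nat.dvd_of_mod_eq_zero h) _
    · refine Dvd.dvd.mul_left ?_ _
      have := Nat.dvd_sub_mod (n := p ^ i) c
      rwa [h] at this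
  have hL2 : m + 2 ∣ c * (c - 1) := by
    refine dvd_of_small (hsmall _ ⟨m' + 1, by omega⟩ (by omega) (by omega)) fun p i hp hpm hi0 hi => ?_
    have hd : 1 < p ^ i := Nat.one_lt_pow hi0.ne' hp.one_lt
    obtain ⟨k, hk⟩ := hi
    obtain ⟨k', rfl⟩ : ∃ k', k = k' + 1 := ⟨k - 1, by
      rcases Nat.eq_zero_or_pos k with rfl | hk0 <;> omega⟩
    rw [Nat.mul_succ] at hk
    have h1 : m % p ^ i = p ^ i - 2 := by
      rw [show m = p ^ i - 2 + p ^ i * k' by omega, Nat.add_mul_mod_self_left,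
        Nat.mod_eq_of_lt (by omega)]
    have h2 := mod_add_mod_lt_of_not_dvd_choose hp (hfree p hp hpm) i
    have h3 : c % p ^ i ≤ 1 := by
      generalize c % p ^ i = y at *
      omega
    rcases Nat.le_one_iff_eq_zero_or_eq_one.1 h3 with h | h
    · exact Dvd.dvd.mul_right (Nat.dvd_of_mod_eq_zero h) _
    · refine Dvd.dvd.mul_left ?_ _
      have := Nat.dvd_sub_mod (n := p ^ i) c
      rwa [h] at this
  set g := Nat.gcd (m + 2) (m + c - 1) with hg
  have hg6 : g ∣ 6 := by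
    have h1 : (g : ℤ) ∣ ((m + 2 : ℕ) : ℤ) := Int.natCast_dvd_natCast.2 (Nat.gcd_dvd_left _ _)
    have h2 : (g : ℤ) ∣ ((m + c - 1 : ℕ) : ℤ) := Int.natCast_dvd_natCast.2 (Nat.gcd_dvd_right _ _)
    have h3 : (g : ℤ) ∣ ((c * (c - 1) : ℕ) : ℤ) :=
      Int.natCast_dvd_natCast.2 ((Nat.gcd_dvd_left _ _).trans hL2)
    rw [← Int.natCast_dvd_natCast]
    have h4 := _root_.dvd_sub h3 (dvd_mul_of_dvd_left (_root_.dvd_sub h2 h1) ((c : ℤ) + 2))
    push_cast [show 1 ≤ c by omega, show 1 ≤ m + c by omega] at h4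
    rwa [show (c : ℤ) * (c - 1) - ((m : ℤ) + c - 1 - (m + 2)) * (c + 2) = ((6 : ℕ) : ℤ) by push_cast; ring] at h4
  obtain ⟨s, hs⟩ := Nat.lcm_dvd hL2 hL1
  have hprod : (m + 2) * (m + c - 1) * s = g * (c * (c - 1)) := by
    rw [← Nat.gcd_mul_lcm (m + 2) (m + c - 1), hs, mul_assoc]
  have hs0 : 0 < s := Nat.pos_of_ne_zero fun h => by
    rw [h, mul_zero] at hs
    have : 0 < c * (c - 1) := Nat.mul_pos (by omega) (by omega)
    omega
  obtain ⟨d, rfl⟩ : ∃ d, c = d + 1 := ⟨c - 1, by omega⟩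
  simp only [Nat.add_sub_cancel, ← add_assoc] at hprod hL1 hs
  have hbig : 2 * ((d + 1) * d) < (m + 2) * (m + d) := by nlinarith
  have hg' : g = 6 := by
    have hle := Nat.le_of_dvd (by omega) hg6
    have h2 : 2 ∣ g := Nat.dvd_gcd ⟨m' + 1, by omega⟩ ⟨m' + c', by omega⟩
    have : (m + 2) * (m + d) ≤ g * ((d + 1) * d) := hprod ▸ Nat.le_mul_of_pos_right _ hs0
    obtain ⟨e, he⟩ := h2
    interval_cases g <;> first | rfl | (exfalso; omega) | nlinarith
  rw [hg'] at hprod
  have hs3 : s < 3 := by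
    by_contra hs3
    have : (m + 2) * (m + d) * 3 ≤ 6 * ((d + 1) * d) :=
      hprod ▸ Nat.mul_le_mul_left _ (by omega)
    omega
  interval_cases s
  · -- m = 2 d
    have hfac : ((m : ℤ) - 2 * d) * ((m : ℤ) + 3 * d + 2) = 0 := by
      have : (((m + 2) * (m + d) * 1 : ℕ) : ℤ) = ((6 * ((d + 1) * d) : ℕ) : ℤ) := by rw [hprod]
      push_cast at this
      linear_combination this
    have hmd : m = 2 * d := by
      rcases mul_eq_zero.1 hfac with h | h
      · omega
      · omega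
    subst hmd
    have hdvd : 3 * d - 2 ∣ 20 := by
      refine dvd_of_small (hsmall _ ⟨3 * c' - 1, by omega⟩ (by omega) (by omega)) fun p i hp hpm hi0 hi => ?_
      obtain ⟨k, hk⟩ := hi
      have hj : (2 * d + (d + 1)) % p ^ i = 3 % p ^ i := by
        rw [show 2 * d + (d + 1) = 3 + p ^ i * k by omega, Nat.add_mul_mod_self_left]
      have h2 := hA hp hpm i
      set r := (d + 1) % p ^ i with hr
      have hr3 : r ≤ 3 := by
        rw [hj] at h2
        have := Nat.mod_le 3 (p ^ i)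
        generalize (2 * d) % p ^ i = x at *
        omega
      have hz : ((p ^ i : ℕ) : ℤ) ∣ 3 * (r : ℤ) - 5 := by
        have h5 : ((p ^ i : ℕ) : ℤ) ∣ ((d + 1 : ℕ) : ℤ) - r := by
          rw [hr, Int.natCast_mod]; exact Int.dvd_self_sub_emod
        have h6 : ((p ^ i : ℕ) : ℤ) ∣ 3 * ((d : ℤ) + 1) - 5 :=
          ⟨k, by have := congrArg (Nat.cast : ℕ → ℤ) hk; push_cast [show 2 ≤ 3 * d by omega] at this ⊢; linarith⟩
        push_cast at h5 h6 ⊢
        have := _root_.dvd_sub h6 (Dvd.dvd.mul_left h5 3)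
        rwa [show 3 * ((d : ℤ) + 1) - 5 - 3 * ((d : ℤ) + 1 - r) = 3 * (r : ℤ) - 5 by ring] at this
      rw [← Int.natCast_dvd_natCast]
      interval_cases r <;> exact hz.trans (by norm_num)
    have := Nat.le_of_dvd (by norm_num) hdvd
    rcases (show d = 2 ∨ d = 4 ∨ d = 6 by omega) with rfl | rfl | rfl
    · exact ⟨rfl, rfl⟩
    · norm_num at hm1
    · norm_num at hdvd
  · -- the second conic
    exfalso
    have hq : (m + 2) * (m + d) = 3 * ((d + 1) * d) := by omega
    have hn5 : 7 ≤ m + (d + 1) := by omega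
    have hdvd : m + (d + 1) - 5 ∣ 2184 := by
      refine dvd_of_small (hsmall _ ⟨m' + c' - 2, by omega⟩ (by omega) ?_) fun p i hp hpm hi0 hi => ?_
      · rcases Nat.lt_or_ge 7 (m + (d + 1)) with h | h
        · omega
        · exfalso
          obtain ⟨rfl, rfl⟩ : m = 4 ∧ d = 2 := by omega
          norm_num at hq
      obtain ⟨k, hk⟩ := hi
      have hj : (m + (d + 1)) % p ^ i = 5 % p ^ i := by
        rw [show m + (d + 1) = 5 + p ^ i * k by omega, Nat.add_mul_mod_self_left]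
      have h2 := hA hp hpm i
      set r := (d + 1) % p ^ i with hr
      have hr3 : r ≤ 5 := by
        rw [hj] at h2
        have := Nat.mod_le 5 (p ^ i)
        generalize (m % p ^ i) = x at *
        omega
      have hz : ((p ^ i : ℕ) : ℤ) ∣ 3 * (r : ℤ) ^ 2 + r - 28 := by
        have h5 : ((p ^ i : ℕ) : ℤ) ∣ ((d + 1 : ℕ) : ℤ) - r := by
          rw [hr, Int.natCast_mod]; exact Int.dvd_self_sub_emod
        have h6 : ((p ^ i : ℕ) : ℤ) ∣ (m : ℤ) + d + 1 - 5 :=
          ⟨k, by have := congrArg (Nat.cast : ℕ → ℤ) hk; push_cast [show 5 ≤ m + (d + 1) by omega] at this ⊢; linarith⟩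
        push_cast at h5 h6 ⊢
        have hq' : (((m + 2) * (m + d) : ℕ) : ℤ) = ((3 * ((d + 1) * d) : ℕ) : ℤ) := by rw [hq]
        push_cast at hq'
        have := _root_.dvd_add (Dvd.dvd.mul_left h5 (-(3 * ((d : ℤ) + 1 + r) + 1)))
          (Dvd.dvd.mul_left h6 ((m : ℤ) + 2 + 4))
        have e : (-(3 * ((d : ℤ) + 1 + r) + 1)) * ((d : ℤ) + 1 - r) + ((m : ℤ) + 2 + 4) * ((m : ℤ) + d + 1 - 5)
            = 3 * (r : ℤ) ^ 2 + r - 28 := by linear_combination hq'
        rwa [e] at this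
      rw [← Int.natCast_dvd_natCast]
      interval_cases r <;> exact hz.trans (by norm_num)
    have key : ∀ L ∈ Nat.divisors 2184, L % 2 = 1 ∨ L = 14 ∨ L = 364 ∨
        Nat.sqrt (13 * (L + 5) ^ 2 + 4 * (L + 5) - 8) ^ 2 ≠ 13 * (L + 5) ^ 2 + 4 * (L + 5) - 8 := by
      decide +kernel
    obtain ⟨L, hL⟩ : ∃ L, m + (d + 1) = L + 5 := ⟨m + (d + 1) - 5, by omega⟩
    rw [hL, Nat.add_sub_cancel] at hdvd
    rcases key L (Nat.mem_divisors.2 ⟨hdvd, by norm_num⟩) with h | rfl | rfl | h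
    · omega
    · -- n = 19
      obtain rfl : m = 18 - d := by omega
      have : d ≤ 9 := by omega
      interval_cases d <;> norm_num at hq
      exact hfree 2 Nat.prime_two (by norm_num) (by decide)
    · rw [hL] at hn; norm_num at hn
    · refine h ?_
      have e : 13 * (L + 5) ^ 2 + 4 * (L + 5) - 8 = (6 * (d + 1) + (L + 5) - 4) ^ 2 := by
        have hsub : 8 ≤ 13 * (L + 5) ^ 2 + 4 * (L + 5) := by nlinarith
        have hq' : (((m + 2) * (m + d) : ℕ) : ℤ) = ((3 * ((d + 1) * d) : ℕ) : ℤ) := by rw [hq]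
        have hL' : (m : ℤ) + d + 1 = L + 5 := by exact_mod_cast (by omega : m + d + 1 = L + 5)
        zify [hsub, show 4 ≤ 6 * (d + 1) + (L + 5) by omega]
        push_cast at hq'
        rw [← hL']
        linear_combination (12 : ℤ) * hq'
      rw [e, Nat.sqrt_eq']

theorem dvd_choose_two_mul_of_mod {p a : ℕ} (hp : p.Prime) (h : p < 2 * (a % p) + 1) :
    p ∣ (2 * a).choose a := by
  haveI := Fact.mk hp
  have h1 := Choose.choose_modEq_choose_mod_mul_choose_div_nat (p := p) (n := 2 * a) (k := a)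
  have hlt : a % p < p := Nat.mod_lt _ hp.pos
  have h2 : 2 * a % p = 2 * (a % p) - p := by
    have : 2 * a = (2 * (a % p) - p) + p * (2 * (a / p) + 1) := by
      have := Nat.div_add_mod a p
      rw [Nat.mul_add, mul_one, ← mul_assoc, mul_comm p 2, mul_assoc]
      omega
    rw [this, Nat.add_mul_mod_self_left, Nat.mod_eq_of_lt (by omega)]
  rw [h2, Nat.choose_eq_zero_of_lt (by omega : 2 * (a % p) - p < a % p), zero_mul] at h1
  exact Nat.modEq_zero_iff_dvd.1 h1

theorem two_mul_choose_pred {a : ℕ} (ha : 1 ≤ a) :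
    (2 * a).choose a = 2 * (2 * a - 1).choose (a - 1) := by
  obtain ⟨b, rfl⟩ : ∃ b, a = b + 1 := ⟨a - 1, by omega⟩
  have := Nat.add_one_mul_choose_eq (2 * b + 1) b
  rw [show 2 * (b + 1) = 2 * b + 1 + 1 by omega, Nat.add_sub_cancel, Nat.add_sub_cancel]
  nlinarith

theorem pow_two_of_odd_choose (u : ℕ) (h : ¬ 2 ∣ (2 * u + 1).choose u) :
    ∃ k, u + 1 = 2 ^ k := by
  induction u using Nat.strong_induction_on with
  | _ u ih =>
    rcases Nat.eq_zero_or_pos u with rfl | hu
    · exact ⟨0, rfl⟩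
    haveI := Fact.mk Nat.prime_two
    have h1 := Choose.choose_modEq_choose_mod_mul_choose_div_nat (p := 2) (n := 2 * u + 1) (k := u)
    rw [show (2 * u + 1) / 2 = u by omega] at h1
    rcases Nat.mod_two_eq_zero_or_one u with h0 | h0
    · exfalso
      refine h ((Nat.ModEq.dvd_iff h1 dvd_rfl).2 (Dvd.dvd.mul_left ?_ _))
      obtain ⟨c, rfl⟩ : ∃ c, u = 2 * c := ⟨u / 2, by omega⟩
      rw [show 2 * c / 2 = c by omega, two_mul_choose_pred (by omega)]
      exact dvd_mul_right 2 _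
    · obtain ⟨c, rfl⟩ : ∃ c, u = 2 * c + 1 := ⟨u / 2, by omega⟩
      have hc : ¬ 2 ∣ (2 * c + 1).choose c := fun hd => h ((Nat.ModEq.dvd_iff h1 dvd_rfl).2
        (Dvd.dvd.mul_left (by rwa [show (2 * c + 1) / 2 = c by omega]) _))
      obtain ⟨k, hk⟩ := ih c (by omega) hc
      exact ⟨k + 1, by rw [pow_succ]; omega⟩

/-- Only `a = 4` has `C(2a-1, a-1)` free of primes at most `a`. -/
theorem eq_four_of_free {a : ℕ} (ha : 3 ≤ a)
    (h : ∀ p, p.Prime → p ≤ a → ¬ p ∣ (2 * a - 1).choose (a - 1)) : a = 4 := by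
  have hodd : ∀ p, p.Prime → p ≠ 2 → p ≤ a → ¬ p ∣ (2 * a).choose a := by
    intro p hp hp2 hpa hd
    rw [two_mul_choose_pred (by omega)] at hd
    rcases hp.dvd_mul.1 hd with h2 | h2
    · exact hp2 ((Nat.prime_dvd_prime_iff_eq hp Nat.prime_two).1 h2)
    · exact h p hp hpa h2
  obtain ⟨k, hk⟩ := pow_two_of_odd_choose (a - 1) (by
    rw [show 2 * (a - 1) + 1 = 2 * a - 1 by omega]; exact h 2 Nat.prime_two (by omega))
  rw [show a - 1 + 1 = a by omega] at hk
  by_contra ha4
  have hk3 : 3 ≤ k := by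
    by_contra hk3
    interval_cases k <;> omega
  have h8 : 8 ∣ a := hk ▸ pow_dvd_pow 2 hk3
  have ha3 : ¬ 3 ∣ a := fun h3 => by
    have := Nat.prime_three.dvd_of_dvd_pow (hk ▸ h3)
    omega
  have h31 : a % 3 = 1 := by
    by_contra h31
    exact hodd 3 Nat.prime_three (by norm_num) (by omega)
      (dvd_choose_two_mul_of_mod Nat.prime_three (by omega))
  by_cases h97 : a % 9 = 7
  · refine hodd 3 Nat.prime_three (by norm_num) (by omega) ?_
    haveI := Fact.mk Nat.prime_three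
    have h1 := Choose.choose_modEq_choose_mod_mul_choose_div_nat (p := 3) (n := 2 * a) (k := a)
    refine (Nat.ModEq.dvd_iff h1 dvd_rfl).2 (Dvd.dvd.mul_left ?_ _)
    rw [show 2 * a / 3 = 2 * (a / 3) by omega]
    exact dvd_choose_two_mul_of_mod Nat.prime_three (by omega)
  obtain ⟨u, hu⟩ : ∃ u, 2 * a - 5 = 3 * u := ⟨(2 * a - 5) / 3, by omega⟩
  obtain ⟨q, hq, hqu⟩ := Nat.exists_prime_and_dvd (show u ≠ 1 by omega)
  have hqle : q ≤ u := Nat.le_of_dvd (by omega) hqu
  have hqd : q ∣ 2 * a - 5 := hu ▸ Dvd.dvd.mul_left hqu 3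
  have hq2 : q ≠ 2 := fun e => by subst e; omega
  have hq3 : q ≠ 3 := fun e => by subst e; omega
  have hq5 : q ≠ 5 := fun e => by
    subst e
    have h5 : 5 ∣ 2 * a := by omega
    rcases (Nat.Prime.dvd_mul hq).1 h5 with h5 | h5
    · omega
    · have := hq.dvd_of_dvd_pow (hk ▸ h5); omega
  have hq7 : 7 ≤ q := by
    have := hq.two_le
    by_contra hlt
    interval_cases q <;> first | omega | norm_num at hq
  refine hodd q hq hq2 (by omega) (dvd_choose_two_mul_of_mod hq ?_)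
  obtain ⟨t, ht⟩ := hqd
  have hlt : a % q < q := Nat.mod_lt _ hq.pos
  by_contra hle
  have h2 : 2 * a % q = 2 * (a % q) := by
    rw [Nat.mul_mod, Nat.mod_eq_of_lt (show 2 < q by omega), Nat.mod_eq_of_lt]
    omega
  rw [show 2 * a = 5 + q * t by omega, Nat.add_mul_mod_self_left,
    Nat.mod_eq_of_lt (by omega)] at h2
  omega

/-- A prime between the block size and the degree divides some block binomial. -/
theorem exists_dvd_of_gt {p a b : ℕ} (hp : p.Prime) (ha : 2 ≤ a) (hb : 2 ≤ b) (hap : a < p)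
    (hpn : p ≤ b * a) : ∃ i < b, p ∣ (i * a + a - 1).choose (a - 1) := by
  have hne : p ≠ b * a := fun e => Nat.not_prime_mul (by omega) (by omega) (e ▸ hp)
  have hr : p % a ≠ 0 := fun h => by
    rcases hp.eq_one_or_self_of_dvd a (Nat.dvd_of_mod_eq_zero h) with h | h <;> omega
  have hda := Nat.div_add_mod p a
  have hra : p % a < a := Nat.mod_lt _ (by omega)
  rw [mul_comm] at hda
  refine ⟨p / a, (Nat.div_lt_iff_lt_mul (by omega)).2 (by omega), ?_⟩
  have h1 := Nat.choose_mul_factorial_mul_factorial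
    (show a - 1 ≤ p / a * a + a - 1 by omega)
  rw [show p / a * a + a - 1 - (a - 1) = p / a * a by omega] at h1
  have h2 : p ∣ (p / a * a + a - 1).factorial := Nat.dvd_factorial hp.pos (by omega)
  rw [← h1] at h2
  rcases hp.dvd_mul.1 h2 with h | h
  · rcases hp.dvd_mul.1 h with h | h
    · exact h
    · rw [hp.dvd_factorial] at h; omega
  · rw [hp.dvd_factorial] at h; omega

end Cfsg.Agent.H56.HallSym
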