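import Cfsg.Agent.H56.HallTrans

/-!
Classification of the Hall π-subgroups of symmetric and alternating groups with two π-primes.
-/

set_option autoImplicit false

open Equiv Equiv.Perm MulAction
open scoped Pointwise

namespace Cfsg.Agent.H56.HallSym

variable {α : Type*} [Fintype α] [DecidableEq α] {π : Set ℕ}

/-- The possible overgroups of Hall subgroups. -/
def Shape (π : Set ℕ) (K : Subgroup (Perm α)) : Prop :=
  (((Nat.card α).Prime ∧ 5 ≤ Nat.card α ∧
      ∀ r : ℕ, r.Prime → r ≤ Nat.card α → (r ∈ π ↔ r < Nat.card α)) ∧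
    ∃ x : α, K = stabilizer (Perm α) x) ∨
  ((Nat.card α = 7 ∧ Only23 π 7) ∧ ∃ O : Set α, O.ncard = 4 ∧ K = stabilizer (Perm α) O) ∨
  ((Nat.card α = 8 ∧ Only23 π 8) ∧ ∃ B : Set α, B.ncard = 4 ∧ K = pairStab B)

/-- The exceptional pairs `(n, π)`. -/
def Excep (π : Set ℕ) (n : ℕ) : Prop :=
  (n.Prime ∧ ∀ r : ℕ, r.Prime → r ≤ n → (r ∈ π ↔ r < n)) ∨ ((n = 7 ∨ n = 8) ∧ Only23 π n)

omit [DecidableEq α] in
theorem exists_smul_set_eq {O P : Set α} (h : O.ncard = P.ncard) :
    ∃ g : Perm α, g • O = P := by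
  classical
  haveI : Fintype O := Fintype.ofFinite O
  haveI : Fintype P := Fintype.ofFinite P
  obtain ⟨e⟩ : Nonempty (O ≃ P) := ⟨Fintype.equivOfCardEq (by
    rw [← Nat.card_eq_fintype_card, ← Nat.card_eq_fintype_card, Nat.card_coe_set_eq,
      Nat.card_coe_set_eq, h])⟩
  refine ⟨e.extendSubtype, ?_⟩
  ext x
  constructor
  · rintro ⟨y, hy, rfl⟩
    show e.extendSubtype y ∈ P
    rw [extendSubtype_apply_of_mem e y hy]
    exact (e ⟨y, hy⟩).2
  · intro hx
    refine ⟨e.symm ⟨x, hx⟩, (e.symm ⟨x, hx⟩).2, ?_⟩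
    show e.extendSubtype _ = x
    rw [extendSubtype_apply_of_mem e _ (e.symm ⟨x, hx⟩).2, Subtype.coe_eta, e.apply_symm_apply]

theorem index_stab_set (O : Set α) :
    (stabilizer (Perm α) O).index = (Nat.card α).choose O.ncard := by
  classical
  rw [index_stabilizer]
  have e : orbit (Perm α) O =
      (fun s : Finset α => (s : Set α)) '' ↑(Finset.powersetCard O.ncard (Finset.univ : Finset α)) := by
    ext P
    constructor
    · rintro ⟨g, rfl⟩
      refine ⟨(g • O).toFinset, Finset.mem_coe.2 (Finset.mem_powersetCard.2 ⟨Finset.subset_univ _, ?_⟩),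
        Set.coe_toFinset _⟩
      rw [← Set.ncard_eq_toFinset_card']
      exact Set.ncard_image_of_injective _ g.injective
    · rintro ⟨s, hs, rfl⟩
      obtain ⟨g, hg⟩ := exists_smul_set_eq (O := O) (P := (s : Set α))
        (by rw [Set.ncard_coe_finset, (Finset.mem_powersetCard.1 hs).2])
      exact ⟨g, hg⟩
  rw [e, Set.ncard_image_of_injective _ Finset.coe_injective, Set.ncard_coe_finset,
    Finset.card_powersetCard, Finset.card_univ, Nat.card_eq_fintype_card]

theorem stab_le_pairStab (B : Set α) : stabilizer (Perm α) B ≤ pairStab B := by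
  intro g hg
  have hg' : g • B = B := hg
  show g • ({B, Bᶜ} : Set (Set α)) = {B, Bᶜ}
  refine smul_family_eq ?_
  intro C hC
  rcases hC with rfl | rfl
  · exact hg'
  · rw [Set.smul_set_compl, hg']

theorem index_pairStab {B : Set α} (hB : B.ncard = 4) (hn : Nat.card α = 8) :
    (pairStab B).index = 35 := by
  have h1 := Subgroup.relIndex_mul_index (stab_le_pairStab B)
  have h2 : (stabilizer (Perm α) B).relIndex (pairStab B) = 2 := by
    have h3 := relIndex_stab (pairStab B) B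
    rw [Subgroup.inf_relIndex_left] at h3
    rw [h3]
    have e : orbit (pairStab B) B = {B, Bᶜ} := by
      ext C
      constructor
      · rintro ⟨⟨g, hg⟩, rfl⟩
        have hg' : g • ({B, Bᶜ} : Set (Set α)) = {B, Bᶜ} := hg
        show g • B ∈ _
        rw [← hg']
        exact Set.smul_mem_smul_set (Set.mem_insert _ _)
      · rintro (rfl | rfl)
        · exact mem_orbit_self _
        · obtain ⟨g, hg⟩ := exists_smul_set_eq (O := B) (P := Bᶜ)
            (by rw [Set.ncard_compl, hn, hB])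
          refine ⟨⟨g, ?_⟩, hg⟩
          show g • ({B, Bᶜ} : Set (Set α)) = {B, Bᶜ}
          rw [Set.smul_set_insert, Set.smul_set_singleton, Set.smul_set_compl, hg, compl_compl, Set.pair_comm]
    rw [e, Set.ncard_pair]
    intro h
    obtain ⟨x, hx⟩ := Set.nonempty_of_ncard_ne_zero (by omega : B.ncard ≠ 0)
    exact (h ▸ hx : x ∈ Bᶜ) hx
  rw [h2, index_stab_set, hB, hn] at h1
  have : Nat.choose 8 4 = 70 := by decide +kernel
  omega

/-- Basic properties of the shapes. -/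
theorem Shape.props {K : Subgroup (Perm α)} (hK : Shape π K) :
    (∀ p, p.Prime → p ∣ Nat.card K → p ∈ π) ∧ (∀ p, p.Prime → p ∈ π → ¬ p ∣ K.index) ∧
      ∃ g ∈ K, sign g = -1 := by
  classical
  have card_eq : ∀ {i : ℕ}, K.index = i → ∀ {N : ℕ}, (Nat.card α).factorial = N * i →
      Nat.card K = N := by
    intro i hi N hN
    have h := Subgroup.card_mul_index K
    rw [hi, Nat.card_perm, hN] at h
    exact Nat.eq_of_mul_eq_mul_right (Nat.pos_of_ne_zero (hi ▸ Subgroup.index_ne_zero_of_finite)) h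
  rcases hK with ⟨⟨hn, hn5, hπ⟩, x, rfl⟩ | ⟨⟨hn, hπ⟩, O, hO, rfl⟩ | ⟨⟨hn, hπ⟩, B, hB, rfl⟩
  · have hidx : (stabilizer (Perm α) x).index = Nat.card α := index_stabilizer_of_transitive _ x
    have hc := card_eq hidx (N := (Nat.card α - 1).factorial) (by
      rw [mul_comm, Nat.mul_factorial_pred hn.pos.ne'])
    refine ⟨fun p hp hd => ?_, fun p hp hpπ hd => ?_, ?_⟩
    · rw [hc, hp.dvd_factorial] at hd
      exact (hπ p hp (by omega)).2 (by omega)
    · rw [hidx, Nat.prime_dvd_prime_iff_eq hp hn] at hd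
      subst hd
      exact lt_irrefl _ ((hπ _ hp le_rfl).1 hpπ)
    · have h1 : 1 < ({x}ᶜ : Finset α).card := by
        rw [Finset.card_compl, Finset.card_singleton, ← Nat.card_eq_fintype_card]
        omega
      obtain ⟨y, hy, z, hz, hyz⟩ := Finset.one_lt_card.1 h1
      rw [Finset.mem_compl, Finset.mem_singleton] at hy hz
      exact ⟨swap y z, swap_apply_of_ne_of_ne (Ne.symm hy) (Ne.symm hz), sign_swap hyz⟩
  · have hidx : (stabilizer (Perm α) O).index = 35 := by
      rw [index_stab_set, hn, hO]; decide +kernel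
    have hc := card_eq hidx (N := 144) (by rw [hn]; decide +kernel)
    refine ⟨fun p hp hd => ?_, fun p hp hpπ hd => ?_, ?_⟩
    · rw [hc, show (144 : ℕ) = 2 ^ 4 * 3 ^ 2 by norm_num] at hd
      rcases hp.dvd_mul.1 hd with h | h
      · obtain rfl := (Nat.prime_dvd_prime_iff_eq hp Nat.prime_two).1 (hp.dvd_of_dvd_pow h)
        exact (hπ 2 hp (by omega)).2 (Or.inl rfl)
      · obtain rfl := (Nat.prime_dvd_prime_iff_eq hp Nat.prime_three).1 (hp.dvd_of_dvd_pow h)
        exact (hπ 3 hp (by omega)).2 (Or.inr rfl)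
    · rw [hidx] at hd
      have hd' : p ∣ 5 * 7 := hd
      rcases hp.dvd_mul.1 hd' with h | h
      · obtain rfl := (Nat.prime_dvd_prime_iff_eq hp (by norm_num)).1 h
        have := (hπ 5 hp (by norm_num)).1 hpπ
        omega
      · obtain rfl := (Nat.prime_dvd_prime_iff_eq hp (by norm_num)).1 h
        have := (hπ 7 hp (by norm_num)).1 hpπ
        omega
    · obtain ⟨y, hy, z, hz, hyz⟩ := (Set.one_lt_ncard (Set.toFinite O)).1 (by omega)
      exact ⟨swap y z, swap_mem_stabilizer hy hz, sign_swap hyz⟩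
  · have hidx := index_pairStab hB hn
    have hc := card_eq hidx (N := 1152) (by rw [hn]; decide +kernel)
    refine ⟨fun p hp hd => ?_, fun p hp hpπ hd => ?_, ?_⟩
    · rw [hc, show (1152 : ℕ) = 2 ^ 7 * 3 ^ 2 by norm_num] at hd
      rcases hp.dvd_mul.1 hd with h | h
      · obtain rfl := (Nat.prime_dvd_prime_iff_eq hp Nat.prime_two).1 (hp.dvd_of_dvd_pow h)
        exact (hπ 2 hp (by omega)).2 (Or.inl rfl)
      · obtain rfl := (Nat.prime_dvd_prime_iff_eq hp Nat.prime_three).1 (hp.dvd_of_dvd_pow h)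
        exact (hπ 3 hp (by omega)).2 (Or.inr rfl)
    · rw [hidx] at hd
      have hd' : p ∣ 5 * 7 := hd
      rcases hp.dvd_mul.1 hd' with h | h
      · obtain rfl := (Nat.prime_dvd_prime_iff_eq hp (by norm_num)).1 h
        have := (hπ 5 hp (by norm_num)).1 hpπ
        omega
      · obtain rfl := (Nat.prime_dvd_prime_iff_eq hp (by norm_num)).1 h
        have := (hπ 7 hp (by norm_num)).1 hpπ
        omega
    · obtain ⟨y, hy, z, hz, hyz⟩ := (Set.one_lt_ncard (Set.toFinite B)).1 (by omega)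
      exact ⟨swap y z, stab_le_pairStab B (swap_mem_stabilizer hy hz), sign_swap hyz⟩

theorem Shape.conj {K K' : Subgroup (Perm α)} (hK : Shape π K) (hK' : Shape π K') :
    ∃ g : Perm α, K' = K.map (MulAut.conj g).toMonoidHom := by
  rcases hK with ⟨⟨hn, hn5, hπ⟩, x, rfl⟩ | ⟨⟨hn, hπ⟩, O, hO, rfl⟩ | ⟨⟨hn, hπ⟩, B, hB, rfl⟩ <;>
    rcases hK' with ⟨⟨hn', hn5', hπ'⟩, x', rfl⟩ | ⟨⟨hn', hπ'⟩, O', hO', rfl⟩ | ⟨⟨hn', hπ'⟩, B', hB', rfl⟩
  all_goals try (exfalso; omega)
  · exact ⟨swap x x', by rw [← stabilizer_smul_eq_stabilizer_map_conj, Perm.smul_def, swap_apply_left]⟩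
  · exfalso
    rw [hn'] at hπ
    have := (hπ' 5 (by norm_num) (by norm_num)).1 ((hπ 5 (by norm_num) (by norm_num)).2 (by norm_num))
    omega
  · rw [hn'] at hn; norm_num at hn
  · exfalso
    rw [hn] at hπ'
    have := (hπ 5 (by norm_num) (by norm_num)).1 ((hπ' 5 (by norm_num) (by norm_num)).2 (by norm_num))
    omega
  · obtain ⟨g, hg⟩ := exists_smul_set_eq (hO.trans hO'.symm)
    exact ⟨g, by rw [← stabilizer_smul_eq_stabilizer_map_conj, hg]⟩
  · rw [hn] at hn'; norm_num at hn'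
  · obtain ⟨g, hg⟩ := exists_smul_set_eq (hB.trans hB'.symm)
    refine ⟨g, ?_⟩
    rw [pairStab, pairStab, ← stabilizer_smul_eq_stabilizer_map_conj]
    congr 1
    rw [Set.smul_set_insert, Set.smul_set_singleton, Set.smul_set_compl, hg]

theorem Full.shape {G H : Subgroup (Perm α)} (h : Full π G H) (h2 : TwoPrimes π (Nat.card α))
    (hns : ∃ q : ℕ, q.Prime ∧ q ≤ Nat.card α ∧ q ∉ π) :
    ∃ K, Shape π K ∧ H = G ⊓ K := by
  classical
  suffices hsuff : ∃ K, Shape π K ∧ H ≤ K by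
    obtain ⟨K, hK, hle⟩ := hsuff
    exact ⟨K, hK, h.eq_inf hle hK.props.1⟩
  obtain ⟨q, hq, hqn, hqπ⟩ := hns
  set n := Nat.card α with hn
  have hn3 := h2.three_le
  have hn5 : 5 ≤ n := by
    by_contra hlt
    obtain ⟨r, s, hr, hs, hrs, hrπ, hsπ, hrn, hsn⟩ := h2
    have hr' : r ≠ 4 := fun e => by rw [e] at hr; norm_num at hr
    have hs' : s ≠ 4 := fun e => by rw [e] at hs; norm_num at hs
    have hq' : q ≠ 4 := fun e => by rw [e] at hq; norm_num at hq
    have := hr.two_le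
    have := hs.two_le
    have := hq.two_le
    rcases (show q = r ∨ q = s by omega) with rfl | rfl <;> contradiction
  haveI : Nonempty α := (Nat.card_pos_iff.1 (hn ▸ (by omega : 0 < n))).1
  obtain ⟨x, hx⟩ := Finite.exists_max fun x : α => (orbit H x).ncard
  set O := orbit H x with hO
  have hOH : H ≤ stabilizer (Perm α) O := fun g hg => smul_orbit (⟨g, hg⟩ : H) x
  have hple : ∀ p, p.Prime → p ∈ π → p ≤ n → p ≤ O.ncard := fun p hp hpπ hpn => by
    obtain ⟨y, hy⟩ := h.le_ncard_orbit hp hpπ hpn (Or.inr (by omega))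
    exact hy.trans (hx y)
  set m := O.ncard with hm
  have h2m : TwoPrimes π m := by
    obtain ⟨r, s, hr, hs, hrs, hrπ, hsπ, hrn, hsn⟩ := h2
    exact ⟨r, s, hr, hs, hrs, hrπ, hsπ, hple r hr hrπ hrn, hple s hs hsπ hsn⟩
  have hm3 := h2m.three_le
  by_cases hOu : O = Set.univ
  · -- transitive
    have htrans : IsPretransitive H α := by
      refine ⟨fun a b => ?_⟩
      obtain ⟨ga, hga⟩ : a ∈ O := hOu ▸ Set.mem_univ a
      obtain ⟨gb, hgb⟩ : b ∈ O := hOu ▸ Set.mem_univ b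
      exact ⟨gb * ga⁻¹, by rw [← hga, mul_smul, inv_smul_smul]; exact hgb⟩
    rcases transitive_cases π n rfl h htrans h2 with hall | ⟨h8, h23, B, hB, hle⟩
    · exact absurd (hall q hq hqn) hqπ
    · exact ⟨pairStab B, Or.inr (Or.inr ⟨⟨h8, h23⟩, B, hB, rfl⟩), hle⟩
  obtain ⟨y, hy⟩ := (Set.ne_univ_iff_exists_notMem _).1 hOu
  -- restriction to the largest orbit
  haveI : Fintype O := Fintype.ofFinite O
  obtain ⟨G', H', hfull, hlift⟩ := h.restrict O hOH
  have htO : IsPretransitive H' O := ⟨by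
    rintro ⟨a, ha⟩ ⟨b, hb⟩
    obtain ⟨g₁, hg₁⟩ := ha
    obtain ⟨g₂, hg₂⟩ := hb
    obtain ⟨g', hg', hg'x⟩ := hlift _ (g₂ * g₁⁻¹).2
    refine ⟨⟨g', hg'⟩, Subtype.ext ((hg'x ⟨a, ⟨g₁, hg₁⟩⟩).trans ?_)⟩
    show (g₂ * g₁⁻¹) • a = b
    rw [← hg₁, mul_smul, inv_smul_smul]
    exact hg₂⟩
  have hcO : Nat.card O = m := Nat.card_coe_set_eq O
  have hchoose : ∀ (P : Set α) (c : ℕ), Disjoint O P → H ≤ stabilizer (Perm α) P → P.ncard = c →
      ∀ p, p.Prime → p ∈ π → ¬ p ∣ (m + c).choose c := by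
    intro P c hd hP hc p hp hpπ hdvd
    obtain ⟨a, ha, b, hb, hab⟩ := (Set.one_lt_ncard (Set.toFinite O)).1 (by omega)
    have hodd : ∃ g ∈ stabilizer (Perm α) O ⊓ stabilizer (Perm α) P, sign g = -1 := by
      refine ⟨swap a b, ⟨swap_mem_stabilizer ha hb, smul_eq_of_fix fun z hz => ?_⟩, sign_swap hab⟩
      exact swap_apply_of_ne_of_ne (fun e : z = a => Set.disjoint_left.1 hd ha (e ▸ hz))
        (fun e : z = b => Set.disjoint_left.1 hd hb (e ▸ hz))
    refine h.not_dvd_index (le_inf hOH hP) hodd hp hpπ (hdvd.trans ?_)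
    rw [hm, ← hc]
    exact choose_dvd_index hd inf_le_left inf_le_right
  -- an orbit outside
  set P := orbit H y with hP
  have hPH : H ≤ stabilizer (Perm α) P := fun g hg => smul_orbit (⟨g, hg⟩ : H) y
  have horbd : ∀ z, z ∉ O → Disjoint O (orbit H z) := fun z hz => by
    rcases orbit.eq_or_disjoint (G := H) x z with he | hd
    · exact absurd (he ▸ mem_orbit_self z : z ∈ orbit H x) hz
    · exact hd
  have hPpos : 0 < P.ncard := (Set.ncard_pos (Set.toFinite P)).2 ⟨y, mem_orbit_self y⟩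
  have hPle : P.ncard ≤ m := hx y
  have hf := hchoose P P.ncard (horbd y hy) hPH rfl
  rcases transitive_cases π m hcO hfull htO h2m with hall | ⟨h8, h23, -⟩
  swap
  · exfalso
    have key : ∀ c, c ≤ 8 → 1 ≤ c → 2 ∣ (8 + c).choose c ∨ 3 ∣ (8 + c).choose c := by decide +kernel
    rcases key P.ncard (by omega) hPpos with hd | hd
    · exact hf 2 Nat.prime_two ((h23 2 Nat.prime_two (by norm_num)).2 (Or.inl rfl)) (by rw [h8]; exact hd)
    · exact hf 3 Nat.prime_three ((h23 3 Nat.prime_three (by norm_num)).2 (Or.inr rfl)) (by rw [h8]; exact hd)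
  have hfree : ∀ (Q : Set α), Disjoint O Q → H ≤ stabilizer (Perm α) Q → 2 ≤ Q.ncard → Q.ncard ≤ m →
      m = 4 ∧ Q.ncard = 3 := fun Q hd hQ hc hcm =>
    binom_three hm3 hc hcm fun p hp hpm => hchoose Q _ hd hQ rfl p hp (hall p hp hpm)
  have hsz : ∀ z, z ∉ O → (orbit H z).ncard = 1 ∨ (m = 4 ∧ (orbit H z).ncard = 3) := by
    intro z hz
    have h0 : 0 < (orbit H z).ncard := (Set.ncard_pos (Set.toFinite _)).2 ⟨z, mem_orbit_self z⟩
    rcases eq_or_ne (orbit H z).ncard 1 with h1 | h1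
    · exact Or.inl h1
    · exact Or.inr (hfree _ (horbd z hz) (fun g hg => smul_orbit (⟨g, hg⟩ : H) z) (by omega) (hx z))
  have hPc : P = Oᶜ := by
    refine Set.Subset.antisymm (Set.subset_compl_iff_disjoint_left.2 (horbd y hy)) ?_
    intro z hz
    by_contra hzP
    have hd : Disjoint P (orbit H z) := by
      rcases orbit.eq_or_disjoint (G := H) y z with he | hd
      · exact absurd (he ▸ mem_orbit_self z : z ∈ orbit H y) hzP
      · exact hd
    have hu : (P ∪ orbit H z).ncard = P.ncard + (orbit H z).ncard := Set.ncard_union_eq hd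
    have hinv : H ≤ stabilizer (Perm α) (P ∪ orbit H z) := fun g hg => by
      show g • (P ∪ orbit H z) = _
      rw [Set.smul_set_union, show g • P = P from hPH hg,
        show g • orbit H z = orbit H z from smul_orbit (⟨g, hg⟩ : H) z]
    have hdu : Disjoint O (P ∪ orbit H z) := Set.disjoint_union_right.2 ⟨horbd y hy, horbd z hz⟩
    rcases hsz y hy with hy1 | ⟨h4, hy3⟩
    · rcases hsz z hz with hz1 | ⟨h4, hz3⟩
      · have := hfree _ hdu hinv (by rw [hu, ← hP] at *; omega) (by rw [hu]; rw [← hP] at hy1; omega)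
        rw [hu] at this
        rw [← hP] at hy1
        omega
      · rw [← hP] at hy1
        have := hfree _ hdu hinv (by omega) (by omega)
        omega
    · rw [← hP] at hy3
      have hz13 : (orbit H z).ncard = 1 ∨ (orbit H z).ncard = 3 := (hsz z hz).imp id And.right
      have h2π : 2 ∈ π := hall 2 Nat.prime_two (by omega)
      refine hchoose _ _ hdu hinv rfl 2 Nat.prime_two h2π ?_
      rcases hz13 with h' | h' <;> rw [hu, hy3, h', h4] <;> decide +kernel
  have hnmc : n = m + P.ncard := by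
    rw [hPc, Set.ncard_compl, ← hn, ← hm]
    have : m ≤ n := hn ▸ hm ▸ Set.ncard_univ α ▸ Set.ncard_le_ncard (Set.subset_univ O)
    omega
  have hqm : m < q := not_le.1 fun hle => hqπ (hall q hq hle)
  rcases hsz y hy with hy1 | ⟨h4, hy3⟩
  · rw [← hP] at hy1
    have hqe : q = n := by omega
    refine ⟨stabilizer (Perm α) y, Or.inl ⟨⟨(hn ▸ hqe : q = Nat.card α) ▸ hq, hn5, fun r hr hrn => ⟨fun hrπ => ?_, fun hrlt => ?_⟩⟩,
      y, rfl⟩, fun g hg => ?_⟩
    · have := hple r hr hrπ hrn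
      omega
    · exact hall r hr (by omega)
    · obtain ⟨z, hz⟩ := Set.ncard_eq_one.1 hy1
      have hy' : y = z := by
        have : y ∈ P := mem_orbit_self y
        rwa [hz] at this
      have hgy : g y ∈ P := ⟨⟨g, hg⟩, rfl⟩
      rw [hz, ← hy'] at hgy
      exact hgy
  · rw [← hP] at hy3
    refine ⟨stabilizer (Perm α) O, Or.inr (Or.inl ⟨⟨by omega, fun r hr hr7 => ⟨fun hrπ => ?_, fun h23 => ?_⟩⟩,
      O, h4, rfl⟩), hOH⟩
    · have := hple r hr hrπ (by omega)
      have := hr.two_le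
      have : r ≠ 4 := fun e => by rw [e] at hr; norm_num at hr
      omega
    · rcases h23 with rfl | rfl <;> exact hall _ hr (by omega)

theorem exists_shape (h : Excep π (Nat.card α)) (h5 : 5 ≤ Nat.card α) :
    ∃ K : Subgroup (Perm α), Shape π K := by
  classical
  haveI : Nonempty α := (Nat.card_pos_iff.1 (by omega)).1
  have h4 : ∃ O : Set α, O.ncard = 4 := by
    obtain ⟨O, -, hO⟩ := Set.exists_subset_card_eq (s := (Set.univ : Set α)) (n := 4)
      (by rw [Set.ncard_univ]; omega)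
    exact ⟨O, hO⟩
  obtain ⟨O, hO⟩ := h4
  rcases h with ⟨hn, hπ⟩ | ⟨hn | hn, hπ⟩
  · exact ⟨_, Or.inl ⟨⟨hn, h5, hπ⟩, Classical.arbitrary α, rfl⟩⟩
  · exact ⟨_, Or.inr (Or.inl ⟨⟨hn, hn ▸ hπ⟩, O, hO, rfl⟩)⟩
  · exact ⟨_, Or.inr (Or.inr ⟨⟨hn, hn ▸ hπ⟩, O, hO, rfl⟩)⟩

theorem Shape.excep {K : Subgroup (Perm α)} (hK : Shape π K) : Excep π (Nat.card α) := by
  rcases hK with ⟨⟨hn, -, hπ⟩, -⟩ | ⟨⟨hn, hπ⟩, -⟩ | ⟨⟨hn, hπ⟩, -⟩
  · exact Or.inl ⟨hn, hπ⟩
  · exact Or.inr ⟨Or.inl hn, hn.symm ▸ hπ⟩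
  · exact Or.inr ⟨Or.inr hn, hn.symm ▸ hπ⟩

theorem Shape.full {K : Subgroup (Perm α)} (hK : Shape π K) {G : Subgroup (Perm α)}
    (hG : alternatingGroup α ≤ G) : Full π G (G ⊓ K) :=
  full_inf hG hK.props.2.2 hK.props.1 hK.props.2.1

/-- Two Hall subgroups are conjugate by an even permutation. -/
theorem Full.conj {G H H' : Subgroup (Perm α)} (h : Full π G H) (h' : Full π G H')
    (h2 : TwoPrimes π (Nat.card α)) (hns : ∃ q : ℕ, q.Prime ∧ q ≤ Nat.card α ∧ q ∉ π) :
    ∃ g ∈ alternatingGroup α, H' = H.map (MulAut.conj g).toMonoidHom := by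
  obtain ⟨K, hK, rfl⟩ := h.shape h2 hns
  obtain ⟨K', hK', rfl⟩ := h'.shape h2 hns
  obtain ⟨g₀, hg₀⟩ := hK.conj hK'
  obtain ⟨k, hk, hks⟩ := hK.props.2.2
  obtain ⟨g, hg, hgK⟩ : ∃ g ∈ alternatingGroup α, K' = K.map (MulAut.conj g).toMonoidHom := by
    rcases Int.units_eq_one_or (sign g₀) with hs | hs
    · exact ⟨g₀, hs, hg₀⟩
    · refine ⟨g₀ * k, show sign (g₀ * k) = 1 by rw [map_mul, hs, hks]; rfl, ?_⟩
      rw [hg₀]
      have hkK : K.map (MulAut.conj k).toMonoidHom = K := by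
        ext z
        constructor
        · rintro ⟨w, hw, rfl⟩
          exact mul_mem (mul_mem hk hw) (inv_mem hk)
        · intro hz
          refine ⟨k⁻¹ * z * k, mul_mem (mul_mem (inv_mem hk) hz) hk, ?_⟩
          simp [MulAut.conj_apply, mul_assoc]
      conv_lhs => rw [← hkK]
      rw [Subgroup.map_map]
      congr 1
  refine ⟨g, hg, ?_⟩
  rw [Subgroup.map_inf _ _ _ (MulAut.conj g).injective, ← hgK]
  congr 1
  ext z
  constructor
  · intro hz
    exact ⟨g⁻¹ * z * g, mul_mem (mul_mem (inv_mem (h.alt_le hg)) hz) (h.alt_le hg),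
      by simp [MulAut.conj_apply, mul_assoc]⟩
  · rintro ⟨w, hw, rfl⟩
    exact mul_mem (mul_mem (h.alt_le hg) hw) (inv_mem (h.alt_le hg))

end Cfsg.Agent.H56.HallSym
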