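import Cfsg.Agent.H56.HallSetup
import Cfsg.Agent.H76.PrimeCycle
import Cfsg.Agent.S0144

/-!
A primitive Hall π-subgroup with two π-primes: every prime up to the degree lies in π.
-/

set_option autoImplicit false

open Equiv Equiv.Perm MulAction
open scoped Pointwise commutatorElement

namespace Cfsg.Agent.H56.HallSym

section solvable

/-- In a solvable transitive group of prime degree only the identity fixes two points. -/
theorem eq_one_of_fixes_two {G X : Type*} [Group G] [MulAction G X] [FaithfulSMul G X] [Finite X]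
    [IsPretransitive G X] (hp : (Nat.card X).Prime) (hs : Group.IsSolvable G) {g : G} {x y : X}
    (hxy : x ≠ y) (hx : g • x = x) (hy : g • y = y) : g = 1 := by
  classical
  have hex := hs.solvable
  set k := Nat.find hex with hk
  have hkbot : derivedSeries G k = ⊥ := Nat.find_spec hex
  rcases Nat.eq_zero_or_pos k with h0 | hpos
  · rw [h0, derivedSeries_zero] at hkbot
    exact Subgroup.mem_bot.1 (hkbot ▸ Subgroup.mem_top g)
  obtain ⟨j, hj⟩ : ∃ j, k = j + 1 := ⟨k - 1, by omega⟩
  have hjne : derivedSeries G j ≠ ⊥ := Nat.find_min hex (by omega)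
  haveI := derivedSeries_normal G j
  set N := derivedSeries G j with hN
  have hab : ∀ a ∈ N, ∀ b ∈ N, a * b = b * a := by
    intro a ha b hb
    have h1 : ⁅a, b⁆ ∈ ⁅N, N⁆ := Subgroup.commutator_mem_commutator ha hb
    rw [hN, ← derivedSeries_succ, ← hj, hkbot, Subgroup.mem_bot,
      commutatorElement_eq_one_iff_mul_comm] at h1
    exact h1
  haveI : IsPreprimitive G X := IsPreprimitive.of_prime_card hp
  haveI : IsPretransitive N X := IsQuasiPreprimitive.isPretransitive_of_normal (G := G) (fun h => by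
    refine hjne ((Subgroup.eq_bot_iff_forall _).2 fun n hn => eq_of_smul_eq_smul fun z : X => ?_)
    have hz : z ∈ fixedPoints N X := h ▸ Set.mem_univ z
    rw [one_smul]
    exact hz ⟨n, hn⟩)
  have hreg : ∀ n ∈ N, ∀ z : X, n • z = z → n = 1 := by
    intro n hn z hz
    refine eq_of_smul_eq_smul fun w : X => ?_
    obtain ⟨⟨m, hm⟩, hmw⟩ := exists_smul_eq N z w
    have hmw' : m • z = w := hmw
    rw [one_smul, ← hmw', ← mul_smul, hab n hn m hm, mul_smul, hz]
  have hcard : Nat.card N = Nat.card X := by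
    have hst : stabilizer N x = ⊥ := (Subgroup.eq_bot_iff_forall _).2 fun n hn =>
      Subtype.ext (hreg n n.2 x hn)
    rw [← index_stabilizer_of_transitive N x, hst, Subgroup.index_bot]
  obtain ⟨⟨n, hn⟩, hnxy⟩ := exists_smul_eq N x y
  have hnxy' : n • x = y := hnxy
  have hn1 : n ≠ 1 := fun h => hxy (by rw [← hnxy', h, one_smul])
  have hconj : g * n * g⁻¹ = n := by
    have hc : g * n * g⁻¹ ∈ N := ‹N.Normal›.conj_mem n hn g
    have hgx : g⁻¹ • x = x := inv_smul_eq_iff.2 hx.symm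
    have hcx : (g * n * g⁻¹) • x = y := by rw [mul_smul, mul_smul, hgx, hnxy', hy]
    have := hreg _ (mul_mem (inv_mem hn) hc) x (by rw [mul_smul, hcx, inv_smul_eq_iff, hnxy'])
    exact (inv_mul_eq_one.1 this).symm
  have hgen : ∀ m ∈ N, g * m * g⁻¹ = m := by
    intro m hm
    haveI := Fact.mk (hcard ▸ hp : (Nat.card N).Prime)
    obtain ⟨i, hi⟩ := Subgroup.mem_zpowers_iff.1 (mem_zpowers_of_prime_card (g' := (⟨m, hm⟩ : N))
      (g := (⟨n, hn⟩ : N)) rfl (fun h => hn1 (congrArg Subtype.val h)))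
    have hi' : n ^ i = m := congrArg Subtype.val hi
    rw [← hi', ← conj_zpow, hconj]
  refine eq_of_smul_eq_smul fun z : X => ?_
  obtain ⟨⟨m, hm⟩, hmz⟩ := exists_smul_eq N x z
  have hmz' : m • x = z := hmz
  rw [one_smul, ← hmz', ← mul_smul, mul_inv_eq_iff_eq_mul.1 (hgen m hm), mul_smul, hx]

/-- Burnside, for groups whose order has at most two prime divisors. -/
theorem isSolvable_of_primes {G : Type*} [Group G] [Finite G] {r s : ℕ} (hr : r.Prime)
    (hs : s.Prime) (h : ∀ q, q.Prime → q ∣ Nat.card G → q = r ∨ q = s) : Group.IsSolvable G := by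
  have hb : ∀ {d}, d.Prime → d ∣ ordCompl[r] (Nat.card G) → d = s := by
    intro d hd hdd
    refine (h d hd (hdd.trans (Nat.ordCompl_dvd _ _))).resolve_left ?_
    rintro rfl
    exact Nat.not_dvd_ordCompl hd Nat.card_pos.ne' hdd
  refine S0144.result r s ((Nat.card G).factorization r)
    (ordCompl[r] (Nat.card G)).primeFactorsList.length hr hs ?_
  rw [← Nat.eq_prime_pow_of_unique_prime_dvd (Nat.ordCompl_pos r Nat.card_pos.ne').ne' hb,
    Nat.ordProj_mul_ordCompl_eq_self]

end solvable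

variable {α : Type*} [Fintype α] [DecidableEq α] {π : Set ℕ}

theorem Full.exists_cycle {G H : Subgroup (Perm α)} (h : Full π G H) {p : ℕ} (hp : p.Prime)
    (hp2 : p ≠ 2) (hpπ : p ∈ π) (hpn : p ≤ Nat.card α) :
    ∃ g ∈ H, g.IsCycle ∧ g.support.card = p := by
  haveI := Fact.mk hp
  obtain ⟨g, hg⟩ := (exists_with_cycleType_iff α (m := {p})).2
    ⟨by simpa [← Nat.card_eq_fintype_card] using hpn, by simpa using hp.two_le⟩
  have hord : orderOf g = p := by rw [← lcm_cycleType, hg]; simp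
  have heven : g ∈ alternatingGroup α := by
    rw [mem_alternatingGroup, sign_of_cycleType, hg]
    simp [(Odd.neg_one_pow : Odd (p + 1) → _), pow_succ, (hp.odd_of_ne_two hp2).neg_one_pow]
  obtain ⟨x, -, hx⟩ := h.exists_conj hp hpπ (P := Subgroup.zpowers g)
    (Subgroup.zpowers_le.2 (h.alt_le heven))
    (IsPGroup.of_card (n := 1) (by rw [Nat.card_zpowers, hord, pow_one]))
  refine ⟨_, hx g (Subgroup.mem_zpowers g), ?_, ?_⟩
  · exact (card_cycleType_eq_one.1 (by rw [hg]; rfl)).conj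
  · rw [card_support_conj, ← sum_cycleType, hg, Multiset.sum_singleton]

/-- The Klein four-group on four points. -/
def klein : Subgroup (Perm (Fin 4)) where
  carrier := {σ | σ = 1 ∨ σ = swap 0 1 * swap 2 3 ∨ σ = swap 0 2 * swap 1 3 ∨ σ = swap 0 3 * swap 1 2}
  mul_mem' {a b} ha hb := by
    revert a b
    simp only [Set.mem_setOf_eq]
    decide +kernel
  one_mem' := Or.inl rfl
  inv_mem' {a} ha := by
    revert a
    simp only [Set.mem_setOf_eq]
    decide +kernel

theorem mem_klein {σ : Perm (Fin 4)} : σ ∈ klein ↔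
    σ = 1 ∨ σ = swap 0 1 * swap 2 3 ∨ σ = swap 0 2 * swap 1 3 ∨ σ = swap 0 3 * swap 1 2 := Iff.rfl

theorem klein_facts : (∀ σ ∈ klein, sign σ = 1) ∧ (∀ i j, ∃ σ ∈ klein, σ i = j) ∧
    (∀ σ ∈ klein, σ * σ = 1) ∧ swap 0 1 * swap 2 3 ∈ klein ∧ swap 0 2 * swap 1 3 ∈ klein := by
  simp only [mem_klein]
  decide +kernel

theorem card_klein : Nat.card klein = 4 := by
  have e : klein ≃ {σ : Perm (Fin 4) //
      σ = 1 ∨ σ = swap 0 1 * swap 2 3 ∨ σ = swap 0 2 * swap 1 3 ∨ σ = swap 0 3 * swap 1 2} :=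
    Equiv.refl _
  rw [Nat.card_congr e, Nat.card_eq_fintype_card]
  decide +kernel

theorem conj_viaEmbedding (g : Perm α) (σ : Perm (Fin 4)) (e : Fin 4 ↪ α) :
    g * σ.viaEmbedding e * g⁻¹ = σ.viaEmbedding (e.trans g.toEmbedding) := by
  ext x
  by_cases hx : x ∈ Set.range (e.trans g.toEmbedding)
  · obtain ⟨i, rfl⟩ := hx
    rw [viaEmbedding_apply]
    simp [viaEmbedding_apply]
  · rw [viaEmbedding_apply_of_notMem _ _ _ hx]
    have : g⁻¹ x ∉ Set.range e := by
      rintro ⟨i, hi⟩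
      exact hx ⟨i, by simp [hi]⟩
    rw [Perm.mul_apply, Perm.mul_apply, viaEmbedding_apply_of_notMem _ _ _ this]
    simp

theorem Full.exists_klein {G H : Subgroup (Perm α)} (h : Full π G H) (h2 : 2 ∈ π)
    (hn : 4 ≤ Nat.card α) : ∃ e : Fin 4 ↪ α,
      ∀ σ ∈ klein, σ.viaEmbedding e ∈ H ⊓ alternatingGroup α := by
  classical
  haveI := Fact.mk Nat.prime_two
  obtain ⟨e⟩ : Nonempty (Fin 4 ↪ α) := Function.Embedding.nonempty_of_card_le
    (by rw [Fintype.card_fin, ← Nat.card_eq_fintype_card]; exact hn)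
  have heven : ∀ (e : Fin 4 ↪ α), ∀ σ ∈ klein, σ.viaEmbedding e ∈ alternatingGroup α := by
    intro e σ hσ
    rw [mem_alternatingGroup]
    rw [viaEmbedding, sign_extendDomain]
    exact klein_facts.1 σ hσ
  obtain ⟨g, -, hg⟩ := h.exists_conj Nat.prime_two h2 (P := klein.map (viaEmbeddingHom e))
    (by rintro _ ⟨σ, hσ, rfl⟩; exact h.alt_le (heven e σ hσ))
    ((IsPGroup.of_card (n := 2) card_klein).map _)
  refine ⟨e.trans g.toEmbedding, fun σ hσ => ⟨?_, heven _ σ hσ⟩⟩
  rw [← conj_viaEmbedding]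
  exact hg _ ⟨σ, hσ, rfl⟩

theorem two_pretransitive_of_klein {H : Subgroup (Perm α)} (hprim : IsPreprimitive H α)
    {e : Fin 4 ↪ α} (hV : ∀ σ ∈ klein, σ.viaEmbedding e ∈ H) (hn : 5 ≤ Nat.card α) :
    IsMultiplyPretransitive H α 2 := by
  classical
  have hs : ((Set.range e)ᶜ : Set α).ncard = (Nat.card α - 5) + 1 := by
    rw [Set.ncard_compl, Set.ncard_range_of_injective e.injective, Nat.card_fin]
    omega
  refine hprim.is_two_pretransitive hs (by omega) ⟨?_⟩
  rintro ⟨x, hx⟩ ⟨y, hy⟩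
  simp only [SubMulAction.mem_ofFixingSubgroup_iff, Set.mem_compl_iff, not_not] at hx hy
  obtain ⟨i, rfl⟩ := hx
  obtain ⟨j, rfl⟩ := hy
  obtain ⟨σ, hσ, hij⟩ := klein_facts.2.1 i j
  refine ⟨⟨⟨σ.viaEmbedding e, hV σ hσ⟩, ?_⟩, ?_⟩
  · rintro ⟨z, hz⟩
    exact viaEmbedding_apply_of_notMem _ _ _ hz
  · apply Subtype.ext
    show σ.viaEmbedding e (e i) = e j
    rw [viaEmbedding_apply, hij]

/-- The main result of this file. -/
theorem primitive_all {G H : Subgroup (Perm α)} (h : Full π G H) (hprim : IsPreprimitive H α)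
    (h2 : TwoPrimes π (Nat.card α)) : ∀ p, p.Prime → p ≤ Nat.card α → p ∈ π := by
  classical
  set n := Nat.card α with hn
  have hn3 := h2.three_le
  obtain ⟨r, s, hr, hs, hrs, hrπ, hsπ, hrn, hsn⟩ := h2
  have hr2 := hr.two_le
  have hs2 := hs.two_le
  intro q hq hqn
  have hq2 := hq.two_le
  by_cases hn4 : n ≤ 4
  · have h1 : r = 2 ∨ r = 3 := by
      by_contra hc
      obtain rfl : r = 4 := by omega
      norm_num at hr
    have h2' : s = 2 ∨ s = 3 := by
      by_contra hc
      obtain rfl : s = 4 := by omega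
      norm_num at hs
    have h3 : q = 2 ∨ q = 3 := by
      by_contra hc
      obtain rfl : q = 4 := by omega
      norm_num at hq
    rcases h1 with rfl | rfl <;> rcases h2' with rfl | rfl <;> rcases h3 with rfl | rfl <;>
      first | assumption | exact absurd rfl hrs
  haveI : Nontrivial α := Fintype.one_lt_card_iff_nontrivial.1
    (by rw [← Nat.card_eq_fintype_card]; omega)
  have hαc : Fintype.card α = n := by rw [hn, Nat.card_eq_fintype_card]
  have halt : alternatingGroup α ≤ H → q ∈ π := by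
    intro hA
    refine h.pi q hq (dvd_trans ?_ (Subgroup.card_dvd_of_le hA))
    have e : 2 * Nat.card (alternatingGroup α) = n.factorial := by
      rw [two_mul_nat_card_alternatingGroup, Nat.card_perm]
    have hd : 2 * (if q = 2 then 2 else q) ∣ n.factorial := by
      rcases eq_or_ne q 2 with rfl | hne
      · exact (show 4 ∣ Nat.factorial 4 by decide).trans (Nat.factorial_dvd_factorial (by omega))
      · rw [if_neg hne]
        exact Nat.Coprime.mul_dvd_of_dvd_of_dvd ((Nat.coprime_primes Nat.prime_two hq).2 (Ne.symm hne))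
          (Nat.prime_two.dvd_factorial.2 (by omega)) (hq.dvd_factorial.2 hqn)
    rw [← e] at hd
    have := Nat.dvd_of_mul_dvd_mul_left two_pos hd
    split_ifs at this with hq2'
    · exact hq2' ▸ this
    · exact this
  by_cases h3 : 3 ∈ π
  · obtain ⟨g, hg, -, hgc⟩ := h.exists_cycle Nat.prime_three (by norm_num) h3 (by omega)
    exact halt (alternatingGroup_le_of_isPreprimitive_of_isThreeCycle_mem hprim
      (card_support_eq_three_iff.1 hgc) hg)
  exfalso
  -- every odd prime of π is near the degree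
  have hbig : ∀ p, p.Prime → p ≠ 2 → p ∈ π → p ≤ n → n < p + 3 := by
    intro p hp hp2 hpπ hpn
    by_contra hlt
    obtain ⟨g, hg, hgc, hgs⟩ := h.exists_cycle hp hp2 hpπ hpn
    have hA := H76.alternatingGroup_le_of_cycle hprim hgc (hgs ▸ hp) hg (by omega)
    refine h3 (h.pi 3 Nat.prime_three (dvd_trans ?_ (Subgroup.card_dvd_of_le hA)))
    have e : 2 * Nat.card (alternatingGroup α) = n.factorial := by
      rw [two_mul_nat_card_alternatingGroup, Nat.card_perm]
    have hd : 3 ∣ n.factorial := Nat.prime_three.dvd_factorial.2 (by omega)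
    rw [← e] at hd
    exact (Nat.prime_three.dvd_mul.1 hd).resolve_left (by norm_num)
  have hp3 : ∀ p, p ∈ π → p ≠ 3 := fun p hp e => h3 (e ▸ hp)
  haveI := hprim.toIsPretransitive
  obtain ⟨a⟩ : Nonempty α := inferInstance
  have hpiN : ∀ p, p.Prime → p ∣ n → p ∈ π := fun p hp hd => h.pi p hp (hd.trans (by
    rw [hn, ← index_stabilizer_of_transitive H a]; exact Subgroup.index_dvd_card _))
  have hHn : ∀ p, p.Prime → p ∣ Nat.card H → p ∈ π ∧ p ≤ n := fun p hp hd => ⟨h.pi p hp hd, by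
    have := hd.trans (Subgroup.card_subgroup_dvd_card H)
    rwa [Nat.card_perm, ← hn, hp.dvd_factorial] at this⟩
  by_cases h2π : 2 ∈ π
  swap
  · -- odd π
    have hne2 : ∀ p, p ∈ π → p ≠ 2 := fun p hp e => h2π (e ▸ hp)
    wlog hlt : r < s generalizing r s
    · exact this s r hs hr hrs.symm hsπ hrπ hsn hrn hs2 hr2 (by omega)
    have hrb := hbig r hr (hne2 r hrπ) hrπ hrn
    obtain ⟨r', rfl⟩ := hr.odd_of_ne_two (hne2 r hrπ)
    obtain ⟨s', rfl⟩ := hs.odd_of_ne_two (hne2 s hsπ)
    have hsn' : 2 * s' + 1 = n := by omega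
    have hrn' : 2 * r' + 1 + 2 = n := by omega
    haveI : Group.IsSolvable H := isSolvable_of_primes hr hs fun p hp hd => by
      obtain ⟨hpπ, hpn⟩ := hHn p hp hd
      have hpb := hbig p hp (hne2 p hpπ) hpπ hpn
      obtain ⟨p', rfl⟩ := hp.odd_of_ne_two (hne2 p hpπ)
      omega
    obtain ⟨g, hg, hgc, hgs⟩ := h.exists_cycle hr (hne2 _ hrπ) hrπ hrn
    obtain ⟨x, hx, y, hy, hxy⟩ := Finset.one_lt_card.1
      (show 1 < g.supportᶜ.card by rw [Finset.card_compl]; omega)
    have := eq_one_of_fixes_two (G := H) (X := α) (hn ▸ hsn' ▸ hs) inferInstance (g := ⟨g, hg⟩)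
      hxy (notMem_support.1 (Finset.mem_compl.1 hx)) (notMem_support.1 (Finset.mem_compl.1 hy))
    exact hgc.ne_one (congrArg Subtype.val this)
  -- 2 ∈ π
  obtain ⟨e, he⟩ := h.exists_klein h2π (by omega)
  set v : Perm α := (swap 0 1 * swap 2 3 : Perm (Fin 4)).viaEmbedding e with hv
  have hvm := he _ klein_facts.2.2.2.1
  have hv1 : v ≠ 1 := by
    intro e1
    have : v (e 0) = e 0 := by rw [e1]; rfl
    rw [hv, viaEmbedding_apply] at this
    exact absurd (e.injective this) (by decide)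
  have hvfix : ∀ x, x ∉ Set.range e → v x = x := fun x hx => viaEmbedding_apply_of_notMem _ _ _ hx
  have h2t : IsMultiplyPretransitive H α 2 :=
    two_pretransitive_of_klein hprim (fun σ hσ => (he σ hσ).1) (by omega)
  rw [is_two_pretransitive_iff] at h2t
  obtain ⟨p, hp, hpπ, hpne, hpn⟩ : ∃ p, p.Prime ∧ p ∈ π ∧ p ≠ 2 ∧ p ≤ n := by
    rcases eq_or_ne r 2 with rfl | hne
    · exact ⟨s, hs, hsπ, hrs.symm, hsn⟩
    · exact ⟨r, hr, hrπ, hne, hrn⟩
  have hpb := hbig p hp hpne hpπ hpn
  have hp2 := hp.two_le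
  by_cases hn5 : n = 5
  · -- degree five
    obtain rfl : p = 5 := by
      have := hp3 p hpπ
      have h4 : p ≠ 4 := fun e => by rw [e] at hp; norm_num at hp
      omega
    set M : Subgroup (alternatingGroup α) := H.subgroupOf (alternatingGroup α) with hM
    have hd4 : 4 ∣ Nat.card M := by
      let φ : klein →* M :=
        { toFun := fun σ => ⟨⟨(σ : Perm (Fin 4)).viaEmbedding e, (he σ σ.2).2⟩, (he σ σ.2).1⟩
          map_one' := Subtype.ext (Subtype.ext (map_one (viaEmbeddingHom e)))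
          map_mul' := fun a b => Subtype.ext (Subtype.ext (map_mul (viaEmbeddingHom e) a.1 b.1)) }
      have hφ : Function.Injective φ := fun a b hab =>
        Subtype.ext (viaEmbeddingHom_injective e (congrArg (fun z : M => (z : Perm α)) hab))
      exact card_klein ▸ Subgroup.card_dvd_of_injective φ hφ
    have hd5 : 5 ∣ Nat.card M := by
      obtain ⟨g, hg, hgc, hgs⟩ := h.exists_cycle hp (by norm_num) hpπ (by omega)
      have hga : g ∈ alternatingGroup α := by
        rw [mem_alternatingGroup, hgc.sign, hgs]; decide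
      have : orderOf (⟨⟨g, hga⟩, hg⟩ : M) = 5 := by
        rw [← Subgroup.orderOf_coe, ← Subgroup.orderOf_coe, hgc.orderOf, hgs]
      exact this ▸ orderOf_dvd_natCard _
    have hd3 : ¬ 3 ∣ Nat.card M := by
      intro hd
      refine h3 (h.pi 3 Nat.prime_three ?_)
      refine hd.trans ?_
      exact Subgroup.card_dvd_of_injective
        ((alternatingGroup α).subtype.subgroupComap H : M →* H) (fun a b hab =>
          Subtype.ext (Subtype.ext (congrArg (fun z : H => (z : Perm α)) hab)))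
    have hA : Nat.card (alternatingGroup α) = 60 := by
      rw [nat_card_alternatingGroup, ← hn, hn5]; rfl
    have hM20 : Nat.card M = 20 := by
      have h20 : 20 ∣ Nat.card M := Nat.Coprime.mul_dvd_of_dvd_of_dvd (by norm_num : Nat.Coprime 4 5) hd4 hd5
      have h60 : Nat.card M ∣ 60 := hA ▸ Subgroup.card_subgroup_dvd_card M
      obtain ⟨c, hc⟩ := h20
      rw [hc] at h60
      have : c ∣ 3 := Nat.dvd_of_mul_dvd_mul_left (by norm_num : 0 < 20) h60
      rcases (Nat.dvd_prime Nat.prime_three).1 this with rfl | rfl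
      · exact hc
      · exact absurd (hc ▸ (by norm_num : 3 ∣ 20 * 3)) hd3
    have hidx : M.index = 3 := by
      have := Subgroup.index_mul_card M
      rw [hA, hM20] at this
      omega
    haveI : IsSimpleGroup (alternatingGroup α) := alternatingGroup.isSimpleGroup (by omega)
    have hbot : M.normalCore = ⊥ := (M.normalCore_normal.eq_bot_or_eq_top).resolve_right fun ht => by
      have : M = ⊤ := top_le_iff.1 (ht ▸ M.normalCore_le)
      rw [this, Subgroup.index_top] at hidx
      omega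
    rw [Subgroup.normalCore_eq_ker, MonoidHom.ker_eq_bot_iff] at hbot
    have hd60 : 60 ∣ 6 := by
      have := Subgroup.card_dvd_of_injective _ hbot
      rwa [hA, Nat.card_perm, ← Subgroup.index_eq_card, hidx] at this
    norm_num at hd60
  -- degree at least six
  obtain ⟨x₀, hx₀⟩ : ∃ x, x ∉ Set.range e := by
    by_contra! hall
    have hle : Fintype.card α ≤ Fintype.card (Fin 4) :=
      Fintype.card_le_of_surjective e fun x => hall x
    rw [Fintype.card_fin] at hle
    omega
  have hpiN1 : ∀ q, q.Prime → q ∣ n - 1 → q ∈ π := by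
    intro q hq hd
    refine h.pi q hq (hd.trans ?_)
    haveI : IsPretransitive (stabilizer H x₀) (SubMulAction.ofStabilizer H x₀) := ⟨by
      rintro ⟨x, hx⟩ ⟨y, hy⟩
      obtain ⟨g, hg1, hg2⟩ := h2t (Ne.symm hx) (Ne.symm hy)
      exact ⟨⟨g, hg1⟩, Subtype.ext hg2⟩⟩
    obtain ⟨y, hy⟩ := exists_ne x₀
    have hcard : Nat.card (SubMulAction.ofStabilizer H x₀) = n - 1 := by
      rw [SubMulAction.nat_card_ofStabilizer_eq]
    rw [← hcard, ← index_stabilizer_of_transitive (stabilizer H x₀) (⟨y, hy⟩ : SubMulAction.ofStabilizer H x₀)]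
    exact (Subgroup.index_dvd_card _).trans (Subgroup.card_subgroup_dvd_card _)
  have hoddfac : ∀ k, k = n ∨ k = n - 1 → Odd k → k.Prime := by
    intro k hk hkodd
    by_contra hkp
    obtain ⟨k', rfl⟩ := hkodd
    obtain ⟨d, hd⟩ := Nat.minFac_dvd (2 * k' + 1)
    have hfp := Nat.minFac_prime (show 2 * k' + 1 ≠ 1 by omega)
    set f := (2 * k' + 1).minFac with hf
    have hfπ : f ∈ π := by
      rcases hk with hk | hk
      · exact hpiN f hfp (hk ▸ Nat.minFac_dvd _)
      · exact hpiN1 f hfp (hk ▸ Nat.minFac_dvd _)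
    have hf2 : f ≠ 2 := fun e => by rw [e] at hd; omega
    have hd2 : 2 ≤ d := by
      rcases Nat.lt_or_ge d 2 with hd1 | hd1
      · exfalso
        interval_cases d
        · omega
        · rw [mul_one] at hd; exact hkp (hd ▸ hfp)
      · exact hd1
    have hd3 : d ≠ 2 := fun e => by rw [e] at hd; omega
    have h3d : f * 3 ≤ f * d := Nat.mul_le_mul_left f (by omega)
    have := hbig f hfp hf2 hfπ (by omega)
    have := hp3 f hfπ
    have := hfp.two_le
    omega
  have hevenfac : ∀ k, k = n ∨ k = n - 1 → Even k → ∀ f, f.Prime → f ∣ k → f = 2 := by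
    intro k hk ⟨k', hk'⟩ f hfp hfd
    by_contra hf2
    have hfπ : f ∈ π := by
      rcases hk with rfl | rfl
      · exact hpiN f hfp hfd
      · exact hpiN1 f hfp hfd
    obtain ⟨d, hd⟩ := hfd
    rcases Nat.lt_or_ge d 2 with hd1 | hd1
    · interval_cases d
      · omega
      · obtain ⟨t, ht⟩ := hfp.odd_of_ne_two hf2
        omega
    · have h2d : f * 2 ≤ f * d := Nat.mul_le_mul_left f hd1
      have := hbig f hfp hf2 hfπ (by omega)
      have := hp3 f hfπ
      have := hfp.two_le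
      have hf4 : f ≠ 4 := fun e => by rw [e] at hfp; norm_num at hfp
      omega
  obtain ⟨m, hm, hmn⟩ : ∃ m, m.Prime ∧ ((m = n ∧ Even (n - 1)) ∨ (m = n - 1 ∧ Even n)) := by
    rcases Nat.even_or_odd n with hev | hodd
    · exact ⟨n - 1, hoddfac _ (Or.inr rfl) (by obtain ⟨t, ht⟩ := hev; exact ⟨t - 1, by omega⟩),
        Or.inr ⟨rfl, hev⟩⟩
    · exact ⟨n, hoddfac _ (Or.inl rfl) hodd,
        Or.inl ⟨rfl, by obtain ⟨t, ht⟩ := hodd; exact ⟨t, by omega⟩⟩⟩
  haveI : Group.IsSolvable H := isSolvable_of_primes Nat.prime_two hm fun q hq hd => by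
    by_contra hne
    push Not at hne
    obtain ⟨hqπ, hqn⟩ := hHn q hq hd
    have hqb := hbig q hq hne.1 hqπ hqn
    have := hp3 q hqπ
    obtain ⟨t, ht⟩ := hq.odd_of_ne_two hne.1
    rcases hmn with ⟨rfl, u, hu⟩ | ⟨rfl, u, hu⟩
    · -- q = n - 2
      have h3' : 3 ∣ q ∨ 3 ∣ n ∨ 3 ∣ n - 1 := by
        rcases (show u % 3 = 0 ∨ u % 3 = 1 ∨ u % 3 = 2 by omega) with hu3 | hu3 | hu3 <;> omega
      rcases h3' with h3' | h3' | h3'
      · have := (Nat.prime_dvd_prime_iff_eq Nat.prime_three hq).1 h3'; omega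
      · have := (Nat.prime_dvd_prime_iff_eq Nat.prime_three hm).1 h3'; omega
      · exact absurd (hevenfac _ (Or.inr rfl) ⟨u, hu⟩ 3 Nat.prime_three h3') (by norm_num)
    · omega
  obtain ⟨x₁, hx₁, x₂, hx₂, hx12⟩ := Finset.one_lt_card.1
    (show 1 < (Finset.univ.map e)ᶜ.card by
      rw [Finset.card_compl, Finset.card_map, Finset.card_univ, Fintype.card_fin]; omega)
  have hout : ∀ x, x ∈ (Finset.univ.map e)ᶜ → x ∉ Set.range e := by
    intro x hx ⟨i, hi⟩
    exact Finset.mem_compl.1 hx (Finset.mem_map.2 ⟨i, Finset.mem_univ _, hi⟩)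
  rcases hmn with ⟨rfl, -⟩ | ⟨rfl, hev⟩
  · exact hv1 (congrArg Subtype.val (eq_one_of_fixes_two (G := H) (X := α) hm inferInstance
      (g := ⟨v, hvm.1⟩) hx12 (hvfix _ (hout _ hx₁)) (hvfix _ (hout _ hx₂))))
  · have h8 : 7 ≤ n := by
      by_contra hc
      have h6 : n = 6 := by omega
      exact absurd (hevenfac n (Or.inl rfl) hev 3 Nat.prime_three (by omega)) (by norm_num)
    obtain ⟨x₁, hx₁, x₂, hx₂, hx12⟩ := Finset.one_lt_card.1
      (show 1 < (insert x₀ (Finset.univ.map e))ᶜ.card by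
        rw [Finset.card_compl]
        have := Finset.card_insert_le x₀ (Finset.univ.map e)
        rw [Finset.card_map, Finset.card_univ, Fintype.card_fin] at this
        omega)
    rw [Finset.mem_compl, Finset.mem_insert, not_or] at hx₁ hx₂
    haveI : IsPretransitive (stabilizer H x₀) (SubMulAction.ofStabilizer H x₀) := ⟨by
      rintro ⟨x, hx⟩ ⟨y, hy⟩
      obtain ⟨g, hg1, hg2⟩ := h2t (Ne.symm hx) (Ne.symm hy)
      exact ⟨⟨g, hg1⟩, Subtype.ext hg2⟩⟩
    haveI : FaithfulSMul (stabilizer H x₀) (SubMulAction.ofStabilizer H x₀) := ⟨fun {g₁ g₂} hg => by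
      apply Subtype.ext
      apply Subtype.ext
      ext x
      rcases eq_or_ne x x₀ with rfl | hx
      · exact (show _ = x from g₁.2).trans (show _ = x from g₂.2).symm
      · exact congrArg Subtype.val (hg ⟨x, hx⟩)⟩
    have hsol : Group.IsSolvable (stabilizer H x₀) := inferInstance
    have hfix : ∀ x, x ∉ Finset.univ.map e → v x = x := fun x hx => hvfix x fun ⟨i, hi⟩ =>
      hx (Finset.mem_map.2 ⟨i, Finset.mem_univ _, hi⟩)
    have := eq_one_of_fixes_two (G := stabilizer H x₀) (X := SubMulAction.ofStabilizer H x₀)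
      (by rw [SubMulAction.nat_card_ofStabilizer_eq, ← hn]; exact hm) hsol
      (g := ⟨⟨v, hvm.1⟩, hvfix _ hx₀⟩) (x := ⟨x₁, hx₁.1⟩) (y := ⟨x₂, hx₂.1⟩)
      (fun hh => hx12 (congrArg Subtype.val hh)) (Subtype.ext (hfix _ hx₁.2)) (Subtype.ext (hfix _ hx₂.2))
    exact hv1 (congrArg (fun z : stabilizer H x₀ => ((z : H) : Perm α)) this)

end Cfsg.Agent.H56.HallSym
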