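import Mathlib
import Cfsg.Prelude.Def_HallClasses

/-!
Hall π-subgroups inside a group `G` with `A_n ≤ G ≤ S_n`: setup.
-/

set_option autoImplicit false

open Equiv Equiv.Perm MulAction
open scoped Pointwise

namespace Cfsg.Agent.H56.HallSym

variable {α : Type*} [Fintype α] [DecidableEq α] {π : Set ℕ}

/-- There are two distinct primes of `π` not exceeding `n`. -/
def TwoPrimes (π : Set ℕ) (n : ℕ) : Prop :=
  ∃ r s : ℕ, r.Prime ∧ s.Prime ∧ r ≠ s ∧ r ∈ π ∧ s ∈ π ∧ r ≤ n ∧ s ≤ n

theorem TwoPrimes.three_le {n : ℕ} (h : TwoPrimes π n) : 3 ≤ n := by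
  obtain ⟨r, s, hr, hs, hne, -, -, hrn, hsn⟩ := h
  have := hr.two_le
  have := hs.two_le
  omega

/-- `H` is a Hall π-subgroup of `G`, where `A_n ≤ G`. -/
structure Full (π : Set ℕ) (G H : Subgroup (Perm α)) : Prop where
  alt_le : alternatingGroup α ≤ G
  le : H ≤ G
  pi : ∀ p, p.Prime → p ∣ Nat.card H → p ∈ π
  not_dvd : ∀ p, p.Prime → p ∈ π → ¬ p ∣ H.relIndex G

theorem eq_alt_or_top {G : Subgroup (Perm α)} (hG : alternatingGroup α ≤ G) :
    G = alternatingGroup α ∨ G = ⊤ := by
  by_cases h : ∀ g ∈ G, sign g = 1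
  · exact Or.inl (le_antisymm h hG)
  · push Not at h
    obtain ⟨g, hg, hs⟩ := h
    have hs' : sign g = -1 := (Int.units_eq_one_or (sign g)).resolve_left hs
    refine Or.inr ((Subgroup.eq_top_iff' G).2 fun x => ?_)
    rcases Int.units_eq_one_or (sign x) with h1 | h1
    · exact hG h1
    · have : x * g ∈ G := hG (show sign (x * g) = 1 by rw [map_mul, h1, hs']; rfl)
      exact (mul_mem_cancel_right hg).1 this

/-- The index inside `G` of `K ⊓ G`, if `K` has an odd element. -/
theorem relIndex_eq_index {G K : Subgroup (Perm α)} (hG : alternatingGroup α ≤ G)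
    (hodd : ∃ g ∈ K, sign g = -1) : K.relIndex G = K.index := by
  rcases eq_alt_or_top hG with rfl | rfl
  · obtain ⟨g, hgK, hg⟩ := hodd
    have hsup : K ⊔ alternatingGroup α = ⊤ := by
      refine (Subgroup.eq_top_iff' _).2 fun x => ?_
      rcases Int.units_eq_one_or (sign x) with h1 | h1
      · exact le_sup_right (a := K) h1
      · have : x * g ∈ K ⊔ alternatingGroup α :=
          le_sup_right (a := K) (show sign (x * g) = 1 by rw [map_mul, h1, hg]; rfl)
        exact (mul_mem_cancel_right (le_sup_left (b := alternatingGroup α) hgK)).1 this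
    have h1 : (alternatingGroup α).relIndex K = (alternatingGroup α).index := by
      rw [← Subgroup.relIndex_sup_right, hsup, Subgroup.relIndex_top_right]
    have h2 := Subgroup.relIndex_mul_index
      (inf_le_left : K ⊓ alternatingGroup α ≤ K)
    have h3 := Subgroup.relIndex_mul_index
      (inf_le_right : K ⊓ alternatingGroup α ≤ alternatingGroup α)
    rw [Subgroup.inf_relIndex_left, h1, ← h3, Subgroup.inf_relIndex_right, mul_comm] at h2
    exact (Nat.eq_of_mul_eq_mul_right (Nat.pos_of_ne_zero Subgroup.index_ne_zero_of_finite) h2).symm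
  · exact Subgroup.relIndex_top_right _

theorem Full.not_dvd_index {G H K : Subgroup (Perm α)} (h : Full π G H) (hHK : H ≤ K)
    (hodd : ∃ g ∈ K, sign g = -1) {p : ℕ} (hp : p.Prime) (hpπ : p ∈ π) : ¬ p ∣ K.index := by
  intro hd
  refine h.not_dvd p hp hpπ ?_
  rw [← relIndex_eq_index h.alt_le hodd] at hd
  exact hd.trans (Subgroup.relIndex_dvd_of_le_left G hHK)

/-- Order bound for a group permuting the members of a covering family. -/
theorem card_dvd_range_mul_prod (W : Subgroup (Perm α)) {ι : Type*} [Fintype ι] (P : ι → Set α)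
    (hcov : ∀ x, ∃ i, x ∈ P i) (f : W →* Perm ι)
    (hf : ∀ (g : W) (i : ι), (g : Perm α) • P i = P (f g i)) :
    Nat.card W ∣ Nat.card f.range * ∏ i, (P i).ncard.factorial := by
  classical
  have hfix : ∀ (k : f.ker) (i : ι) (x : α), ((k : W) : Perm α) x ∈ P i ↔ x ∈ P i := by
    intro k i x
    have := hf (k : W) i
    rw [MonoidHom.mem_ker.1 k.2, Perm.one_apply] at this
    constructor
    · intro hx
      rw [← this] at hx
      obtain ⟨y, hy, hyx⟩ := hx
      rwa [← ((k : W) : Perm α).injective hyx]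
    · intro hx
      rw [← this]
      exact ⟨x, hx, rfl⟩
  let F : f.ker →* ∀ i, Perm (P i) :=
    { toFun := fun k i => ((k : W) : Perm α).subtypePerm (hfix k i)
      map_one' := by funext i; ext x; rfl
      map_mul' := fun a b => by funext i; ext x; rfl }
  have hF : Function.Injective F := by
    intro a b hab
    apply Subtype.ext
    apply Subtype.ext
    ext x
    obtain ⟨i, hi⟩ := hcov x
    exact congrArg Subtype.val (DFunLike.congr_fun (congrFun hab i) ⟨x, hi⟩)
  have hker : Nat.card f.ker ∣ ∏ i, (P i).ncard.factorial := by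
    have := Subgroup.card_dvd_of_injective F hF
    simp only [Nat.card_pi, Nat.card_perm, Nat.card_coe_set_eq] at this
    exact this
  rw [Subgroup.card_eq_card_quotient_mul_card_subgroup f.ker, ← Subgroup.index_eq_card,
    Subgroup.index_ker]
  exact Nat.mul_dvd_mul_left _ hker

/-- Two disjoint invariant sets give a binomial coefficient dividing the index. -/
theorem choose_dvd_index {K : Subgroup (Perm α)} {O P : Set α} (hd : Disjoint O P)
    (hO : K ≤ stabilizer (Perm α) O) (hP : K ≤ stabilizer (Perm α) P) :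
    (O.ncard + P.ncard).choose P.ncard ∣ K.index := by
  have hcov : ∀ x, ∃ i : Fin 3, x ∈ (![O, P, (O ∪ P)ᶜ] : Fin 3 → Set α) i := by
    intro x
    by_cases h1 : x ∈ O
    · exact ⟨0, h1⟩
    by_cases h2 : x ∈ P
    · exact ⟨1, h2⟩
    exact ⟨2, by simp [h1, h2]⟩
  have h := card_dvd_range_mul_prod K ![O, P, (O ∪ P)ᶜ] hcov 1 (by
    intro g i
    have h1 : (g : Perm α) • O = O := hO g.2
    have h2 : (g : Perm α) • P = P := hP g.2
    fin_cases i <;> simp [h1, h2, Set.smul_set_compl, Set.smul_set_union, Set.smul_set_inter])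
  rw [Fin.prod_univ_three, show Nat.card (1 : K →* Perm (Fin 3)).range = 1 by simp, one_mul] at h
  simp only [Matrix.cons_val_zero, Matrix.cons_val_one, Matrix.cons_val] at h
  rw [Set.ncard_compl, Set.ncard_union_eq hd] at h
  have hn : O.ncard + P.ncard ≤ Nat.card α := by
    rw [← Set.ncard_union_eq hd, ← Set.ncard_univ]
    exact Set.ncard_le_ncard (Set.subset_univ _)
  obtain ⟨k, hk⟩ := h
  have e := Subgroup.index_mul_card K
  rw [Nat.card_perm, ← Nat.choose_mul_factorial_mul_factorial hn,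
    ← Nat.choose_mul_factorial_mul_factorial (Nat.le_add_left P.ncard O.ncard),
    Nat.add_sub_cancel] at e
  have hpos : 0 < O.ncard.factorial * P.ncard.factorial *
      (Nat.card α - (O.ncard + P.ncard)).factorial := by positivity
  refine ⟨(Nat.card α).choose (O.ncard + P.ncard) * k, ?_⟩
  have hK : 0 < Nat.card K := Nat.card_pos
  apply Nat.eq_of_mul_eq_mul_right hK
  rw [e]
  linear_combination (Nat.card α).choose (O.ncard + P.ncard) * (O.ncard + P.ncard).choose P.ncard * hk

/-- Blocks of size `a` give the uniform Bell number as a divisor of the index. -/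
theorem bell_dvd_index {W : Subgroup (Perm α)} {ℬ : Set (Set α)}
    (hW : W ≤ stabilizer (Perm α) ℬ) (hcov : ∀ x, ∃ B ∈ ℬ, x ∈ B) {a : ℕ} (ha : a ≠ 0)
    (hsize : ∀ B ∈ ℬ, B.ncard = a) (hn : ℬ.ncard * a = Nat.card α) :
    Nat.uniformBell ℬ.ncard a ∣ W.index := by
  classical
  haveI : Fintype ℬ := Fintype.ofFinite ℬ
  let f : W →* Perm ℬ := (toPermHom (stabilizer (Perm α) ℬ) ℬ).comp (Subgroup.inclusion hW)
  have h := card_dvd_range_mul_prod W (fun B : ℬ => (B : Set α))
    (fun x => let ⟨B, hB, hx⟩ := hcov x; ⟨⟨B, hB⟩, hx⟩) f (fun g B => rfl)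
  have hb : Nat.card f.range ∣ ℬ.ncard.factorial := by
    have := Subgroup.card_subgroup_dvd_card f.range
    rwa [Nat.card_perm, Nat.card_coe_set_eq] at this
  have hprod : ∏ B : ℬ, (B : Set α).ncard.factorial = a.factorial ^ ℬ.ncard := by
    rw [Finset.prod_congr rfl (fun B _ => by rw [hsize B B.2]), Finset.prod_const, Finset.card_univ,
      ← Nat.card_eq_fintype_card, Nat.card_coe_set_eq]
  rw [hprod] at h
  obtain ⟨k, hk⟩ := h.trans (Nat.mul_dvd_mul_right hb _)
  have e := Subgroup.index_mul_card W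
  rw [Nat.card_perm, ← hn, ← Nat.uniformBell_mul_eq _ ha, mul_assoc] at e
  refine ⟨k, ?_⟩
  apply Nat.eq_of_mul_eq_mul_right (Nat.card_pos (α := W))
  rw [e, mul_assoc, mul_comm k, ← hk]
  ring

/-- Hall subgroups map onto Hall subgroups. -/
theorem full_map {β : Type*} [Fintype β] [DecidableEq β] (K L : Subgroup (Perm α))
    (hLK : L ≤ K) (hpi : ∀ p, p.Prime → p ∣ Nat.card L → p ∈ π)
    (hidx : ∀ p, p.Prime → p ∈ π → ¬ p ∣ L.relIndex K) (f : K →* Perm β)
    (halt : alternatingGroup β ≤ f.range) :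
    Full π f.range ((L.subgroupOf K).map f) where
  alt_le := halt
  le := Subgroup.map_le_range _ _
  pi p hp hd := hpi p hp (by
    have := hd.trans (Subgroup.card_map_dvd _ f)
    rwa [Nat.card_congr (Subgroup.subgroupOfEquivOfLe hLK).toEquiv] at this)
  not_dvd p hp hpπ hd := hidx p hp hpπ (by
    have e : ((L.subgroupOf K).map f).subgroupOf f.range = (L.subgroupOf K).map f.rangeRestrict := by
      ext ⟨x, hx⟩
      simp [Subgroup.mem_subgroupOf, Subtype.ext_iff]
    rw [Subgroup.relIndex, e] at hd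
    exact hd.trans (Subgroup.index_map_dvd _ f.rangeRestrict_surjective))

/-- Restriction to an invariant set. -/
def resHom {K : Subgroup (Perm α)} {B : Set α} (hK : K ≤ stabilizer (Perm α) B) : K →* Perm B :=
  (toPermHom (stabilizer (Perm α) B) B).comp (Subgroup.inclusion hK)

theorem resHom_apply {K : Subgroup (Perm α)} {B : Set α} (hK : K ≤ stabilizer (Perm α) B) (g : K)
    (x : B) : ((resHom hK g x : B) : α) = (g : Perm α) x := rfl

theorem alt_le_range {K : Subgroup (Perm α)} {B : Set α} [Fintype B] [DecidableEq B]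
    [DecidablePred (· ∈ B)] (hK : K ≤ stabilizer (Perm α) B)
    (h : ∀ g : Perm B, sign g = 1 → ofSubtype g ∈ K) :
    alternatingGroup B ≤ (resHom hK).range := by
  intro g hg
  refine ⟨⟨ofSubtype g, h g hg⟩, ?_⟩
  ext x
  rw [resHom_apply]
  exact ofSubtype_apply_coe g x

theorem ofSubtype_mem_alt {B : Set α} [Fintype B] [DecidableEq B] [DecidablePred (· ∈ B)]
    {g : Perm B} (hg : sign g = 1) : ofSubtype g ∈ alternatingGroup α := by
  rw [mem_alternatingGroup, ← hg]
  convert sign_ofSubtype g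

/-- Image of `H` on an invariant set. -/
theorem Full.restrict {G H : Subgroup (Perm α)} (h : Full π G H) (B : Set α) [Fintype B]
    [DecidableEq B] (hB : H ≤ stabilizer (Perm α) B) :
    ∃ G' H' : Subgroup (Perm B), Full π G' H' ∧
      ∀ g ∈ H, ∃ g' ∈ H', ∀ x : B, ((g' x : B) : α) = g x := by
  classical
  refine ⟨_, _, full_map (G ⊓ stabilizer (Perm α) B) H (le_inf h.le hB) h.pi ?_
    (resHom inf_le_right) (alt_le_range _ fun g hg => ⟨h.alt_le (ofSubtype_mem_alt hg),
      ofSubtype_mem_stabilizer g⟩), ?_⟩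
  · intro p hp hpπ hd
    refine h.not_dvd p hp hpπ ?_
    rw [← Subgroup.relIndex_mul_relIndex H (G ⊓ stabilizer (Perm α) B) G (le_inf h.le hB)
      inf_le_left]
    exact hd.mul_right _
  · intro g hg
    exact ⟨_, ⟨⟨g, le_inf h.le hB hg⟩, hg, rfl⟩, fun x => resHom_apply _ _ x⟩

/-- Sylow: every `p`-subgroup of `G` has a conjugate in `H`. -/
theorem Full.exists_conj {G H : Subgroup (Perm α)} (h : Full π G H) {p : ℕ} (hp : p.Prime)
    (hpπ : p ∈ π) {P : Subgroup (Perm α)} (hPG : P ≤ G) (hP : IsPGroup p P) :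
    ∃ g ∈ G, ∀ x ∈ P, g * x * g⁻¹ ∈ H := by
  haveI := Fact.mk hp
  let H' : Subgroup G := H.subgroupOf G
  obtain ⟨Q⟩ := (inferInstance : Nonempty (Sylow p H'))
  let Q' : Subgroup G := (Q : Subgroup H').map H'.subtype
  have hQ'p : IsPGroup p Q' := Q.2.map _
  have hnd : ¬ p ∣ Q'.index := by
    rw [Subgroup.index_map_subtype, hp.dvd_mul]
    rintro (hd | hd)
    · exact Q.not_dvd_index hd
    · exact h.not_dvd p hp hpπ hd
  let S : Sylow p G := hQ'p.toSylow hnd
  have hP' : IsPGroup p (P.subgroupOf G) :=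
    hP.comap_of_injective G.subtype G.subtype_injective
  obtain ⟨R, hR⟩ := hP'.exists_le_sylow
  obtain ⟨g, hg⟩ := MulAction.exists_smul_eq G R S
  refine ⟨g, g.2, fun x hx => ?_⟩
  have hm : MulAut.conj g • (⟨x, hPG hx⟩ : G) ∈ (S : Subgroup G) := by
    rw [← hg]
    exact Subgroup.smul_mem_pointwise_smul _ _ (R : Subgroup G) (hR hx)
  obtain ⟨y, -, hy⟩ := hm
  have := congrArg Subtype.val hy
  have hy2 : ((y : G) : Perm α) ∈ H := y.2
  simp only [MulAut.smul_def, MulAut.conj_apply, Subgroup.coe_mul, Subgroup.coe_inv,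
    Subgroup.coe_subtype] at this
  rwa [this] at hy2

theorem Full.dvd_card {G H : Subgroup (Perm α)} (h : Full π G H) {p : ℕ} (hp : p.Prime)
    (hpπ : p ∈ π) (hpn : p ≤ Nat.card α) (h2 : p ≠ 2 ∨ 4 ≤ Nat.card α) : p ∣ Nat.card H := by
  haveI : Nontrivial α := Fintype.one_lt_card_iff_nontrivial.1
    (by rw [← Nat.card_eq_fintype_card]; have := hp.two_le; omega)
  have hA : p ∣ Nat.card (alternatingGroup α) := by
    have hd : p ∣ (Nat.card α).factorial := hp.dvd_factorial.2 hpn
    have e : 2 * Nat.card (alternatingGroup α) = (Nat.card α).factorial := by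
      rw [two_mul_nat_card_alternatingGroup, Nat.card_perm]
    rcases ne_or_eq p 2 with hp2 | rfl
    · rw [← e] at hd
      exact (hp.dvd_mul.1 hd).resolve_left fun h' =>
        hp2 ((Nat.prime_dvd_prime_iff_eq hp Nat.prime_two).1 h')
    · have h4 : 2 * 2 ∣ (Nat.card α).factorial :=
        (show 4 ∣ Nat.factorial 4 by decide).trans
          (Nat.factorial_dvd_factorial (h2.resolve_left (fun h' => h' rfl)))
      rw [← e] at h4
      exact Nat.dvd_of_mul_dvd_mul_left (by norm_num) h4
  have := hA.trans (Subgroup.card_dvd_of_le h.alt_le)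
  rw [← Subgroup.index_mul_card (H.subgroupOf G),
    Nat.card_congr (Subgroup.subgroupOfEquivOfLe h.le).toEquiv] at this
  exact (hp.dvd_mul.1 this).resolve_left (h.not_dvd p hp hpπ)

theorem Full.le_ncard_orbit {G H : Subgroup (Perm α)} (h : Full π G H) {p : ℕ} (hp : p.Prime)
    (hpπ : p ∈ π) (hpn : p ≤ Nat.card α) (h2 : p ≠ 2 ∨ 4 ≤ Nat.card α) :
    ∃ x : α, p ≤ (orbit H x).ncard := by
  haveI := Fact.mk hp
  obtain ⟨⟨g, hg⟩, hgo⟩ := exists_prime_orderOf_dvd_card' p (h.dvd_card hp hpπ hpn h2)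
  rw [Subgroup.orderOf_mk] at hgo
  obtain ⟨x, hx⟩ : ∃ x, g x ≠ x := by
    by_contra! hall
    rw [show g = 1 from Equiv.ext hall, orderOf_one] at hgo
    exact hp.one_lt.ne hgo
  refine ⟨x, ?_⟩
  have hsub : orbit (Subgroup.zpowers g) x ⊆ orbit H x := by
    rintro _ ⟨⟨k, hk⟩, rfl⟩
    exact ⟨⟨k, Subgroup.zpowers_le.2 hg hk⟩, rfl⟩
  refine le_trans ?_ (Set.ncard_le_ncard hsub)
  have hd : (orbit (Subgroup.zpowers g) x).ncard ∣ p := by
    rw [← index_stabilizer]
    have := Subgroup.index_dvd_card (stabilizer (Subgroup.zpowers g) x)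
    rwa [Nat.card_zpowers, hgo] at this
  rcases hp.eq_one_or_self_of_dvd _ hd with h1 | h1
  · exfalso
    obtain ⟨y, hy⟩ := Set.ncard_eq_one.1 h1
    have m1 : x ∈ orbit (Subgroup.zpowers g) x := mem_orbit_self x
    have m2 : g x ∈ orbit (Subgroup.zpowers g) x := ⟨⟨g, Subgroup.mem_zpowers g⟩, rfl⟩
    rw [hy, Set.mem_singleton_iff] at m1 m2
    exact hx (m2.trans m1.symm)
  · exact h1.ge

theorem Full.eq_of_all {G H : Subgroup (Perm α)} (h : Full π G H)
    (hall : ∀ p, p.Prime → p ≤ Nat.card α → p ∈ π) : H = G := by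
  refine le_antisymm h.le (Subgroup.relIndex_eq_one.1 ?_)
  refine Nat.eq_one_iff_not_exists_prime_dvd.2 fun p hp hd => h.not_dvd p hp (hall p hp ?_) hd
  have h1 : H.relIndex G ∣ Nat.card G := Subgroup.index_dvd_card _
  have := hd.trans (h1.trans (Subgroup.card_subgroup_dvd_card G))
  rwa [Nat.card_perm, hp.dvd_factorial] at this

theorem Full.eq_inf {G H K : Subgroup (Perm α)} (h : Full π G H) (hHK : H ≤ K)
    (hK : ∀ p, p.Prime → p ∣ Nat.card K → p ∈ π) : H = G ⊓ K := by
  refine le_antisymm (le_inf h.le hHK) (Subgroup.relIndex_eq_one.1 ?_)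
  refine Nat.eq_one_iff_not_exists_prime_dvd.2 fun p hp hd => ?_
  have h1 : H.relIndex (G ⊓ K) ∣ Nat.card K :=
    (Subgroup.index_dvd_card _).trans (Subgroup.card_dvd_of_le inf_le_right)
  refine h.not_dvd p hp (hK p hp (hd.trans h1)) ?_
  rw [← Subgroup.relIndex_mul_relIndex H (G ⊓ K) G (le_inf h.le hHK) inf_le_left]
  exact hd.mul_right _

/-- A π-subgroup of π'-index with an odd element cuts out a Hall subgroup. -/
theorem full_inf {G K : Subgroup (Perm α)} (hG : alternatingGroup α ≤ G)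
    (hodd : ∃ g ∈ K, sign g = -1) (hK : ∀ p, p.Prime → p ∣ Nat.card K → p ∈ π)
    (hidx : ∀ p, p.Prime → p ∈ π → ¬ p ∣ K.index) : Full π G (G ⊓ K) where
  alt_le := hG
  le := inf_le_left
  pi p hp hd := hK p hp (hd.trans (Subgroup.card_dvd_of_le inf_le_right))
  not_dvd p hp hpπ hd := hidx p hp hpπ (by
    rwa [inf_comm, Subgroup.inf_relIndex_right, relIndex_eq_index hG hodd] at hd)

theorem isPiHall_iff_full (H : Subgroup (Perm α)) :
    Cfsg.IsPiHall π H ↔ Full π ⊤ H := by
  constructor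
  · intro h
    exact ⟨le_top, le_top, h.1, fun p hp hpπ hd => h.2 p hp hpπ (by rwa [Subgroup.relIndex_top_right] at hd)⟩
  · intro h
    exact ⟨h.pi, fun p hp hpπ hd => h.not_dvd p hp hpπ (by rwa [Subgroup.relIndex_top_right])⟩

theorem isPiHall_iff_full_alt (H : Subgroup (alternatingGroup α)) :
    Cfsg.IsPiHall π H ↔ Full π (alternatingGroup α) (H.map (alternatingGroup α).subtype) := by
  have hc : Nat.card (H.map (alternatingGroup α).subtype) = Nat.card H :=
    Subgroup.card_map_of_injective (Subgroup.subtype_injective _)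
  have hi : (H.map (alternatingGroup α).subtype).relIndex (alternatingGroup α) = H.index := by
    rw [Subgroup.relIndex, Subgroup.subgroupOf, Subgroup.comap_map_eq_self_of_injective
      (Subgroup.subtype_injective _)]
  constructor
  · intro h
    exact ⟨le_rfl, Subgroup.map_subtype_le _, fun p hp hd => h.1 p hp (hc ▸ hd),
      fun p hp hpπ hd => h.2 p hp hpπ (hi ▸ hd)⟩
  · intro h
    exact ⟨fun p hp hd => h.pi p hp (hc.symm ▸ hd), fun p hp hpπ hd => h.not_dvd p hp hpπ (hi.symm ▸ hd)⟩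

end Cfsg.Agent.H56.HallSym
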