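import Cfsg.Agent.H56.HallClass

/-!
Consequences: existence, conjugacy, lifting, and failure of dominance.
-/

set_option autoImplicit false

open Equiv Equiv.Perm MulAction
open scoped Pointwise

namespace Cfsg.Agent.H56.HallSym

section generic

variable {G : Type*} [Group G] [Finite G] {π : Set ℕ}

/-- At most one prime of `π` divides `N`. -/
def OnePrime (π : Set ℕ) (N : ℕ) : Prop :=
  ∀ r s : ℕ, r.Prime → s.Prime → r ∈ π → s ∈ π → r ∣ N → s ∣ N → r = s

theorem exists_hall_ge (h : OnePrime π (Nat.card G)) {K : Subgroup G}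
    (hK : Cfsg.IsPiSubgroup π K) : ∃ H : Subgroup G, Cfsg.IsPiHall π H ∧ K ≤ H := by
  by_cases hex : ∃ p, p.Prime ∧ p ∈ π ∧ p ∣ Nat.card G
  · obtain ⟨p, hp, hpπ, hpG⟩ := hex
    haveI := Fact.mk hp
    have hKp : IsPGroup p K := IsPGroup.of_card (n := (Nat.card K).primeFactorsList.length)
      (Nat.eq_prime_pow_of_unique_prime_dvd Nat.card_pos.ne' fun {q} hq hqd =>
        h q p hq hp (hK q hq hqd) hpπ (hqd.trans (Subgroup.card_subgroup_dvd_card K)) hpG)
    obtain ⟨T, hT⟩ := hKp.exists_le_sylow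
    refine ⟨T, ⟨fun q hq hqd => ?_, fun q hq hqπ hqd => ?_⟩, hT⟩
    · obtain ⟨k, hk⟩ := T.2.exists_card_eq
      rw [hk] at hqd
      exact (Nat.prime_dvd_prime_iff_eq hq hp).1 (hq.dvd_of_dvd_pow hqd) ▸ hpπ
    · obtain rfl := h q p hq hp hqπ hpπ (hqd.trans (Subgroup.index_dvd_card _)) hpG
      exact T.not_dvd_index hqd
  · push Not at hex
    have hK1 : Nat.card K = 1 := Nat.eq_one_iff_not_exists_prime_dvd.2 fun q hq hqd =>
      hex q hq (hK q hq hqd) (hqd.trans (Subgroup.card_subgroup_dvd_card K))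
    exact ⟨K, ⟨hK, fun q hq hqπ hqd => hex q hq hqπ (hqd.trans (Subgroup.index_dvd_card K))⟩, le_rfl⟩

theorem exists_hall (h : OnePrime π (Nat.card G)) : Cfsg.IsEPiGroup π G := by
  obtain ⟨H, hH, -⟩ := exists_hall_ge (π := π) h (K := ⊥) (fun p hp hd => by
    rw [Subgroup.card_bot] at hd
    exact absurd hd hp.not_dvd_one)
  exact ⟨H, hH⟩

theorem hall_conj (h : OnePrime π (Nat.card G)) {H K : Subgroup G} (hH : Cfsg.IsPiHall π H)
    (hK : Cfsg.IsPiHall π K) : ∃ g : G, K = H.map (MulAut.conj g).toMonoidHom := by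
  by_cases hex : ∃ p, p.Prime ∧ p ∈ π ∧ p ∣ Nat.card G
  · obtain ⟨p, hp, hpπ, hpG⟩ := hex
    haveI := Fact.mk hp
    have hpg : ∀ L : Subgroup G, Cfsg.IsPiHall π L → IsPGroup p L := fun L hL =>
      IsPGroup.of_card (n := (Nat.card L).primeFactorsList.length)
        (Nat.eq_prime_pow_of_unique_prime_dvd Nat.card_pos.ne' fun {q} hq hqd =>
          h q p hq hp (hL.1 q hq hqd) hpπ (hqd.trans (Subgroup.card_subgroup_dvd_card L)) hpG)
    let S : Sylow p G := (hpg H hH).toSylow (hH.2 p hp hpπ)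
    let T : Sylow p G := (hpg K hK).toSylow (hK.2 p hp hpπ)
    obtain ⟨g, hg⟩ := MulAction.exists_smul_eq G S T
    refine ⟨g, ?_⟩
    have := congrArg (fun R : Sylow p G => (R : Subgroup G)) hg
    exact this.symm
  · push Not at hex
    have h1 : ∀ L : Subgroup G, Cfsg.IsPiHall π L → L = ⊥ := fun L hL =>
      Subgroup.card_eq_one.1 (Nat.eq_one_iff_not_exists_prime_dvd.2 fun q hq hqd =>
        hex q hq (hL.1 q hq hqd) (hqd.trans (Subgroup.card_subgroup_dvd_card L)))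
    exact ⟨1, by rw [h1 H hH, h1 K hK, Subgroup.map_bot]⟩

theorem isCPi_of_one (h : OnePrime π (Nat.card G)) : Cfsg.IsCPiGroup π G :=
  ⟨exists_hall h, fun _ _ hH hK => hall_conj h hH hK⟩

theorem hall_eq_top (h : ∀ p, p.Prime → p ∣ Nat.card G → p ∈ π) {H : Subgroup G}
    (hH : Cfsg.IsPiHall π H) : H = ⊤ := by
  refine Subgroup.index_eq_one.1 (Nat.eq_one_iff_not_exists_prime_dvd.2 fun q hq hd => ?_)
  exact hH.2 q hq (h q hq (hd.trans (Subgroup.index_dvd_card H))) hd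

theorem top_isPiHall (h : ∀ p, p.Prime → p ∣ Nat.card G → p ∈ π) :
    Cfsg.IsPiHall π (⊤ : Subgroup G) :=
  ⟨fun p hp hd => h p hp (Subgroup.card_top (G := G) ▸ hd),
    fun p hp _ hd => hp.not_dvd_one (Subgroup.index_top (G := G) ▸ hd)⟩

theorem isCPi_of_all (h : ∀ p, p.Prime → p ∣ Nat.card G → p ∈ π) : Cfsg.IsCPiGroup π G :=
  ⟨⟨⊤, top_isPiHall h⟩, fun H K hH hK => ⟨1, by
    rw [hall_eq_top h hH, hall_eq_top h hK,
      Subgroup.map_top_of_surjective _ (MulAut.conj (1 : G)).surjective]⟩⟩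

theorem map_conj_isPi {H : Subgroup G} (hH : Cfsg.IsPiSubgroup π H) (g : G) :
    Cfsg.IsPiSubgroup π (H.map (MulAut.conj g).toMonoidHom) := fun p hp hd =>
  hH p hp (by rwa [Subgroup.card_map_of_injective (MulAut.conj g).injective] at hd)

theorem dPi_of_one (h : OnePrime π (Nat.card G)) : Cfsg.IsDPiGroup π G := by
  intro H K hH hK
  have hmax : ∀ L : Subgroup G, Maximal (Cfsg.IsPiSubgroup π) L → Cfsg.IsPiHall π L := by
    intro L hL
    obtain ⟨M, hM, hLM⟩ := exists_hall_ge h hL.prop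
    rwa [hL.eq_of_le hM.1 hLM]
  exact hall_conj h (hmax H hH) (hmax K hK)

theorem dPi_of_all (h : ∀ p, p.Prime → p ∣ Nat.card G → p ∈ π) : Cfsg.IsDPiGroup π G := by
  intro H K hH hK
  have hmax : ∀ L : Subgroup G, Maximal (Cfsg.IsPiSubgroup π) L → Cfsg.IsPiHall π L := fun L hL => by
    rw [hL.eq_of_le (top_isPiHall h).1 le_top]
    exact top_isPiHall h
  exact (isCPi_of_all h).2 H K (hmax H hH) (hmax K hK)

/-- In a `D_π`-group every π-subgroup lies in a Hall subgroup. -/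
theorem exists_hall_ge_of_dPi (h : Cfsg.IsDPiGroup π G) {K : Subgroup G}
    (hK : Cfsg.IsPiSubgroup π K) : ∃ H : Subgroup G, Cfsg.IsPiHall π H ∧ K ≤ H := by
  obtain ⟨M, hKM, hM⟩ := Finite.exists_le_maximal hK
  refine ⟨M, ⟨hM.prop, fun p hp hpπ hd => ?_⟩, hKM⟩
  haveI := Fact.mk hp
  obtain ⟨T⟩ := (inferInstance : Nonempty (Sylow p G))
  obtain ⟨k, hk⟩ := T.2.exists_card_eq
  obtain ⟨N, hTN, hN⟩ := Finite.exists_le_maximal (p := Cfsg.IsPiSubgroup π) (a := (T : Subgroup G))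
    (fun q hq hqd => by
      rw [hk] at hqd
      exact (Nat.prime_dvd_prime_iff_eq hq hp).1 (hq.dvd_of_dvd_pow hqd) ▸ hpπ)
  obtain ⟨g, hg⟩ := h N M hN hM
  refine T.not_dvd_index (hd.trans ?_)
  have : M.index = N.index := by
    rw [hg, Subgroup.index_map_of_injective _ (MulAut.conj g).injective,
      MonoidHom.range_eq_top.2 (MulAut.conj g).surjective, Subgroup.index_top, mul_one]
  exact this ▸ Subgroup.index_dvd_of_le hTN

end generic

variable {α : Type*} [Fintype α] [DecidableEq α] {π : Set ℕ}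

theorem five_le {n : ℕ} (h2 : TwoPrimes π n) (hns : ∃ q : ℕ, q.Prime ∧ q ≤ n ∧ q ∉ π) : 5 ≤ n := by
  obtain ⟨r, s, hr, hs, hrs, hrπ, hsπ, hrn, hsn⟩ := h2
  obtain ⟨q, hq, hqn, hqπ⟩ := hns
  by_contra hlt
  have hr' : r ≠ 4 := fun e => by rw [e] at hr; norm_num at hr
  have hs' : s ≠ 4 := fun e => by rw [e] at hs; norm_num at hs
  have hq' : q ≠ 4 := fun e => by rw [e] at hq; norm_num at hq
  have := hr.two_le
  have := hs.two_le
  have := hq.two_le
  rcases (show q = r ∨ q = s by omega) with rfl | rfl <;> contradiction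

theorem prime_le_of_dvd_alt {p : ℕ} (hp : p.Prime) (h : p ∣ Nat.card (alternatingGroup α)) :
    p ≤ Nat.card α := by
  have := h.trans (Subgroup.card_subgroup_dvd_card _)
  rwa [Nat.card_perm, hp.dvd_factorial] at this

theorem prime_le_of_dvd_perm {p : ℕ} (hp : p.Prime) (h : p ∣ Nat.card (Perm α)) :
    p ≤ Nat.card α := by
  rwa [Nat.card_perm, hp.dvd_factorial] at h

theorem onePrime_of_not_two {N : ℕ} (hN : ∀ p, p.Prime → p ∣ N → p ≤ Nat.card α)
    (h : ¬ TwoPrimes π (Nat.card α)) : OnePrime π N := by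
  intro r s hr hs hrπ hsπ hrd hsd
  by_contra hne
  exact h ⟨r, s, hr, hs, hne, hrπ, hsπ, hN r hr hrd, hN s hs hsd⟩

theorem ePi_perm_iff (h2 : TwoPrimes π (Nat.card α))
    (hns : ∃ q : ℕ, q.Prime ∧ q ≤ Nat.card α ∧ q ∉ π) :
    Cfsg.IsEPiGroup π (Perm α) ↔ Excep π (Nat.card α) := by
  constructor
  · rintro ⟨H, hH⟩
    obtain ⟨K, hK, -⟩ := ((isPiHall_iff_full H).1 hH).shape h2 hns
    exact hK.excep
  · intro hex
    obtain ⟨K, hK⟩ := exists_shape (α := α) hex (five_le h2 hns)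
    exact ⟨_, (isPiHall_iff_full _).2 (hK.full le_top)⟩

theorem ePi_alt_iff (h2 : TwoPrimes π (Nat.card α))
    (hns : ∃ q : ℕ, q.Prime ∧ q ≤ Nat.card α ∧ q ∉ π) :
    Cfsg.IsEPiGroup π (alternatingGroup α) ↔ Excep π (Nat.card α) := by
  constructor
  · rintro ⟨H, hH⟩
    obtain ⟨K, hK, -⟩ := ((isPiHall_iff_full_alt H).1 hH).shape h2 hns
    exact hK.excep
  · intro hex
    obtain ⟨K, hK⟩ := exists_shape (α := α) hex (five_le h2 hns)
    refine ⟨K.subgroupOf (alternatingGroup α), (isPiHall_iff_full_alt _).2 ?_⟩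
    rw [Subgroup.subgroupOf_map_subtype, inf_comm]
    exact hK.full le_rfl

theorem cPi_perm (h : Cfsg.IsEPiGroup π (Perm α)) : Cfsg.IsCPiGroup π (Perm α) := by
  by_cases h2 : TwoPrimes π (Nat.card α)
  · by_cases hns : ∃ q : ℕ, q.Prime ∧ q ≤ Nat.card α ∧ q ∉ π
    · refine ⟨h, fun H K hH hK => ?_⟩
      obtain ⟨g, -, hg⟩ := ((isPiHall_iff_full H).1 hH).conj ((isPiHall_iff_full K).1 hK) h2 hns
      exact ⟨g, hg⟩
    · push Not at hns
      exact isCPi_of_all fun p hp hd => hns p hp (prime_le_of_dvd_perm hp hd)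
  · exact isCPi_of_one (onePrime_of_not_two (fun p hp hd => prime_le_of_dvd_perm hp hd) h2)

theorem cPi_alt (h : Cfsg.IsEPiGroup π (alternatingGroup α)) :
    Cfsg.IsCPiGroup π (alternatingGroup α) := by
  by_cases h2 : TwoPrimes π (Nat.card α)
  · by_cases hns : ∃ q : ℕ, q.Prime ∧ q ≤ Nat.card α ∧ q ∉ π
    · refine ⟨h, fun H K hH hK => ?_⟩
      obtain ⟨g, hgA, hg⟩ := ((isPiHall_iff_full_alt H).1 hH).conj ((isPiHall_iff_full_alt K).1 hK) h2 hns
      refine ⟨⟨g, hgA⟩, Subgroup.map_injective (alternatingGroup α).subtype_injective ?_⟩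
      rw [hg, Subgroup.map_map, Subgroup.map_map]
      congr 1
    · push Not at hns
      exact isCPi_of_all fun p hp hd => hns p hp (prime_le_of_dvd_alt hp hd)
  · exact isCPi_of_one (onePrime_of_not_two (fun p hp hd => prime_le_of_dvd_alt hp hd) h2)

theorem ePi_perm_iff_alt :
    Cfsg.IsEPiGroup π (Perm α) ↔ Cfsg.IsEPiGroup π (alternatingGroup α) := by
  by_cases h2 : TwoPrimes π (Nat.card α)
  · by_cases hns : ∃ q : ℕ, q.Prime ∧ q ≤ Nat.card α ∧ q ∉ π
    · rw [ePi_perm_iff h2 hns, ePi_alt_iff h2 hns]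
    · push Not at hns
      exact iff_of_true (isCPi_of_all fun p hp hd => hns p hp (prime_le_of_dvd_perm hp hd)).1
        (isCPi_of_all fun p hp hd => hns p hp (prime_le_of_dvd_alt hp hd)).1
  · exact iff_of_true (exists_hall (onePrime_of_not_two (fun p hp hd => prime_le_of_dvd_perm hp hd) h2))
      (exists_hall (onePrime_of_not_two (fun p hp hd => prime_le_of_dvd_alt hp hd) h2))

theorem Full.inter_alt {M : Subgroup (Perm α)} (h : Full π ⊤ M) :
    Full π (alternatingGroup α) (alternatingGroup α ⊓ M) where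
  alt_le := le_rfl
  le := inf_le_left
  pi p hp hd := h.pi p hp (hd.trans (Subgroup.card_dvd_of_le inf_le_right))
  not_dvd p hp hpπ hd := by
    rw [inf_comm, Subgroup.inf_relIndex_right] at hd
    refine h.not_dvd p hp hpπ (hd.trans ?_)
    rw [Subgroup.relIndex_top_right]
    by_cases hodd : ∃ g ∈ M, sign g = -1
    · rw [relIndex_eq_index le_rfl hodd]
    · push Not at hodd
      have hle : M ≤ alternatingGroup α := fun g hg =>
        (Int.units_eq_one_or (sign g)).resolve_right (hodd g hg)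
      exact Dvd.intro _ (Subgroup.relIndex_mul_index hle)

theorem hall_alt_iff (M : Subgroup (alternatingGroup α)) :
    Cfsg.IsPiHall π M ↔
      ∃ M₀ : Subgroup (Perm α), Cfsg.IsPiHall π M₀ ∧ M = M₀.subgroupOf (alternatingGroup α) := by
  constructor
  swap
  · rintro ⟨M₀, hM₀, rfl⟩
    rw [isPiHall_iff_full_alt, Subgroup.subgroupOf_map_subtype, inf_comm]
    exact ((isPiHall_iff_full M₀).1 hM₀).inter_alt
  intro hM
  have hF := (isPiHall_iff_full_alt M).1 hM
  suffices hs : ∃ M₀, Cfsg.IsPiHall π M₀ ∧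
      M.map (alternatingGroup α).subtype = alternatingGroup α ⊓ M₀ by
    obtain ⟨M₀, h0, he⟩ := hs
    refine ⟨M₀, h0, Subgroup.map_injective (alternatingGroup α).subtype_injective ?_⟩
    rw [he, Subgroup.subgroupOf_map_subtype, inf_comm]
  by_cases h2 : TwoPrimes π (Nat.card α)
  · by_cases hns : ∃ q : ℕ, q.Prime ∧ q ≤ Nat.card α ∧ q ∉ π
    · obtain ⟨K, hK, he⟩ := hF.shape h2 hns
      refine ⟨⊤ ⊓ K, (isPiHall_iff_full _).2 (hK.full le_top), ?_⟩
      rw [top_inf_eq]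
      exact he
    · push Not at hns
      refine ⟨⊤, top_isPiHall fun p hp hd => hns p hp (prime_le_of_dvd_perm hp hd), ?_⟩
      rw [inf_top_eq]
      exact hF.eq_of_all hns
  · obtain ⟨M₀, h0, hle⟩ := exists_hall_ge
      (onePrime_of_not_two (fun p hp hd => prime_le_of_dvd_perm hp hd) h2)
      (K := M.map (alternatingGroup α).subtype) hF.pi
    exact ⟨M₀, h0, hF.eq_inf hle h0.1⟩

/-- A group preserving a small covering family of small sets has order with primes `2`, `3` only. -/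
theorem card_dvd_of_family {W : Subgroup (Perm α)} {ℬ : Set (Set α)}
    (hW : W ≤ stabilizer (Perm α) ℬ) (hcov : ∀ x, ∃ B ∈ ℬ, x ∈ B) (hsz : ∀ B ∈ ℬ, B.ncard ≤ 3)
    (hb : ℬ.ncard ≤ 3) : Nat.card W ∣ 6 ^ 4 := by
  classical
  haveI : Fintype ℬ := Fintype.ofFinite ℬ
  let f : W →* Perm ℬ := (toPermHom (stabilizer (Perm α) ℬ) ℬ).comp (Subgroup.inclusion hW)
  refine (card_dvd_range_mul_prod W (fun B : ℬ => (B : Set α))
    (fun x => let ⟨B, hB, hx⟩ := hcov x; ⟨⟨B, hB⟩, hx⟩) f (fun g B => rfl)).trans ?_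
  have h1 : Nat.card f.range ∣ 6 := by
    have := Subgroup.card_subgroup_dvd_card f.range
    rw [Nat.card_perm, Nat.card_coe_set_eq] at this
    exact this.trans (Nat.factorial_dvd_factorial hb)
  have h2 : ∏ B : ℬ, (B : Set α).ncard.factorial ∣ 6 ^ 3 := by
    refine (Finset.prod_dvd_prod_of_dvd _ (fun _ : ℬ => 6)
      fun B _ => Nat.factorial_dvd_factorial (hsz B B.2)).trans ?_
    rw [Finset.prod_const, Finset.card_univ, ← Nat.card_eq_fintype_card, Nat.card_coe_set_eq]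
    exact pow_dvd_pow 6 hb
  exact (Nat.mul_dvd_mul h1 h2).trans (by norm_num)

omit [DecidableEq α] in
theorem smul_family_of_subset {g : Perm α} {ℬ : Set (Set α)} (h : ∀ B ∈ ℬ, g • B ∈ ℬ) : g • ℬ = ℬ := by
  refine Set.eq_of_subset_of_ncard_le ?_ ?_
  · rintro _ ⟨B, hB, rfl⟩
    exact h B hB
  · exact (Set.ncard_image_of_injective _ (MulAction.injective g)).ge

/-- Witness for `n` prime: a π-subgroup of `A_n` fixing no point. -/
theorem witness_prime (hn : (Nat.card α).Prime) (h5 : 5 ≤ Nat.card α)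
    (hπ : ∀ r : ℕ, r.Prime → r ≤ Nat.card α → (r ∈ π ↔ r < Nat.card α)) :
    ∃ U : Subgroup (Perm α), U ≤ alternatingGroup α ∧
      (∀ p, p.Prime → p ∣ Nat.card U → p ∈ π) ∧ ∀ x : α, ¬ U ≤ stabilizer (Perm α) x := by
  classical
  have hc : 5 ≤ Fintype.card α := by rwa [← Nat.card_eq_fintype_card]
  haveI : Nontrivial α := Fintype.one_lt_card_iff_nontrivial.1 (by omega)
  obtain ⟨a, b, hab⟩ := exists_pair_ne α
  set O : Set α := {a, b} with hO
  have hOc : O.ncard = 2 := Set.ncard_pair hab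
  refine ⟨alternatingGroup α ⊓ stabilizer (Perm α) O, inf_le_left, fun p hp hd => ?_, fun x hle => ?_⟩
  · have h := hd.trans (Subgroup.card_dvd_of_le inf_le_right)
    have hmul := Subgroup.card_mul_index (stabilizer (Perm α) O)
    rw [index_stab_set, hOc, Nat.card_perm, ← Nat.choose_mul_factorial_mul_factorial (show 2 ≤ Nat.card α by omega),
      mul_assoc, mul_comm] at hmul
    rw [Nat.eq_of_mul_eq_mul_left (Nat.choose_pos (by omega)) hmul] at h
    rcases hp.dvd_mul.1 h with h | h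
    · rw [hp.dvd_factorial] at h
      exact (hπ p hp (by omega)).2 (by omega)
    · rw [hp.dvd_factorial] at h
      exact (hπ p hp (by omega)).2 (by omega)
  · -- an even element moving `x`
    obtain ⟨c, hc', d, hd', hcd⟩ := Finset.one_lt_card.1
      (show 1 < ({a, b, x} : Finset α)ᶜ.card by
        rw [Finset.card_compl]
        have := Finset.card_le_three (a := a) (b := b) (c := x)
        omega)
    simp only [Finset.mem_compl, Finset.mem_insert, Finset.mem_singleton, not_or] at hc' hd'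
    obtain ⟨hca, hcb, hcx⟩ := hc'
    obtain ⟨hda, hdb, hdx⟩ := hd'
    by_cases hx : x = a ∨ x = b
    · have hmem : swap a b * swap c d ∈ alternatingGroup α ⊓ stabilizer (Perm α) O := by
        refine ⟨mul_mem_alternatingGroup_of_isSwap ⟨a, b, hab, rfl⟩ ⟨c, d, hcd, rfl⟩, mul_mem ?_ ?_⟩
        · exact swap_mem_stabilizer (Or.inl rfl) (Or.inr rfl)
        · refine smul_eq_of_fix fun z hz => swap_apply_of_ne_of_ne ?_ ?_ <;>
            rcases hz with rfl | rfl <;>
            first | exact Ne.symm hca | exact Ne.symm hcb | exact Ne.symm hda | exact Ne.symm hdb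
      have h := hle hmem
      rw [mem_stabilizer_iff, Perm.smul_def, Perm.mul_apply, swap_apply_of_ne_of_ne (Ne.symm hcx) (Ne.symm hdx)] at h
      rcases hx with rfl | rfl
      · rw [swap_apply_left] at h; exact hab h.symm
      · rw [swap_apply_right] at h; exact hab h
    · push Not at hx
      have hmem : swap a b * swap x c ∈ alternatingGroup α ⊓ stabilizer (Perm α) O := by
        refine ⟨mul_mem_alternatingGroup_of_isSwap ⟨a, b, hab, rfl⟩ ⟨x, c, Ne.symm hcx, rfl⟩, mul_mem ?_ ?_⟩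
        · exact swap_mem_stabilizer (Or.inl rfl) (Or.inr rfl)
        · refine smul_eq_of_fix fun z hz => swap_apply_of_ne_of_ne ?_ ?_ <;>
            rcases hz with rfl | rfl <;>
            first | exact Ne.symm hca | exact Ne.symm hcb | exact Ne.symm hx.1 | exact Ne.symm hx.2
      have h := hle hmem
      rw [mem_stabilizer_iff, Perm.smul_def, Perm.mul_apply, swap_apply_left,
        swap_apply_of_ne_of_ne hca hcb] at h
      exact hcx h

/-- Generators of the witness on seven points. -/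
def gens7 (i : Fin 3) : Perm (Fin 7) :=
  ![swap 0 1 * swap 1 2, swap 3 4 * swap 4 5, swap 0 3 * swap 1 4 * swap 2 5 * swap 3 4] i

/-- Generators of the witness on eight points. -/
def gens8 (i : Fin 3) : Perm (Fin 8) :=
  ![swap 0 1 * swap 1 2, swap 3 4 * swap 4 5, swap 0 3 * swap 1 4 * swap 2 5 * swap 3 4] i

/-- The family preserved on seven points. -/
def fam7 (i : Fin 3) : Finset (Fin 7) := ![{0, 1, 2}, {3, 4, 5}, {6}] i

/-- The family preserved on eight points. -/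
def fam8 (i : Fin 3) : Finset (Fin 8) := ![{0, 1, 2}, {3, 4, 5}, {6, 7}] i

theorem gens7_sign : ∀ i, sign (gens7 i) = 1 := by intro i; fin_cases i <;> simp [gens7]

theorem gens8_sign : ∀ i, sign (gens8 i) = 1 := by intro i; fin_cases i <;> simp [gens8]

theorem gens7_fam : (∀ i j, ∃ k, (fam7 j).image (gens7 i) = fam7 k) ∧ (∀ x, ∃ j, x ∈ fam7 j) ∧
    ∀ j, (fam7 j).card ≤ 3 := by
  decide +kernel

theorem gens8_fam : (∀ i j, ∃ k, (fam8 j).image (gens8 i) = fam8 k) ∧ (∀ x, ∃ j, x ∈ fam8 j) ∧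
    ∀ j, (fam8 j).card ≤ 3 := by
  decide +kernel

theorem gens7_split : ∀ O : Finset (Fin 7), O.card = 4 → ∃ i, O.image (gens7 i) ≠ O := by
  decide +kernel

theorem gens8_split : ∀ O : Finset (Fin 8), O.card = 4 →
    ∃ i, O.image (gens8 i) ≠ O ∧ O.image (gens8 i) ≠ Oᶜ := by
  decide +kernel

omit [Fintype α] in
theorem smul_coe_finset (g : Perm α) (s : Finset α) : g • (s : Set α) = ↑(s.image g) := by
  rw [Finset.coe_image]; rfl

theorem witness_closure {n : ℕ} (gens : Fin 3 → Perm (Fin n)) (F : Fin 3 → Finset (Fin n))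
    (hs : ∀ i, sign (gens i) = 1) (hF : ∀ i j, ∃ k, (F j).image (gens i) = F k)
    (hcov : ∀ x, ∃ j, x ∈ F j) (hsz : ∀ j, (F j).card ≤ 3) (h2 : 2 ∈ π) (h3 : 3 ∈ π) :
    Subgroup.closure (Set.range gens) ≤ alternatingGroup (Fin n) ∧
      ∀ p, p.Prime → p ∣ Nat.card (Subgroup.closure (Set.range gens)) → p ∈ π := by
  classical
  refine ⟨(Subgroup.closure_le _).2 ?_, fun p hp hd => ?_⟩
  · rintro _ ⟨i, rfl⟩
    exact hs i
  let ℬ : Set (Set (Fin n)) := Set.range fun j => (F j : Set (Fin n))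
  have hW : Subgroup.closure (Set.range gens) ≤ stabilizer (Perm (Fin n)) ℬ := by
    refine (Subgroup.closure_le _).2 ?_
    rintro _ ⟨i, rfl⟩
    refine smul_family_of_subset ?_
    rintro _ ⟨j, rfl⟩
    obtain ⟨k, hk⟩ := hF i j
    refine ⟨k, ?_⟩
    show (F k : Set (Fin n)) = gens i • (F j : Set (Fin n))
    rw [smul_coe_finset, hk]
  have hb : ℬ.ncard ≤ 3 := by
    rw [show ℬ = (fun j => (F j : Set (Fin n))) '' Set.univ from Set.image_univ.symm]
    exact (Set.ncard_image_le (Set.toFinite _)).trans (by rw [Set.ncard_univ, Nat.card_fin])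
  have h := hd.trans (card_dvd_of_family hW
    (fun x => let ⟨j, hx⟩ := hcov x; ⟨F j, ⟨j, rfl⟩, hx⟩)
    (by rintro _ ⟨j, rfl⟩; rw [Set.ncard_coe_finset]; exact hsz j) hb)
  rcases hp.dvd_mul.1 (show p ∣ 2 * 3 from hp.dvd_of_dvd_pow h) with h | h
  · rwa [(Nat.prime_dvd_prime_iff_eq hp Nat.prime_two).1 h]
  · rwa [(Nat.prime_dvd_prime_iff_eq hp Nat.prime_three).1 h]

theorem not_dPi {n : ℕ} (h2 : TwoPrimes π n) (hns : ∃ q : ℕ, q.Prime ∧ q ≤ n ∧ q ∉ π) :
    ¬ Cfsg.IsDPiGroup π (alternatingGroup (Fin n)) := by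
  intro hD
  have hn5 := five_le h2 hns
  have h2' : TwoPrimes π (Nat.card (Fin n)) := by rwa [Nat.card_fin]
  have hns' : ∃ q : ℕ, q.Prime ∧ q ≤ Nat.card (Fin n) ∧ q ∉ π := by rwa [Nat.card_fin]
  have hU : ∀ U : Subgroup (Perm (Fin n)), U ≤ alternatingGroup (Fin n) →
      (∀ p, p.Prime → p ∣ Nat.card U → p ∈ π) → ∃ K, Shape π K ∧ U ≤ K := by
    intro U hUA hUπ
    have hc : Nat.card (U.subgroupOf (alternatingGroup (Fin n))) = Nat.card U :=
      Nat.card_congr (Subgroup.subgroupOfEquivOfLe hUA).toEquiv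
    obtain ⟨H, hH, hUH⟩ := exists_hall_ge_of_dPi hD
      (K := U.subgroupOf (alternatingGroup (Fin n))) (fun p hp hd => hUπ p hp (hc ▸ hd))
    obtain ⟨K, hK, he⟩ := ((isPiHall_iff_full_alt H).1 hH).shape h2' hns'
    refine ⟨K, hK, fun g hg => ?_⟩
    have : g ∈ alternatingGroup (Fin n) ⊓ K := he ▸ ⟨⟨g, hUA hg⟩, hUH hg, rfl⟩
    exact this.2
  obtain ⟨K₁, hK₁, -⟩ := hU ⊥ bot_le fun p hp hd => by
    rw [Subgroup.card_bot] at hd
    exact absurd hd hp.not_dvd_one
  rcases hK₁ with ⟨⟨hp, -, hπ⟩, -⟩ | ⟨⟨hn, hπ⟩, -⟩ | ⟨⟨hn, hπ⟩, -⟩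
  · obtain ⟨U, hUA, hUπ, hUx⟩ := witness_prime (π := π) hp (by rwa [Nat.card_fin]) hπ
    obtain ⟨K, hK, hle⟩ := hU U hUA hUπ
    rcases hK with ⟨-, x, rfl⟩ | ⟨⟨hn, hπ'⟩, -⟩ | ⟨⟨hn, -⟩, -⟩
    · exact hUx x hle
    · have := (hπ' 5 (by norm_num) (by norm_num)).1
        ((hπ 5 (by norm_num) (by omega)).2 (by omega))
      omega
    · rw [hn] at hp; norm_num at hp
  · rw [Nat.card_fin] at hn
    subst hn
    obtain ⟨hA, hπU⟩ := witness_closure gens7 fam7 gens7_sign gens7_fam.1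
      gens7_fam.2.1 gens7_fam.2.2
      ((hπ 2 Nat.prime_two (by norm_num)).2 (Or.inl rfl))
      ((hπ 3 Nat.prime_three (by norm_num)).2 (Or.inr rfl))
    obtain ⟨K, hK, hle⟩ := hU _ hA hπU
    rcases hK with ⟨⟨-, -, hπ'⟩, -⟩ | ⟨-, O, hO, rfl⟩ | ⟨⟨hn, -⟩, -⟩
    · rw [Nat.card_fin] at hπ'
      have := (hπ 5 (by norm_num) (by norm_num)).1 ((hπ' 5 (by norm_num) (by norm_num)).2 (by norm_num))
      omega
    · classical
      obtain ⟨i, hi⟩ := gens7_split O.toFinset (by rw [← Set.ncard_eq_toFinset_card']; exact hO)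
      have h : gens7 i • O = O := hle (Subgroup.subset_closure ⟨i, rfl⟩)
      rw [← Set.coe_toFinset O, smul_coe_finset] at h
      exact hi (Finset.coe_injective h)
    · rw [Nat.card_fin] at hn; omega
  · rw [Nat.card_fin] at hn
    subst hn
    obtain ⟨hA, hπU⟩ := witness_closure gens8 fam8 gens8_sign gens8_fam.1
      gens8_fam.2.1 gens8_fam.2.2
      ((hπ 2 Nat.prime_two (by norm_num)).2 (Or.inl rfl))
      ((hπ 3 Nat.prime_three (by norm_num)).2 (Or.inr rfl))
    obtain ⟨K, hK, hle⟩ := hU _ hA hπU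
    rcases hK with ⟨⟨hp, -, -⟩, -⟩ | ⟨⟨hn, -⟩, -⟩ | ⟨-, B, hB, rfl⟩
    · rw [Nat.card_fin] at hp; norm_num at hp
    · rw [Nat.card_fin] at hn; omega
    · classical
      obtain ⟨i, h1, h2⟩ := gens8_split B.toFinset (by rw [← Set.ncard_eq_toFinset_card']; exact hB)
      have hgs : gens8 i • ({B, Bᶜ} : Set (Set (Fin 8))) = {B, Bᶜ} :=
        hle (Subgroup.subset_closure ⟨i, rfl⟩)
      have hmem : gens8 i • B ∈ ({B, Bᶜ} : Set (Set (Fin 8))) :=
        hgs ▸ Set.smul_mem_smul_set (Set.mem_insert _ _)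
      rw [← Set.coe_toFinset B, smul_coe_finset, ← Finset.coe_compl] at hmem
      rcases hmem with h | h
      · exact h1 (Finset.coe_injective h)
      · exact h2 (Finset.coe_injective h)

end Cfsg.Agent.H56.HallSym
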