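import Cfsg.Agent.H56.HallArith
import Cfsg.Agent.H56.HallPrim

/-!
Transitive Hall π-subgroups with two π-primes.
-/

set_option autoImplicit false

open Equiv Equiv.Perm MulAction
open scoped Pointwise

namespace Cfsg.Agent.H56.HallSym

/-- The π-primes up to `n` are exactly `2` and `3`. -/
def Only23 (π : Set ℕ) (n : ℕ) : Prop :=
  ∀ p : ℕ, p.Prime → p ≤ n → (p ∈ π ↔ (p = 2 ∨ p = 3))

/-- The stabiliser of an unordered pair `{B, Bᶜ}`. -/
def pairStab {α : Type*} (B : Set α) : Subgroup (Perm α) :=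
  stabilizer (Perm α) ({B, Bᶜ} : Set (Set α))

variable {α : Type*} [Fintype α] [DecidableEq α]

theorem smul_family_eq {g : Perm α} {ℬ : Set (Set α)} (h : ∀ C ∈ ℬ, g • C = C) : g • ℬ = ℬ := by
  ext C
  constructor
  · rintro ⟨D, hD, rfl⟩
    show g • D ∈ ℬ
    rw [h D hD]
    exact hD
  · exact fun hC => ⟨C, hC, h C hC⟩

theorem smul_eq_of_fix {g : Perm α} {C : Set α} (h : ∀ x ∈ C, g x = x) : g • C = C := by
  ext x
  constructor
  · rintro ⟨y, hy, rfl⟩
    show g y ∈ C
    rw [h y hy]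
    exact hy
  · exact fun hx => ⟨x, hx, h x hx⟩

theorem relIndex_stab (M : Subgroup (Perm α)) (B : Set α) :
    (M ⊓ stabilizer (Perm α) B).relIndex M = (orbit M B).ncard := by
  rw [← index_stabilizer, Subgroup.relIndex]
  congr 1
  ext g
  simp only [Subgroup.mem_subgroupOf, Subgroup.mem_inf, SetLike.coe_mem, true_and, mem_stabilizer_iff]
  rfl

universe u

theorem transitive_cases (π : Set ℕ) : ∀ (n : ℕ) {α : Type u} [Fintype α] [DecidableEq α],
    Nat.card α = n → ∀ {G H : Subgroup (Perm α)}, Full π G H → IsPretransitive H α → TwoPrimes π n →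
    (∀ p, p.Prime → p ≤ n → p ∈ π) ∨
      (n = 8 ∧ Only23 π 8 ∧ ∃ B : Set α, B.ncard = 4 ∧ H ≤ pairStab B) := by
  intro n
  induction n using Nat.strong_induction_on with
  | _ n ih =>
  intro α _ _ hcard G H h htrans h2
  classical
  by_cases hprim : IsPreprimitive H α
  · exact Or.inl (fun p hp hpn => primitive_all h hprim (hcard.symm ▸ h2) p hp (hcard.symm ▸ hpn))
  obtain ⟨B, hB, hBnt⟩ : ∃ B : Set α, IsBlock H B ∧ ¬ IsTrivialBlock B := by
    by_contra! hall
    exact hprim { isTrivialBlock_of_isBlock := fun {B} hB => hall B hB }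
  rw [IsTrivialBlock, not_or, Set.not_subsingleton_iff] at hBnt
  obtain ⟨hBn, hBu⟩ := hBnt
  set ℬ : Set (Set α) := orbit H B with hℬ
  set a := B.ncard with ha
  set b := ℬ.ncard with hb
  have hab : a * b = n := hcard ▸ hB.ncard_block_mul_ncard_orbit_eq hBn.nonempty
  have ha2 : 2 ≤ a := (Set.one_lt_ncard (Set.toFinite _)).2 hBn
  have hn3 := h2.three_le
  have hb2 : 2 ≤ b := by
    rcases Nat.lt_or_ge b 2 with hlt | hge
    · exfalso
      interval_cases b
      · omega
      · rw [mul_one] at hab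
        exact hBu (Set.eq_of_subset_of_ncard_le (Set.subset_univ B)
          (by rw [Set.ncard_univ, hcard, ← hab]))
    · exact hge
  have hsys := hB.isBlockSystem hBn.nonempty
  have hℬr : ℬ = Set.range fun g : H => g • B := rfl
  have hcov : ∀ x, ∃ C ∈ ℬ, x ∈ C := fun x => by
    obtain ⟨C, ⟨hC, hxC⟩, -⟩ := hsys.1.2 x
    exact ⟨C, hℬr ▸ hC, hxC⟩
  have hdisj : ∀ C ∈ ℬ, C ≠ B → Disjoint C B := by
    rintro _ ⟨g, rfl⟩ hne
    exact (isBlock_iff_smul_eq_or_disjoint.1 hB g).resolve_left hne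
  have hsize : ∀ C ∈ ℬ, C.ncard = a := by
    rintro _ ⟨g, rfl⟩
    exact Set.ncard_image_of_injective _ (MulAction.injective g)
  set W : Subgroup (Perm α) := stabilizer (Perm α) ℬ with hW
  have hHW : H ≤ W := fun g hg => smul_orbit (⟨g, hg⟩ : H) B
  have hfix : ∀ g : Perm α, g • B = B → (∀ x, x ∉ B → g x = x) → g ∈ W := by
    intro g hgB hg
    refine smul_family_eq fun C hC => ?_
    rcases eq_or_ne C B with rfl | hne
    · exact hgB
    · exact smul_eq_of_fix fun x hx => hg x (Set.disjoint_left.1 (hdisj C hC hne) hx)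
  have hodd : ∃ g ∈ W, sign g = -1 := by
    obtain ⟨x, hx, y, hy, hxy⟩ := hBn
    refine ⟨swap x y, hfix _ (swap_mem_stabilizer hx hy) fun z hz => ?_, sign_swap hxy⟩
    exact swap_apply_of_ne_of_ne (fun e : z = x => hz (e ▸ hx)) (fun e : z = y => hz (e ▸ hy))
  have hbell : Nat.uniformBell b a ∣ W.index :=
    bell_dvd_index le_rfl hcov (by omega) hsize (by rw [hcard, ← hab, mul_comm])
  have hfree : ∀ p, p.Prime → p ∈ π → ∀ i < b, ¬ p ∣ (i * a + a - 1).choose (a - 1) := by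
    intro p hp hpπ i hi hd
    refine h.not_dvd_index hHW hodd hp hpπ (hd.trans (dvd_trans ?_ hbell))
    rw [Nat.uniformBell_eq]
    exact Finset.dvd_prod_of_mem _ (Finset.mem_range.2 hi)
  have hle : ∀ p, p.Prime → p ∈ π → p ≤ n → p ≤ a := by
    intro p hp hpπ hpn
    by_contra hlt
    obtain ⟨i, hi, hd⟩ := exists_dvd_of_gt hp ha2 hb2 (not_le.1 hlt) (by rw [mul_comm, hab]; exact hpn)
    exact hfree p hp hpπ i hi hd
  have h2a : TwoPrimes π a := by
    obtain ⟨r, s, hr, hs, hrs, hrπ, hsπ, hrn, hsn⟩ := h2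
    exact ⟨r, s, hr, hs, hrs, hrπ, hsπ, hle r hr hrπ hrn, hle s hs hsπ hsn⟩
  -- the action of the block stabiliser
  have horb : orbit (G ⊓ W : Subgroup (Perm α)) B = ℬ := by
    ext C
    constructor
    · rintro ⟨⟨g, hg⟩, rfl⟩
      have hg' : g • ℬ = ℬ := hg.2
      show g • B ∈ ℬ
      rw [← hg']
      exact Set.smul_mem_smul_set (mem_orbit_self B)
    · rintro ⟨⟨g, hg⟩, rfl⟩
      exact ⟨⟨g, h.le hg, hHW hg⟩, rfl⟩
  have hidx : ∀ p, p.Prime → p ∈ π →
      ¬ p ∣ (H ⊓ stabilizer (Perm α) B).relIndex (G ⊓ W ⊓ stabilizer (Perm α) B) := by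
    intro p hp hpπ hd
    have e1 := relIndex_stab H B
    have e2 := relIndex_stab (G ⊓ W) B
    rw [horb] at e2
    have e3 := Subgroup.relIndex_mul_relIndex (H ⊓ stabilizer (Perm α) B)
      (G ⊓ W ⊓ stabilizer (Perm α) B) (G ⊓ W) (inf_le_inf_right _ (le_inf h.le hHW)) inf_le_left
    have e4 := Subgroup.relIndex_mul_relIndex (H ⊓ stabilizer (Perm α) B) H (G ⊓ W) inf_le_left
      (le_inf h.le hHW)
    rw [e2, ← e4, e1, ← hℬ, ← hb, mul_comm b] at e3
    rw [Nat.eq_of_mul_eq_mul_right (by omega) e3] at hd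
    refine h.not_dvd p hp hpπ ?_
    rw [← Subgroup.relIndex_mul_relIndex H (G ⊓ W) G (le_inf h.le hHW) inf_le_left]
    exact hd.mul_right _
  haveI : Fintype B := Fintype.ofFinite B
  have hfull := full_map (π := π) (G ⊓ W ⊓ stabilizer (Perm α) B) (H ⊓ stabilizer (Perm α) B)
    (inf_le_inf_right _ (le_inf h.le hHW))
    (fun p hp hd => h.pi p hp (hd.trans (Subgroup.card_dvd_of_le inf_le_left))) hidx
    (resHom inf_le_right) (alt_le_range _ fun g hg => by
      have hst : (ofSubtype g : Perm α) ∈ stabilizer (Perm α) B := ofSubtype_mem_stabilizer g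
      exact ⟨⟨h.alt_le (ofSubtype_mem_alt hg),
        hfix _ hst fun x hx => ofSubtype_apply_of_not_mem g hx⟩, hst⟩)
  have htransB : IsPretransitive ((((H ⊓ stabilizer (Perm α) B).subgroupOf
      (G ⊓ W ⊓ stabilizer (Perm α) B))).map (resHom inf_le_right)) B := ⟨by
    rintro ⟨x, hx⟩ ⟨y, hy⟩
    obtain ⟨⟨g, hg⟩, hgxy⟩ := exists_smul_eq H x y
    have hgB : (⟨g, hg⟩ : H) • B = B := hB.smul_eq_of_mem hx (by rw [hgxy]; exact hy)
    exact ⟨⟨_, ⟨⟨g, ⟨⟨h.le hg, hHW hg⟩, hgB⟩⟩, ⟨hg, hgB⟩, rfl⟩⟩, Subtype.ext hgxy⟩⟩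
  have hcB : Nat.card B = a := Nat.card_coe_set_eq B
  have han : a < n := by
    rw [← hab]
    exact lt_mul_of_one_lt_right (by omega) (by omega)
  rcases ih a han hcB hfull htransB h2a with hall | ⟨ha8, h23, -⟩
  · -- all primes up to `a` lie in π
    have h4 : a = 4 := eq_four_of_free h2a.three_le fun p hp hpa => by
      have := hfree p hp (hall p hp hpa) 1 (by omega)
      rwa [one_mul, ← two_mul] at this
    have hb' : b = 2 := by
      by_contra hne
      have := hfree 3 Nat.prime_three (hall 3 Nat.prime_three (by omega)) 2 (by omega)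
      rw [h4] at this
      exact this (by decide +kernel)
    refine Or.inr ⟨by rw [← hab, h4, hb'], fun p hp hp8 => ⟨fun hpπ => ?_, fun h23 => ?_⟩, B, h4, ?_⟩
    · have hp4 := hle p hp hpπ (by rw [← hab, h4, hb']; exact hp8)
      have := hp.two_le
      have : p ≠ 4 := fun e => by rw [e] at hp; norm_num at hp
      omega
    · rcases h23 with rfl | rfl <;> exact hall _ hp (by omega)
    · have hBmem : B ∈ ℬ := mem_orbit_self B
      obtain ⟨C, hC, hCB⟩ : ∃ C ∈ ℬ, C ≠ B := Set.exists_ne_of_one_lt_ncard (by omega) B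
      have hCc : C = Bᶜ := by
        refine Set.eq_of_subset_of_ncard_le (Set.subset_compl_iff_disjoint_right.2 (hdisj C hC hCB)) ?_
        rw [Set.ncard_compl, hsize C hC, hcard, ← hab, ← ha, h4, hb']
      have hℬeq : ℬ = {B, Bᶜ} := by
        refine (Set.eq_of_subset_of_ncard_le (?_ : ({B, Bᶜ} : Set (Set α)) ⊆ ℬ) ?_).symm
        · exact Set.insert_subset hBmem (Set.singleton_subset_iff.2 (hCc ▸ hC))
        · rw [Set.ncard_pair (fun e => hCB (hCc.trans e.symm)), ← hb, hb']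
      rw [pairStab, ← hℬeq]
      exact hHW
  · exfalso
    have := hfree 3 Nat.prime_three ((h23 3 Nat.prime_three (by norm_num)).2 (Or.inr rfl)) 1 (by omega)
    rw [ha8] at this
    exact this (by decide +kernel)

end Cfsg.Agent.H56.HallSym
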