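import Mathlib

/-! Nilpotent endomorphisms with kernel of dimension at most one. -/

set_option autoImplicit false

namespace Cfsg.Agent.H56

open Module Submodule

variable {F : Type*} [Field F] {V : Type*} [AddCommGroup V] [Module F V] [FiniteDimensional F V]

theorem finrank_ker_comp_le (f g : V →ₗ[F] V) :
    finrank F (LinearMap.ker (f ∘ₗ g)) ≤ finrank F (LinearMap.ker f) + finrank F (LinearMap.ker g) := by
  let φ : LinearMap.ker (f ∘ₗ g) →ₗ[F] LinearMap.ker f :=
    (g.domRestrict (LinearMap.ker (f ∘ₗ g))).codRestrict (LinearMap.ker f) (fun x => x.2)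
  have h := φ.finrank_range_add_finrank_ker
  have h1 : finrank F (LinearMap.range φ) ≤ finrank F (LinearMap.ker f) := Submodule.finrank_le _
  have h2 : finrank F (LinearMap.ker φ) ≤ finrank F (LinearMap.ker g) := by
    refine LinearMap.finrank_le_finrank_of_injective
      (f := (((LinearMap.ker (f ∘ₗ g)).subtype).comp (LinearMap.ker φ).subtype).codRestrict
        (LinearMap.ker g) (fun x => ?_)) ?_
    · exact congrArg Subtype.val (LinearMap.mem_ker.mp x.2)
    · intro a b hab
      exact Subtype.ext (Subtype.ext (congrArg (fun z : LinearMap.ker g => (z : V)) hab))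
  omega

theorem finrank_ker_pow_le (N : End F V) (h1 : finrank F (LinearMap.ker N) ≤ 1) (k : ℕ) :
    finrank F (LinearMap.ker (N ^ k)) ≤ k := by
  induction k with
  | zero => simp [Module.End.one_eq_id]
  | succ k ih =>
    have := finrank_ker_comp_le (N ^ k) N
    rw [pow_succ, Module.End.mul_eq_comp]
    omega

theorem invariant_eq_ker_pow (N : End F V) (h1 : finrank F (LinearMap.ker N) ≤ 1)
    (hnil : IsNilpotent N) (W : Submodule F V) (hW : ∀ v ∈ W, N v ∈ W) :
    W = LinearMap.ker (N ^ finrank F W) := by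
  refine Submodule.eq_of_le_of_finrank_le ?_ (finrank_ker_pow_le N h1 _)
  intro v hv
  have hn : IsNilpotent (N.restrict hW) := by
    obtain ⟨k, hk⟩ := hnil
    refine ⟨k, ?_⟩
    rw [Module.End.pow_restrict]
    ext x
    simp [hk]
  obtain ⟨k, hk⟩ := hn
  have h : (N.restrict hW) ^ finrank F W = 0 := by
    rw [← LinearMap.ker_eq_top, eq_top_iff]
    intro x _
    exact Module.End.ker_pow_le_ker_pow_finrank (N.restrict hW) k (by simp [hk])
  rw [Module.End.pow_restrict] at h
  have := congrArg (fun f : W →ₗ[F] W => ((f ⟨v, hv⟩ : W) : V)) h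
  simpa using this

theorem finrank_ker_eq_of_rank {ι : Type*} [Fintype ι] (N : Matrix ι ι F) {n : ℕ}
    (hn : Fintype.card ι = n) (h : N.rank = n - 1) : finrank F (LinearMap.ker N.mulVecLin) ≤ 1 := by
  have h2 := N.mulVecLin.finrank_range_add_finrank_ker
  rw [Module.finrank_fintype_fun_eq_card] at h2
  change N.rank + _ = _ at h2
  omega

theorem mulVecLin_pow {ι : Type*} [Fintype ι] [DecidableEq ι] (N : Matrix ι ι F) (k : ℕ) :
    (N ^ k).mulVecLin = N.mulVecLin ^ k := by
  induction k with
  | zero => simp [Matrix.mulVecLin_one, Module.End.one_eq_id]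
  | succ k ih => rw [pow_succ, pow_succ, Matrix.mulVecLin_mul, ih, Module.End.mul_eq_comp]

theorem isNilpotent_mulVecLin {ι : Type*} [Fintype ι] [DecidableEq ι] (N : Matrix ι ι F) {k : ℕ}
    (h : N ^ k = 0) : IsNilpotent N.mulVecLin :=
  ⟨k, by rw [← mulVecLin_pow, h, Matrix.mulVecLin_zero]⟩

theorem invariant_eq_ker_matrix {ι : Type*} [Fintype ι] [DecidableEq ι] (u : Matrix ι ι F) {n : ℕ}
    (hn : Fintype.card ι = n) (hnil : (u - 1) ^ n = 0) (hreg : (u - 1).rank = n - 1)
    (W : Submodule F (ι → F)) (hW : ∀ v ∈ W, u.mulVec v ∈ W) :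
    W = LinearMap.ker (Matrix.mulVecLin ((u - 1) ^ finrank F W)) := by
  have h1 : finrank F (LinearMap.ker (u - 1).mulVecLin) ≤ 1 :=
    finrank_ker_eq_of_rank (u - 1) hn hreg
  have h2 : IsNilpotent (u - 1).mulVecLin := isNilpotent_mulVecLin (u - 1) hnil
  rw [mulVecLin_pow]
  refine invariant_eq_ker_pow (u - 1).mulVecLin h1 h2 W ?_
  intro v hv
  rw [Matrix.mulVecLin_apply, Matrix.sub_mulVec, Matrix.one_mulVec]
  exact W.sub_mem (hW v hv) hv

end Cfsg.Agent.H56
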