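import Cfsg.Agent.S2542
import Cfsg.Agent.H27.PermFamily
import Mathlib.GroupTheory.SpecificGroups.Alternating.Simple

/-!
The two classes of icosahedral subgroups of `PSL₂(11)`, through the normaliser of a split torus of
order five.
-/

set_option autoImplicit false

open Matrix MulAction
open scoped Pointwise MatrixGroups

namespace Cfsg.Agent.H56.PSLEleven

local instance factEleven : Fact (Nat.Prime 11) := ⟨by norm_num⟩

abbrev SL11 : Type := Matrix.SpecialLinearGroup (Fin 2) (ZMod 11)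
abbrev P11 : Type := Matrix.ProjectiveSpecialLinearGroup (Fin 2) (ZMod 11)
abbrev A5 : Type := alternatingGroup (Fin 5)

/-- The projection. -/
def pr : SL11 →* P11 := QuotientGroup.mk' _

theorem pr_eq_iff {x y : SL11} : pr x = pr y ↔ y = x ∨ y = -x := by
  rw [pr, QuotientGroup.mk'_apply, QuotientGroup.mk'_apply, QuotientGroup.eq]
  constructor
  · intro h
    obtain ⟨c, hc, hs⟩ := Matrix.SpecialLinearGroup.mem_center_iff.1 h
    have hc2 : c = 1 ∨ c = -1 := by
      rw [Fintype.card_fin] at hc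
      exact sq_eq_one_iff.1 hc
    rcases hc2 with rfl | rfl
    · left
      have : x⁻¹ * y = 1 := Subtype.ext (by rw [← hs]; simp)
      exact (inv_mul_eq_one.1 this).symm
    · right
      have : x⁻¹ * y = -1 := Subtype.ext (by rw [← hs]; ext i j; fin_cases i <;> fin_cases j <;> simp)
      rw [← mul_inv_cancel_left x y, this, mul_neg, mul_one]
  · rintro (rfl | rfl)
    · rw [inv_mul_cancel]; exact one_mem _
    · rw [mul_neg, inv_mul_cancel]
      refine Subgroup.mem_center_iff.2 fun z => ?_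
      rw [mul_neg, mul_one, neg_mul, one_mul]

theorem pr_surjective : Function.Surjective pr := QuotientGroup.mk'_surjective _

/-- The torus element. -/
def sD : SL11 := ⟨!![4, 0; 0, 3], by rw [Matrix.det_fin_two_of]; decide⟩

/-- Its image. -/
def tD : P11 := pr sD

theorem sD_val : (sD : Matrix (Fin 2) (Fin 2) (ZMod 11)) = !![4, 0; 0, 3] := rfl

theorem invol_det (u : ZMod 11) :
    Matrix.det (if u = 0 then (1 : Matrix (Fin 2) (Fin 2) (ZMod 11)) else !![1, u; -2 * u ^ 9, -1]) = 1 := by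
  revert u
  decide +kernel

/-- Involution lifts. -/
def sU (u : ZMod 11) : SL11 :=
  ⟨if u = 0 then 1 else !![1, u; -2 * u ^ 9, -1], invol_det u⟩

/-- Their images. -/
def tU (u : ZMod 11) : P11 := pr (sU u)

/-- The subgroup generated by the torus and an involution. -/
def L (u : ZMod 11) : Subgroup P11 := Subgroup.closure {tD, tU u}

theorem tD_mem (u : ZMod 11) : tD ∈ L u := Subgroup.subset_closure (Set.mem_insert _ _)

theorem tU_mem (u : ZMod 11) : tU u ∈ L u := Subgroup.subset_closure (Set.mem_insert_of_mem _ rfl)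

theorem sD_conj : ∀ u : ZMod 11, sD * sU u = sU (5 * u) * sD := by decide +kernel

theorem tU_five_mem {u v : ZMod 11} (h : tU v ∈ L u) : tU (5 * v) ∈ L u := by
  have e : tD * tU v = tU (5 * v) * tD := by
    rw [tD, tU, tU, ← map_mul, ← map_mul, sD_conj]
  rw [eq_mul_inv_of_mul_eq e.symm]
  exact mul_mem (mul_mem (tD_mem u) h) (inv_mem (tD_mem u))

theorem tU_pow_mem (u : ZMod 11) : ∀ i : ℕ, tU (5 ^ i * u) ∈ L u
  | 0 => by rw [pow_zero, one_mul]; exact tU_mem u
  | i + 1 => by rw [pow_succ', mul_assoc]; exact tU_five_mem (tU_pow_mem u i)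

theorem L_le_of_pow {u v : ZMod 11} {i : ℕ} (h : v = 5 ^ i * u) : L v ≤ L u := by
  rw [L, Subgroup.closure_le]
  intro x hx
  rcases hx with rfl | hx
  · exact tD_mem u
  · rw [Set.mem_singleton_iff.1 hx, h]
    exact tU_pow_mem u i

theorem classes : ∀ v : ZMod 11, v ≠ 0 →
    (∃ i : Fin 5, v = 5 ^ (i : ℕ) * 1 ∧ ∃ j : Fin 5, (1 : ZMod 11) = 5 ^ (j : ℕ) * v) ∨
      (∃ i : Fin 5, v = 5 ^ (i : ℕ) * (-1) ∧ ∃ j : Fin 5, (-1 : ZMod 11) = 5 ^ (j : ℕ) * v) := by
  decide +kernel

theorem L_eq_cases {v : ZMod 11} (hv : v ≠ 0) : L v = L 1 ∨ L v = L (-1) := by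
  rcases classes v hv with ⟨i, hi, j, hj⟩ | ⟨i, hi, j, hj⟩
  · exact Or.inl (le_antisymm (L_le_of_pow hi) (L_le_of_pow hj))
  · exact Or.inr (le_antisymm (L_le_of_pow hi) (L_le_of_pow hj))

theorem tU_mem_class {v : ZMod 11} (hv : v ≠ 0) : tU v ∈ L 1 ∨ tU v ∈ L (-1) :=
  (L_eq_cases hv).imp (fun h => by rw [← h]; exact tU_mem v) (fun h => by rw [← h]; exact tU_mem v)

theorem lift_facts : ∀ u : ZMod 11, u ≠ 0 →
    sU u * sU u = -1 ∧ (sU u ≠ 1 ∧ sU u ≠ -1) ∧
      (sU u * sD * (sU u * sD) * (sU u * sD) = 1 ∨ sU u * sD * (sU u * sD) * (sU u * sD) = -1) := by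
  decide +kernel

theorem tU_rel {u : ZMod 11} (hu : u ≠ 0) :
    tU u ^ 2 = 1 ∧ tU u ≠ 1 ∧ (tU u * tD) ^ 3 = 1 := by
  obtain ⟨h1, ⟨h2, h3⟩, h4⟩ := lift_facts u hu
  refine ⟨?_, ?_, ?_⟩
  · rw [sq, tU, ← map_mul, h1, ← map_one pr, eq_comm, pr_eq_iff]
    exact Or.inr rfl
  · intro h
    rw [tU, ← map_one pr, eq_comm, pr_eq_iff] at h
    exact h.elim h2 h3
  · rw [pow_three', tU, tD, ← map_mul, ← map_mul, ← map_mul, ← map_one pr, eq_comm, pr_eq_iff]
    exact h4

theorem sU_inj : ∀ u v : ZMod 11, u ≠ 0 → v ≠ 0 → (sU v = sU u ∨ sU v = -sU u) → u = v := by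
  decide +kernel

theorem orderOf_tD : orderOf tD = 5 := by
  haveI := Fact.mk (show Nat.Prime 5 by norm_num)
  refine orderOf_eq_prime ?_ ?_
  · rw [tD, ← map_pow, show sD ^ 5 = 1 by decide +kernel, map_one]
  · intro h
    rw [tD, ← map_one pr, eq_comm, pr_eq_iff] at h
    exact h.elim (by decide +kernel) (by decide +kernel)

theorem classify_lift {a : P11} (h2 : a ^ 2 = 1) (h1 : a ≠ 1) (h3 : (a * tD) ^ 3 = 1) :
    ∃ v : ZMod 11, v ≠ 0 ∧ a = tU v := by
  obtain ⟨M, rfl⟩ := pr_surjective a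
  rw [sq, ← map_mul, ← map_one pr, eq_comm, pr_eq_iff] at h2
  rw [pow_three', tD, ← map_mul, ← map_mul, ← map_mul, ← map_one pr, eq_comm, pr_eq_iff] at h3
  have hne : ¬ (M = 1 ∨ M = -1) := fun h => h1 (by rw [← map_one pr, eq_comm, pr_eq_iff]; exact h)
  have hdet := M.2
  rw [Matrix.det_fin_two] at hdet
  set a := (M : Matrix (Fin 2) (Fin 2) (ZMod 11)) 0 0 with ha
  set b := (M : Matrix (Fin 2) (Fin 2) (ZMod 11)) 0 1 with hb
  set c := (M : Matrix (Fin 2) (Fin 2) (ZMod 11)) 1 0 with hc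
  set d := (M : Matrix (Fin 2) (Fin 2) (ZMod 11)) 1 1 with hd
  have he : ∀ i j, (M * M : SL11).1 i j = M.1 i 0 * M.1 0 j + M.1 i 1 * M.1 1 j := fun i j => by
    simp [Matrix.mul_apply, Fin.sum_univ_two]
  have hdiag : b * (a + d) = 0 ∧ c * (a + d) = 0 ∧ (a * a + b * c = c * b + d * d) ∧
      (a * a + b * c = 1 ∨ a * a + b * c = -1) := by
    rcases h2 with h | h <;>
    · have e00 := congrArg (fun X : SL11 => (X : Matrix (Fin 2) (Fin 2) (ZMod 11)) 0 0) h
      have e01 := congrArg (fun X : SL11 => (X : Matrix (Fin 2) (Fin 2) (ZMod 11)) 0 1) h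
      have e10 := congrArg (fun X : SL11 => (X : Matrix (Fin 2) (Fin 2) (ZMod 11)) 1 0) h
      have e11 := congrArg (fun X : SL11 => (X : Matrix (Fin 2) (Fin 2) (ZMod 11)) 1 1) h
      simp [Matrix.mul_apply, Fin.sum_univ_two, ← ha, ← hb, ← hc, ← hd] at e00 e01 e10 e11
      refine ⟨by linear_combination e01, by linear_combination e10, by linear_combination e00 - e11, ?_⟩
      first | exact Or.inl e00 | exact Or.inr e00
  obtain ⟨k1, k2, k3, k4⟩ := hdiag
  have htr : a + d = 0 := by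
    by_contra htr
    have hb0 : b = 0 := (mul_eq_zero.1 k1).resolve_right htr
    have hc0 : c = 0 := (mul_eq_zero.1 k2).resolve_right htr
    have had : a = d := by
      have : (a - d) * (a + d) = 0 := by linear_combination k3
      exact sub_eq_zero.1 ((mul_eq_zero.1 this).resolve_right htr)
    have hsc : a = 1 ∨ a = -1 := by
      rw [hb0, hc0, ← had] at hdet
      exact mul_self_eq_one_iff.1 (by linear_combination hdet)
    apply hne
    rcases hsc with hs | hs
    · left; ext i j; fin_cases i <;> fin_cases j <;> simp [← ha, ← hb, ← hc, ← hd, ← had, hb0, hc0, hs]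
    · right; ext i j; fin_cases i <;> fin_cases j <;> simp [← ha, ← hb, ← hc, ← hd, ← had, hb0, hc0, hs]
  have hd' : d = -a := eq_neg_of_add_eq_zero_right htr
  have hbc : b * c = -1 - a * a := by linear_combination -hdet + a * hd'
  have hb0 : b ≠ 0 := by
    intro h0
    have hno : ∀ x : ZMod 11, (0 : ZMod 11) ≠ -1 - x * x := by decide
    exact hno a (by rw [← hbc, h0, zero_mul])
  have e01 : 3 * b * (a * a - 1) = 0 := by
    rcases h3 with h | h <;>
    · have e := congrArg (fun X : SL11 => (X : Matrix (Fin 2) (Fin 2) (ZMod 11)) 0 1) h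
      simp [sD_val, Matrix.SpecialLinearGroup.coe_mul, Matrix.SpecialLinearGroup.coe_neg, Matrix.mul_apply, Fin.sum_univ_two, ← ha, ← hb, ← hc, ← hd, hd'] at e
      have h11 : (11 : ZMod 11) = 0 := by decide
      linear_combination e - 36 * b * hbc + 3 * b * h11
  have ha1 : a = 1 ∨ a = -1 := by
    have h3' : (3 : ZMod 11) ≠ 0 := by decide
    have := (mul_eq_zero.1 e01).resolve_left (mul_ne_zero h3' hb0)
    exact mul_self_eq_one_iff.1 (sub_eq_zero.1 this)
  have hpow : ∀ x : ZMod 11, x ≠ 0 → x * x ^ 9 = 1 := by decide +kernel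
  rcases ha1 with h | h
  · refine ⟨b, hb0, pr_eq_iff.2 (Or.inl ?_)⟩
    have hc' : -2 * b ^ 9 = c := by
      apply mul_left_cancel₀ hb0
      rw [hbc, h]
      linear_combination -2 * hpow b hb0
    ext i j
    fin_cases i <;> fin_cases j <;> simp [sU, if_neg hb0, ← ha, ← hb, ← hc, ← hd, hd', h, ← hc']
  · refine ⟨-b, neg_ne_zero.2 hb0, pr_eq_iff.2 (Or.inr ?_)⟩
    have hc' : -2 * (-b) ^ 9 = -c := by
      apply mul_left_cancel₀ (neg_ne_zero.2 hb0)
      rw [show -b * -c = b * c by ring, hbc, h]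
      linear_combination -2 * hpow (-b) (neg_ne_zero.2 hb0)
    ext i j
    fin_cases i <;> fin_cases j <;>
      simp [sU, if_neg (neg_ne_zero.2 hb0), if_neg hb0, hb0, ← ha, ← hb, ← hc, ← hd, hd', h, hc']

theorem alt_five_facts : ∀ t : A5, t ^ 5 = 1 → t ≠ 1 →
    (Finset.univ.filter (fun a : A5 => a ^ 2 = 1 ∧ a ≠ 1 ∧ (a * t) ^ 3 = 1)).card = 5 := by
  decide +kernel

/-- An icosahedral subgroup through the torus is one of the two standard ones. -/
theorem eq_std {K : Subgroup P11} (hK : Nonempty (K ≃* A5)) (hT : tD ∈ K) :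
    K = L 1 ∨ K = L (-1) := by
  obtain ⟨e⟩ := hK
  have ho : orderOf (e ⟨tD, hT⟩) = 5 := by rw [MulEquiv.orderOf_eq, Subgroup.orderOf_mk, orderOf_tD]
  have hcount := alt_five_facts (e ⟨tD, hT⟩) (orderOf_dvd_iff_pow_eq_one.1 ho.dvd) (fun h => by simp [h] at ho)
  obtain ⟨a, ha⟩ := Finset.card_pos.1 (by rw [hcount]; norm_num :
    0 < (Finset.univ.filter (fun a : A5 => a ^ 2 = 1 ∧ a ≠ 1 ∧ (a * e ⟨tD, hT⟩) ^ 3 = 1)).card)
  obtain ⟨a1, a2, a3⟩ := (Finset.mem_filter.1 ha).2
  obtain ⟨x, rfl⟩ := e.surjective a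
  rw [← map_pow, MulEquiv.map_eq_one_iff] at a1
  rw [← map_mul, ← map_pow, MulEquiv.map_eq_one_iff] at a3
  have x1 : (x : P11) ^ 2 = 1 := congrArg Subtype.val a1
  have x3 : ((x : P11) * tD) ^ 3 = 1 := congrArg Subtype.val a3
  have x2 : (x : P11) ≠ 1 := fun h => a2 (by rw [MulEquiv.map_eq_one_iff]; exact Subtype.ext h)
  obtain ⟨v, hv, hxv⟩ := classify_lift x1 x2 x3
  have hle : L v ≤ K := by
    rw [L, Subgroup.closure_le]
    intro y hy
    rcases hy with rfl | hy
    · exact hT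
    · rw [Set.mem_singleton_iff.1 hy, ← hxv]
      exact x.2
  have hc60 : Nat.card A5 = 60 := by rw [nat_card_alternatingGroup, Nat.card_fin]; rfl
  obtain ⟨r1, r2, r3⟩ := tU_rel hv
  have d2 : 2 ∣ Nat.card (L v) := by
    haveI := Fact.mk Nat.prime_two
    have h := orderOf_dvd_natCard (⟨_, tU_mem v⟩ : L v)
    rwa [Subgroup.orderOf_mk, orderOf_eq_prime r1 r2] at h
  have d5 : 5 ∣ Nat.card (L v) := by
    have h := orderOf_dvd_natCard (⟨_, tD_mem v⟩ : L v)
    rwa [Subgroup.orderOf_mk, orderOf_tD] at h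
  have d3 : 3 ∣ Nat.card (L v) := by
    haveI := Fact.mk Nat.prime_three
    have hne : tU v * tD ≠ 1 := fun h => by
      have hinv : tU v = tD⁻¹ := eq_inv_of_mul_eq_one_left h
      have h' := orderOf_inv tD
      rw [← hinv, orderOf_tD, orderOf_eq_prime r1 r2] at h'
      omega
    have h := orderOf_dvd_natCard (⟨_, mul_mem (tU_mem v) (tD_mem v)⟩ : L v)
    rwa [Subgroup.orderOf_mk, orderOf_eq_prime r3 hne] at h
  have d30 : 30 ∣ Nat.card (L v) :=
    Nat.Coprime.mul_dvd_of_dvd_of_dvd (by norm_num : Nat.Coprime 6 5)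
      (Nat.Coprime.mul_dvd_of_dvd_of_dvd (by norm_num : Nat.Coprime 2 3) d2 d3) d5
  have hK60 : Nat.card K = 60 := by rw [Nat.card_congr e.toEquiv, hc60]
  have hmap : ((L v).subgroupOf K).map e.toMonoidHom = ⊤ := by
    set M := ((L v).subgroupOf K).map e.toMonoidHom with hM
    have hcM : Nat.card M = Nat.card (L v) := by
      rw [hM, Subgroup.card_map_of_injective e.injective,
        Nat.card_congr (Subgroup.subgroupOfEquivOfLe hle).toEquiv]
    have hd : Nat.card M ∣ 60 := hc60 ▸ Subgroup.card_subgroup_dvd_card M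
    obtain ⟨k, hk⟩ := hcM ▸ d30
    rw [hk] at hd
    have : k ∣ 2 := Nat.dvd_of_mul_dvd_mul_left (by norm_num : 0 < 30) hd
    rcases (Nat.dvd_prime Nat.prime_two).1 this with rfl | rfl
    · exfalso
      have hidx : M.index = 2 := by
        have := Subgroup.index_mul_card M
        rw [hk, hc60] at this
        omega
      haveI : M.Normal := Subgroup.normal_of_index_eq_two hidx
      rcases Subgroup.Normal.eq_bot_or_eq_top (H := M) inferInstance with h | h
      · rw [h, Subgroup.card_bot] at hk; omega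
      · rw [h, Subgroup.index_top] at hidx; omega
    · exact Subgroup.eq_top_of_card_eq M (by rw [hk, hc60])
  have hKL : K ≤ L v := by
    intro y hy
    have : e ⟨y, hy⟩ ∈ ((L v).subgroupOf K).map e.toMonoidHom := hmap ▸ Subgroup.mem_top _
    obtain ⟨z, hz, hze⟩ := this
    have hzy : z = ⟨y, hy⟩ := e.injective hze
    rw [hzy] at hz
    exact hz
  rw [le_antisymm hKL hle]
  exact L_eq_cases hv

theorem card_P11 : Nat.card P11 = 660 := S2542.card_psl_eleven (by rw [ZMod.card])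

theorem isSimple : IsSimpleGroup P11 :=
  Linear.isSimpleGroup_PSL_fin (F := ZMod 11) le_rfl (fun _ => by rw [Nat.card_zmod]; norm_num)

/-- Subgroups of order five of an icosahedral group are conjugate there. -/
theorem conj_into_torus {K : Subgroup P11} (hK : Nat.card K = 60) {x : P11} (hx : x ∈ K)
    (hox : orderOf x = 5) {y : P11} (hy : y ∈ K) (hoy : orderOf y = 5) :
    ∃ h ∈ K, h * x * h⁻¹ ∈ Subgroup.zpowers y := by
  haveI := Fact.mk (show Nat.Prime 5 by norm_num)
  have hnd : ∀ z : K, orderOf z = 5 → ¬ 5 ∣ (Subgroup.zpowers z).index := fun z hz h => by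
    have := Subgroup.index_mul_card (Subgroup.zpowers z)
    rw [Nat.card_zpowers, hz, hK] at this
    omega
  have hp : ∀ z : K, orderOf z = 5 → IsPGroup 5 (Subgroup.zpowers z) := fun z hz =>
    IsPGroup.of_card (n := 1) (by rw [Nat.card_zpowers, hz, pow_one])
  have hox' : orderOf (⟨x, hx⟩ : K) = 5 := by rw [Subgroup.orderOf_mk, hox]
  have hoy' : orderOf (⟨y, hy⟩ : K) = 5 := by rw [Subgroup.orderOf_mk, hoy]
  let S : Sylow 5 K := (hp _ hox').toSylow (hnd _ hox')
  let T : Sylow 5 K := (hp _ hoy').toSylow (hnd _ hoy')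
  obtain ⟨g, hg⟩ := MulAction.exists_smul_eq K S T
  refine ⟨g, g.2, ?_⟩
  have hm : MulAut.conj g • (⟨x, hx⟩ : K) ∈ (T : Subgroup K) := by
    rw [← hg]
    exact Subgroup.smul_mem_pointwise_smul _ _ (S : Subgroup K) (Subgroup.mem_zpowers _)
  obtain ⟨i, hi⟩ := Subgroup.mem_zpowers_iff.1 hm
  refine ⟨i, ?_⟩
  have := congrArg Subtype.val hi
  simpa [MulAut.smul_def, MulAut.conj_apply] using this

theorem mem_smul_conj {K : Subgroup P11} {g x : P11} (hx : x ∈ K) :
    g * x * g⁻¹ ∈ MulAut.conj g • K :=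
  Subgroup.smul_mem_pointwise_smul _ _ K hx

theorem nonempty_smul {K : Subgroup P11} (hK : Nonempty (K ≃* A5)) (g : P11) :
    Nonempty ((MulAut.conj g • K : Subgroup P11) ≃* A5) := by
  obtain ⟨e⟩ := hK
  exact ⟨(Subgroup.equivSMul (MulAut.conj g) K).symm.trans e⟩

theorem exists_conj_std {K : Subgroup P11} (hK : Nonempty (K ≃* A5)) :
    ∃ g : P11, MulAut.conj g • K = L 1 ∨ MulAut.conj g • K = L (-1) := by
  haveI := Fact.mk (show Nat.Prime 5 by norm_num)
  obtain ⟨e⟩ := id hK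
  have hK60 : Nat.card K = 60 := by
    rw [Nat.card_congr e.toEquiv, nat_card_alternatingGroup, Nat.card_fin]; rfl
  obtain ⟨x, hxo⟩ := exists_prime_orderOf_dvd_card' (G := K) 5 (by rw [hK60]; norm_num)
  have htop : Nat.card (⊤ : Subgroup P11) = 660 := by rw [Subgroup.card_top, card_P11]
  have hnd : ∀ z : P11, orderOf z = 5 → ¬ 5 ∣ (Subgroup.zpowers z).index := fun z hz h => by
    have := Subgroup.index_mul_card (Subgroup.zpowers z)
    rw [Nat.card_zpowers, hz, card_P11] at this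
    omega
  have hp : ∀ z : P11, orderOf z = 5 → IsPGroup 5 (Subgroup.zpowers z) := fun z hz =>
    IsPGroup.of_card (n := 1) (by rw [Nat.card_zpowers, hz, pow_one])
  have hox : orderOf (x : P11) = 5 := by rw [Subgroup.orderOf_coe, hxo]
  let S : Sylow 5 P11 := (hp _ hox).toSylow (hnd _ hox)
  let T : Sylow 5 P11 := (hp _ orderOf_tD).toSylow (hnd _ orderOf_tD)
  obtain ⟨g, hg⟩ := MulAction.exists_smul_eq P11 S T
  refine ⟨g, eq_std (nonempty_smul hK g) ?_⟩
  have hm : tD ∈ MulAut.conj g • (S : Subgroup P11) := by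
    rw [← Sylow.coe_subgroup_smul]
    exact hg.symm ▸ Subgroup.mem_zpowers tD
  exact Subgroup.pointwise_smul_le_pointwise_smul_iff.2 (Subgroup.zpowers_le.2 x.2) hm

/-- The outer diagonal automorphism on `SL₂(11)`. -/
def flipSL : SL11 →* SL11 where
  toFun M := ⟨!![M.1 0 0, -M.1 0 1; -M.1 1 0, M.1 1 1], by
    have := M.2
    rw [Matrix.det_fin_two] at this
    rw [Matrix.det_fin_two_of]
    linear_combination this⟩
  map_one' := by ext i j; fin_cases i <;> fin_cases j <;> simp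
  map_mul' A B := Subtype.ext (by
    show !![(A.1 * B.1) 0 0, -(A.1 * B.1) 0 1; -(A.1 * B.1) 1 0, (A.1 * B.1) 1 1] =
      !![A.1 0 0, -A.1 0 1; -A.1 1 0, A.1 1 1] * !![B.1 0 0, -B.1 0 1; -B.1 1 0, B.1 1 1]
    ext i j
    fin_cases i <;> fin_cases j <;> simp [Matrix.mul_apply, Fin.sum_univ_two] <;> ring)

theorem flipSL_val (M : SL11) :
    (flipSL M : Matrix (Fin 2) (Fin 2) (ZMod 11)) = !![M.1 0 0, -M.1 0 1; -M.1 1 0, M.1 1 1] := rfl

theorem flipSL_flipSL (M : SL11) : flipSL (flipSL M) = M := by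
  ext i j; fin_cases i <;> fin_cases j <;> simp [flipSL_val]

/-- The automorphism of `PSL₂(11)`. -/
noncomputable def flipP : P11 ≃* P11 :=
  QuotientGroup.congr _ _
    (MonoidHom.toMulEquiv flipSL flipSL (MonoidHom.ext flipSL_flipSL) (MonoidHom.ext flipSL_flipSL)) (by
    refine le_antisymm ?_ fun z hz => ⟨flipSL z, ?_, flipSL_flipSL z⟩
    · rintro _ ⟨z, hz, rfl⟩
      refine Subgroup.mem_center_iff.2 fun y => ?_
      show y * flipSL z = flipSL z * y
      rw [← flipSL_flipSL y, ← map_mul, ← map_mul, Subgroup.mem_center_iff.1 hz]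
    · refine Subgroup.mem_center_iff.2 fun y => ?_
      rw [← flipSL_flipSL y, ← map_mul, ← map_mul, Subgroup.mem_center_iff.1 hz])

theorem flipP_pr (M : SL11) : flipP (pr M) = pr (flipSL M) := rfl

theorem flip_facts : flipSL sD = sD ∧ ∀ u : ZMod 11, flipSL (sU u) = sU (-u) := by decide +kernel

theorem map_flip (u : ZMod 11) : (L u).map flipP.toMonoidHom = L (-u) := by
  rw [L, MonoidHom.map_closure, Set.image_insert_eq, Set.image_singleton]
  show Subgroup.closure {flipP (pr sD), flipP (pr (sU u))} = _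
  rw [flipP_pr, flipP_pr, flip_facts.1, flip_facts.2]
  rfl

theorem nonempty_std : Nonempty (L 1 ≃* A5) ∧ Nonempty (L (-1) ≃* A5) := by
  have key : ∀ u : ZMod 11, Nonempty (L u ≃* A5) → Nonempty (L (-u) ≃* A5) := fun u ⟨e⟩ =>
    map_flip u ▸ ⟨((L u).equivMapOfInjective _ flipP.injective).symm.trans e⟩
  obtain ⟨f, hf⟩ := S2542.exists_alt_five (F := ZMod 11) (by rw [ZMod.card])
  obtain ⟨g, hg⟩ := exists_conj_std (K := f.range) ⟨(MonoidHom.ofInjective hf).symm⟩
  have hg' := nonempty_smul (K := f.range) ⟨(MonoidHom.ofInjective hf).symm⟩ g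
  rcases hg with h | h <;> rw [h] at hg'
  · exact ⟨hg', key 1 hg'⟩
  · exact ⟨by have := key (-1) hg'; rwa [neg_neg] at this, hg'⟩

theorem L_ne : L 1 ≠ L (-1) := by
  intro heq
  obtain ⟨e⟩ := nonempty_std.1
  have ho : orderOf (e ⟨tD, tD_mem 1⟩) = 5 := by
    rw [MulEquiv.orderOf_eq, Subgroup.orderOf_mk, orderOf_tD]
  have hcount := alt_five_facts (e ⟨tD, tD_mem 1⟩) (orderOf_dvd_iff_pow_eq_one.1 ho.dvd) (fun h => by simp [h] at ho)
  have hmem : ∀ v : ZMod 11, v ≠ 0 → tU v ∈ L 1 := fun v hv =>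
    (tU_mem_class hv).elim id fun h => heq ▸ h
  let φ : {v : ZMod 11 // v ≠ 0} → A5 := fun v => e ⟨tU v, hmem v v.2⟩
  have hinj : Function.Injective φ := fun v w h => by
    have := congrArg Subtype.val (e.injective h)
    exact Subtype.ext (sU_inj v w v.2 w.2 (pr_eq_iff.1 this))
  have hsub : Finset.univ.image φ ⊆
      Finset.univ.filter (fun a : A5 => a ^ 2 = 1 ∧ a ≠ 1 ∧ (a * e ⟨tD, tD_mem 1⟩) ^ 3 = 1) := by
    intro a ha
    obtain ⟨v, -, rfl⟩ := Finset.mem_image.1 ha
    obtain ⟨r1, r2, r3⟩ := tU_rel v.2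
    refine Finset.mem_filter.2 ⟨Finset.mem_univ _, ?_, ?_, ?_⟩
    · rw [← map_pow, MulEquiv.map_eq_one_iff]; exact Subtype.ext r1
    · intro h; rw [MulEquiv.map_eq_one_iff] at h; exact r2 (congrArg Subtype.val h)
    · rw [← map_mul, ← map_pow, MulEquiv.map_eq_one_iff]; exact Subtype.ext r3
  have := Finset.card_le_card hsub
  rw [hcount, Finset.card_image_of_injective _ hinj, Finset.card_univ] at this
  have h10 : Fintype.card {v : ZMod 11 // v ≠ 0} = 10 := by decide +kernel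
  omega

theorem monomial_conj : ∀ x u : ZMod 11, x ≠ 0 → u = 1 ∨ u = -1 → ∀ g : Fin 2,
    ∃ i : Fin 5,
      (![!![x, 0; 0, x ^ 9], !![0, x; -x ^ 9, 0]] g) * (sU u).1 =
          (sU (5 ^ (i : ℕ) * u)).1 * (![!![x, 0; 0, x ^ 9], !![0, x; -x ^ 9, 0]] g) ∨
      (![!![x, 0; 0, x ^ 9], !![0, x; -x ^ 9, 0]] g) * (sU u).1 =
          -((sU (5 ^ (i : ℕ) * u)).1 * (![!![x, 0; 0, x ^ 9], !![0, x; -x ^ 9, 0]] g)) := by
  decide +kernel

theorem normalizer_torus_le {g : P11} (hg : g * tD * g⁻¹ ∈ Subgroup.zpowers tD) {u : ZMod 11}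
    (hu : u = 1 ∨ u = -1) : MulAut.conj g • L u ≤ L u := by
  obtain ⟨M, rfl⟩ := pr_surjective g
  obtain ⟨k, hk5, hk⟩ : ∃ k < 5, pr M * tD = tD ^ k * pr M := by
    obtain ⟨k, hk⟩ := Subgroup.mem_zpowers_iff.1 hg
    refine ⟨(k % (5 : ℤ)).toNat, by omega, ?_⟩
    have e : tD ^ (k % (5 : ℤ)).toNat = tD ^ k := by
      rw [← zpow_natCast, Int.toNat_of_nonneg (Int.emod_nonneg _ (by norm_num))]
      conv_rhs => rw [← zpow_mod_orderOf, orderOf_tD]
      rfl
    rw [e, hk, inv_mul_cancel_right]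
  obtain ⟨x, j, hx, hM⟩ : ∃ (x : ZMod 11) (j : Fin 2), x ≠ 0 ∧
      M.1 = ![!![x, 0; 0, x ^ 9], !![0, x; -x ^ 9, 0]] j := by
    rw [tD, ← map_pow, ← map_mul, ← map_mul, pr_eq_iff] at hk
    have hdet := M.2
    rw [Matrix.det_fin_two] at hdet
    have hDk : ((sD ^ k : SL11) : Matrix (Fin 2) (Fin 2) (ZMod 11)) = !![4 ^ k, 0; 0, 3 ^ k] := by
      interval_cases k <;> decide +kernel
    obtain ⟨ε, hε, h00, h01, h10, h11⟩ : ∃ ε : ZMod 11, (ε = 1 ∨ ε = -1) ∧
        4 ^ k * M.1 0 0 = ε * (M.1 0 0 * 4) ∧ 4 ^ k * M.1 0 1 = ε * (M.1 0 1 * 3) ∧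
        3 ^ k * M.1 1 0 = ε * (M.1 1 0 * 4) ∧ 3 ^ k * M.1 1 1 = ε * (M.1 1 1 * 3) := by
      rcases hk with h | h
      · refine ⟨1, Or.inl rfl, ?_⟩
        have key := fun i j => congrArg (fun X : SL11 => (X : Matrix (Fin 2) (Fin 2) (ZMod 11)) i j) h
        refine ⟨?_, ?_, ?_, ?_⟩
        · simpa [hDk, sD_val, Matrix.SpecialLinearGroup.coe_mul, Matrix.SpecialLinearGroup.coe_neg, Matrix.mul_apply, Fin.sum_univ_two] using key 0 0
        · simpa [hDk, sD_val, Matrix.SpecialLinearGroup.coe_mul, Matrix.SpecialLinearGroup.coe_neg, Matrix.mul_apply, Fin.sum_univ_two] using key 0 1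
        · simpa [hDk, sD_val, Matrix.SpecialLinearGroup.coe_mul, Matrix.SpecialLinearGroup.coe_neg, Matrix.mul_apply, Fin.sum_univ_two] using key 1 0
        · simpa [hDk, sD_val, Matrix.SpecialLinearGroup.coe_mul, Matrix.SpecialLinearGroup.coe_neg, Matrix.mul_apply, Fin.sum_univ_two] using key 1 1
      · refine ⟨-1, Or.inr rfl, ?_⟩
        have key := fun i j => congrArg (fun X : SL11 => (X : Matrix (Fin 2) (Fin 2) (ZMod 11)) i j) h
        refine ⟨?_, ?_, ?_, ?_⟩
        · simpa [hDk, sD_val, Matrix.SpecialLinearGroup.coe_mul, Matrix.SpecialLinearGroup.coe_neg, Matrix.mul_apply, Fin.sum_univ_two] using key 0 0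
        · simpa [hDk, sD_val, Matrix.SpecialLinearGroup.coe_mul, Matrix.SpecialLinearGroup.coe_neg, Matrix.mul_apply, Fin.sum_univ_two] using key 0 1
        · simpa [hDk, sD_val, Matrix.SpecialLinearGroup.coe_mul, Matrix.SpecialLinearGroup.coe_neg, Matrix.mul_apply, Fin.sum_univ_two] using key 1 0
        · simpa [hDk, sD_val, Matrix.SpecialLinearGroup.coe_mul, Matrix.SpecialLinearGroup.coe_neg, Matrix.mul_apply, Fin.sum_univ_two] using key 1 1
    have hε0 : ε ≠ 0 := by rcases hε with rfl | rfl <;> decide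
    have h01z : M.1 0 0 = 0 ∨ M.1 0 1 = 0 := by
      by_contra hc
      push Not at hc
      have a1 : (4 : ZMod 11) ^ k = ε * 4 := mul_right_cancel₀ hc.1 (by linear_combination h00)
      have a2 : (4 : ZMod 11) ^ k = ε * 3 := mul_right_cancel₀ hc.2 (by linear_combination h01)
      exact hε0 (by linear_combination a2 - a1)
    have h23z : M.1 1 0 = 0 ∨ M.1 1 1 = 0 := by
      by_contra hc
      push Not at hc
      have a1 : (3 : ZMod 11) ^ k = ε * 4 := mul_right_cancel₀ hc.1 (by linear_combination h10)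
      have a2 : (3 : ZMod 11) ^ k = ε * 3 := mul_right_cancel₀ hc.2 (by linear_combination h11)
      exact hε0 (by linear_combination a2 - a1)
    have hpow : ∀ x : ZMod 11, x ≠ 0 → x * x ^ 9 = 1 := by decide +kernel
    rcases h01z with h0 | h0 <;> rcases h23z with h2 | h2
    · simp [h0, h2] at hdet
    · have hne : M.1 0 1 ≠ 0 := fun h => by simp [h0, h] at hdet
      refine ⟨M.1 0 1, 1, hne, ?_⟩
      have : M.1 1 0 = -(M.1 0 1) ^ 9 := mul_left_cancel₀ hne
        (by rw [h0, h2] at hdet; linear_combination -hdet + hpow _ hne)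
      ext i j; fin_cases i <;> fin_cases j <;> simp [h0, h2, this]
    · have hne : M.1 0 0 ≠ 0 := fun h => by simp [h0, h] at hdet
      refine ⟨M.1 0 0, 0, hne, ?_⟩
      have : M.1 1 1 = (M.1 0 0) ^ 9 := mul_left_cancel₀ hne
        (by rw [h0, h2] at hdet; linear_combination hdet - hpow _ hne)
      ext i j; fin_cases i <;> fin_cases j <;> simp [h0, h2, this]
    · simp [h0, h2] at hdet
  obtain ⟨i, hi⟩ := monomial_conj x u hx hu j
  rw [← hM] at hi
  refine Subgroup.map_le_iff_le_comap.2 ?_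
  rw [L, Subgroup.closure_le]
  intro y hy
  show pr M * y * (pr M)⁻¹ ∈ L u
  rcases hy with rfl | hy
  · rw [show pr M * tD * (pr M)⁻¹ = tD ^ k by rw [hk, mul_inv_cancel_right]]
    exact pow_mem (tD_mem u) k
  · rw [Set.mem_singleton_iff.1 hy]
    have e : pr M * tU u = tU (5 ^ (i : ℕ) * u) * pr M := by
      rw [tU, tU, ← map_mul, ← map_mul, pr_eq_iff]
      rcases hi with h | h
      · exact Or.inl (Subtype.ext h.symm)
      · refine Or.inr (Subtype.ext ?_)
        show _ = -(M * sU u : SL11).1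
        rw [Matrix.SpecialLinearGroup.coe_mul, Matrix.SpecialLinearGroup.coe_mul, h, neg_neg]
    rw [e, mul_inv_cancel_right]
    exact tU_pow_mem u i

theorem not_conj (g : P11) : MulAut.conj g • L 1 ≠ L (-1) := by
  intro hg
  obtain ⟨e⟩ := nonempty_std.2
  have h60 : Nat.card (L (-1)) = 60 := by
    rw [Nat.card_congr e.toEquiv, nat_card_alternatingGroup, Nat.card_fin]; rfl
  have hm : g * tD * g⁻¹ ∈ L (-1) := hg ▸ mem_smul_conj (tD_mem 1)
  have ho : orderOf (g * tD * g⁻¹) = 5 :=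
    ((MulAut.conj g).orderOf_eq tD).trans orderOf_tD
  obtain ⟨h, hh, hht⟩ := conj_into_torus h60 hm ho (tD_mem (-1)) orderOf_tD
  have hgt : h * g * tD * (h * g)⁻¹ ∈ Subgroup.zpowers tD := by
    simpa [mul_assoc, _root_.mul_inv_rev] using hht
  have hle := normalizer_torus_le hgt (u := 1) (Or.inl rfl)
  have heq : MulAut.conj (h * g) • L 1 = L (-1) := by
    rw [map_mul, mul_smul, hg]
    refine le_antisymm ?_ ?_
    · rintro _ ⟨y, hy, rfl⟩
      exact mul_mem (mul_mem hh hy) (inv_mem hh)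
    · intro y hy
      refine ⟨h⁻¹ * y * h, mul_mem (mul_mem (inv_mem hh) hy) hh, ?_⟩
      simp [MulAut.conj_apply, mul_assoc]
  rw [heq] at hle
  obtain ⟨e1⟩ := nonempty_std.1
  exact L_ne (Subgroup.eq_of_le_of_card_ge hle
    (by rw [Nat.card_congr e.toEquiv, Nat.card_congr e1.toEquiv])).symm

theorem ncard_conjugates {K : Subgroup P11} (hK : Nonempty (K ≃* A5)) :
    (Set.range fun g : P11 => MulAut.conj g • K).ncard = 11 := by
  letI : MulAction P11 (Subgroup P11) := MulAction.compHom _ (MulAut.conj : P11 →* MulAut P11)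
  have horb : MulAction.orbit P11 K = Set.range fun g : P11 => MulAut.conj g • K := rfl
  rw [← horb, ← MulAction.index_stabilizer]
  obtain ⟨e⟩ := hK
  have h60 : Nat.card K = 60 := by
    rw [Nat.card_congr e.toEquiv, nat_card_alternatingGroup, Nat.card_fin]; rfl
  have hle : K ≤ MulAction.stabilizer P11 K := fun h hh => by
    show MulAut.conj h • K = K
    refine le_antisymm ?_ ?_
    · rintro _ ⟨y, hy, rfl⟩
      exact mul_mem (mul_mem hh hy) (inv_mem hh)
    · intro y hy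
      refine ⟨h⁻¹ * y * h, mul_mem (mul_mem (inv_mem hh) hy) hh, ?_⟩
      simp [MulAut.conj_apply, mul_assoc]
  have hidx : K.index = 11 := by
    have := Subgroup.index_mul_card K
    rw [h60, card_P11] at this
    omega
  have hd := hidx ▸ Subgroup.index_dvd_of_le hle
  rcases (Nat.dvd_prime (by norm_num)).1 hd with h | h
  · exfalso
    haveI := isSimple
    have htop := Subgroup.index_eq_one.1 h
    have hn : K.Normal := ⟨fun y hy g => by
      have hs : MulAut.conj g • K = K := (htop ▸ Subgroup.mem_top g : g ∈ MulAction.stabilizer P11 K)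
      exact hs ▸ mem_smul_conj hy⟩
    rcases hn.eq_bot_or_eq_top with hb | hb
    · rw [hb, Subgroup.card_bot] at h60; omega
    · rw [hb, Subgroup.index_top] at hidx; omega
  · exact h

theorem main :
    Nat.card {H : Subgroup P11 // Nonempty (H ≃* A5)} = 22 ∧
    ∃ H K : Subgroup P11, Nonempty (H ≃* A5) ∧ Nonempty (K ≃* A5) ∧
      (∀ g : P11, MulAut.conj g • H ≠ K) ∧
      ∀ J : Subgroup P11, Nonempty (J ≃* A5) →
        ∃ g : P11, MulAut.conj g • J = H ∨ MulAut.conj g • J = K := by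
  refine ⟨?_, L 1, L (-1), nonempty_std.1, nonempty_std.2, not_conj, fun J hJ => exists_conj_std hJ⟩
  have hset : {H : Subgroup P11 | Nonempty (H ≃* A5)} =
      (Set.range fun g : P11 => MulAut.conj g • L 1) ∪ (Set.range fun g : P11 => MulAut.conj g • L (-1)) := by
    ext J
    constructor
    · intro hJ
      obtain ⟨g, hg | hg⟩ := exists_conj_std hJ
      · exact Or.inl ⟨g⁻¹, by dsimp only; rw [← hg, ← mul_smul, ← map_mul, inv_mul_cancel, map_one, one_smul]⟩
      · exact Or.inr ⟨g⁻¹, by dsimp only; rw [← hg, ← mul_smul, ← map_mul, inv_mul_cancel, map_one, one_smul]⟩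
    · rintro (⟨g, rfl⟩ | ⟨g, rfl⟩)
      · exact nonempty_smul nonempty_std.1 g
      · exact nonempty_smul nonempty_std.2 g
  have hdis : Disjoint (Set.range fun g : P11 => MulAut.conj g • L 1)
      (Set.range fun g : P11 => MulAut.conj g • L (-1)) := by
    rw [Set.disjoint_left]
    rintro _ ⟨g, rfl⟩ ⟨h, hh⟩
    dsimp only at hh
    refine not_conj (h⁻¹ * g) ?_
    rw [map_mul, mul_smul, ← hh, ← mul_smul, ← map_mul, inv_mul_cancel, map_one, one_smul]
  show Nat.card ({H : Subgroup P11 | Nonempty (H ≃* A5)} : Set (Subgroup P11)) = 22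
  rw [Nat.card_coe_set_eq, hset, Set.ncard_union_eq hdis, ncard_conjugates nonempty_std.1,
    ncard_conjugates nonempty_std.2]

end Cfsg.Agent.H56.PSLEleven
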