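import Mathlib
import Cfsg.Agent.H56.FormsTwo

/-! The symmetric group of degree `2 r + 2` acting on the even-subset module. -/

set_option autoImplicit false

namespace Cfsg.Agent.H56

open Finset

/-- The points permuted. -/
abbrev Pts (r : ℕ) : Type := (Fin r ⊕ Fin r) ⊕ Bool

/-- Subsets of the points as vectors. -/
abbrev Sub2 (r : ℕ) : Type := Pts r → ZMod 2

variable {r : ℕ}

/-- Size of a subset. -/
def wt (x : Sub2 r) : ℕ := ∑ i, (x i).val

/-- Half the size, modulo two. -/
def qhalf (x : Sub2 r) : ZMod 2 := ((wt x / 2 : ℕ) : ZMod 2)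

/-- The common part, modulo two. -/
def meet2 (x y : Sub2 r) : ZMod 2 := ∑ i, x i * y i

theorem wt_cast (x : Sub2 r) : (wt x : ZMod 2) = ∑ i, x i := by
  simp [wt]

theorem wt_add (x y : Sub2 r) : wt (x + y) + 2 * wt (x * y) = wt x + wt y := by
  simp only [wt, Finset.mul_sum, ← Finset.sum_add_distrib]
  exact Finset.sum_congr rfl fun i _ => (by decide : ∀ a b : ZMod 2, (a + b).val + 2 * (a * b).val = a.val + b.val) (x i) (y i)

theorem even_wt {x : Sub2 r} (hx : ∑ i, x i = 0) : 2 ∣ wt x := by
  rw [← ZMod.natCast_eq_zero_iff_even.trans even_iff_two_dvd, wt_cast, hx]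

theorem qhalf_add (x y : Sub2 r) (hx : ∑ i, x i = 0) (hy : ∑ i, y i = 0) :
    qhalf (x + y) = qhalf x + qhalf y + meet2 x y := by
  obtain ⟨a, ha⟩ := even_wt hx
  obtain ⟨b, hb⟩ := even_wt hy
  have h := wt_add x y
  rw [ha, hb] at h
  have hc : meet2 x y = (wt (x * y) : ZMod 2) := by rw [wt_cast]; rfl
  rw [hc]
  simp only [qhalf, ha, hb]
  rw [show wt (x + y) / 2 = a + b - wt (x * y) by omega, Nat.cast_sub (by omega)]
  rw [Nat.mul_div_cancel_left _ two_pos, Nat.mul_div_cancel_left _ two_pos]
  push_cast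
  linear_combination (-(1 : ZMod 2)) * CharTwo.add_self_eq_zero ((wt (x * y) : ℕ) : ZMod 2)

/-- The vector of all points. -/
def allOne (r : ℕ) : Sub2 r := fun _ => 1

theorem card_pts (r : ℕ) : Fintype.card (Pts r) = 2 * r + 2 := by
  simp; omega

theorem wt_compl (x : Sub2 r) : wt (x + allOne r) + wt x = 2 * r + 2 := by
  rw [← card_pts r, ← Finset.card_univ, Finset.card_eq_sum_ones, wt, wt, ← Finset.sum_add_distrib]
  exact Finset.sum_congr rfl fun i _ => (by decide : ∀ a : ZMod 2, (a + 1).val + a.val = 1) (x i)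

theorem sum_allOne (r : ℕ) : ∑ i, allOne r i = 0 := by
  simp [allOne]
  rw [CharTwo.add_self_eq_zero]; rfl

theorem qhalf_compl (hr : Odd r) (x : Sub2 r) (hx : ∑ i, x i = 0) :
    qhalf (x + allOne r) = qhalf x := by
  obtain ⟨a, ha⟩ := even_wt hx
  have h := wt_compl x
  obtain ⟨j, rfl⟩ := hr
  unfold qhalf
  rw [show wt (x + allOne _) / 2 = 2 * (j + 1) - a by omega, ha, Nat.mul_div_cancel_left _ two_pos,
    Nat.cast_sub (by omega), Nat.cast_mul, show ((2 : ℕ) : ZMod 2) = 0 from rfl, zero_mul, zero_sub,
    CharTwo.neg_eq]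

/-- The last point. -/
def lastPt (r : ℕ) : Pts r := .inr true

/-- Normalisation to the representative avoiding the last point. -/
def norm2 (x : Sub2 r) : Sub2 r := x + x (lastPt r) • allOne r

theorem norm2_cases (x : Sub2 r) : norm2 x = x ∨ norm2 x = x + allOne r := by
  rcases (by decide : ∀ x : ZMod 2, x = 0 ∨ x = 1) (x (lastPt r)) with h | h
  · left; rw [norm2, h, zero_smul, add_zero]
  · right; rw [norm2, h, one_smul]

/-- The representatives of the even subsets modulo complementation. -/
def reps (r : ℕ) : Submodule (ZMod 2) (Sub2 r) where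
  carrier := {x | ∑ i, x i = 0 ∧ x (lastPt r) = 0}
  zero_mem' := ⟨by simp, rfl⟩
  add_mem' := fun {a b} ha hb =>
    ⟨by simp only [Pi.add_apply, Finset.sum_add_distrib, ha.1, hb.1, add_zero], by simp [ha.2, hb.2]⟩
  smul_mem' := fun c {a} ha =>
    ⟨by simp only [Pi.smul_apply, ← Finset.smul_sum, ha.1, smul_zero], by simp [ha.2]⟩

theorem norm2_mem (x : Sub2 r) (hx : ∑ i, x i = 0) : norm2 x ∈ reps r := by
  refine ⟨?_, ?_⟩
  · simp only [norm2, Pi.add_apply, Pi.smul_apply, Finset.sum_add_distrib, ← Finset.smul_sum,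
      sum_allOne, hx, smul_zero, add_zero]
  · simp [norm2, allOne, CharTwo.add_self_eq_zero]

theorem qhalf_norm2 (hr : Odd r) (x : Sub2 r) (hx : ∑ i, x i = 0) : qhalf (norm2 x) = qhalf x := by
  rcases norm2_cases x with h | h <;> rw [h]
  exact qhalf_compl hr x hx

/-- The twisted permutation action on representatives. -/
def act (σ : Equiv.Perm (Pts r)) : Sub2 r →ₗ[ZMod 2] Sub2 r where
  toFun x := norm2 (fun i => x (σ.symm i))
  map_add' x y := by funext i; simp [norm2, allOne]; ring
  map_smul' c x := by funext i; simp [norm2, allOne]; ring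

theorem sum_perm (σ : Equiv.Perm (Pts r)) (x : Sub2 r) : ∑ i, x (σ.symm i) = ∑ i, x i :=
  Equiv.sum_comp σ.symm x

theorem act_mem (σ : Equiv.Perm (Pts r)) {x : Sub2 r} (hx : x ∈ reps r) : act σ x ∈ reps r :=
  norm2_mem _ ((sum_perm σ x).trans hx.1)

theorem act_one {x : Sub2 r} (hx : x ∈ reps r) : act 1 x = x := by
  funext i
  simp [act, norm2, show (1 : Equiv.Perm (Pts r)).symm = 1 from rfl, hx.2]

theorem act_mul (σ τ : Equiv.Perm (Pts r)) (x : Sub2 r) : act (σ * τ) x = act σ (act τ x) := by
  funext i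
  simp only [act, LinearMap.coe_mk, AddHom.coe_mk, norm2, allOne, Pi.add_apply, Pi.smul_apply,
    smul_eq_mul, mul_one]
  simp only [show ∀ j, (σ * τ).symm j = τ.symm (σ.symm j) from fun j => rfl]
  linear_combination - CharTwo.add_self_eq_zero (x (τ.symm (lastPt r)))

theorem qhalf_act (hr : Odd r) (σ : Equiv.Perm (Pts r)) {x : Sub2 r} (hx : x ∈ reps r) :
    qhalf (act σ x) = qhalf x := by
  show qhalf (norm2 _) = _
  rw [qhalf_norm2 hr _ ((sum_perm σ x).trans hx.1)]
  unfold qhalf wt
  rw [Equiv.sum_comp σ.symm (fun i => (x i).val)]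

theorem act_faithful (hr : 2 ≤ r) (σ : Equiv.Perm (Pts r)) (h : ∀ x ∈ reps r, act σ x = x) : σ = 1 := by
  have hinv : ∀ a b : Pts r, a ≠ b → σ.symm a = a ∨ σ.symm a = b := by
    intro a b hab
    let x : Sub2 r := Pi.single a 1 + Pi.single b 1
    have hx : ∑ i, x i = 0 := by
      simp [x, Finset.sum_add_distrib, CharTwo.add_self_eq_zero]
    have hw : wt x = 2 := by
      have h1 : ∀ c : Pts r, wt (Pi.single c (1 : ZMod 2)) = 1 := fun c => by
        simp [wt, Pi.single_apply, apply_ite ZMod.val, show ZMod.val (1 : ZMod 2) = 1 from rfl]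
      have h0 : (Pi.single a (1 : ZMod 2) : Sub2 r) * Pi.single b 1 = 0 := by
        funext i
        by_cases hi : i = a
        · subst hi; simp [Pi.single_apply, hab]
        · simp [Pi.single_apply, hi]
      have := wt_add (Pi.single a (1 : ZMod 2)) (Pi.single b 1)
      rw [h0, h1, h1] at this
      simpa [x, wt] using this
    have hy := h (norm2 x) (norm2_mem x hx)
    have hlin : act σ (allOne r) = 0 := by
      funext i; simp [act, norm2, allOne, CharTwo.add_self_eq_zero]
    have hy' : norm2 (fun i => x (σ.symm i)) = norm2 x := by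
      rcases norm2_cases x with hn | hn <;> rw [hn] at hy ⊢
      · exact hy
      · rw [map_add, hlin, add_zero] at hy; exact hy
    have hwy : wt (fun i => x (σ.symm i)) = 2 :=
      (Equiv.sum_comp σ.symm (fun i => (x i).val)).trans hw
    have hno : ∀ z z' : Sub2 r, wt z = 2 → wt z' = 2 → z = z' + allOne r → False := by
      intro z z' hz hz' he
      subst he
      have := wt_compl z'
      omega
    have hxy : (fun i => x (σ.symm i)) = x := by
      rcases norm2_cases (fun i => x (σ.symm i)) with h1 | h1 <;>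
        rcases norm2_cases x with h2 | h2 <;> rw [h1, h2] at hy'
      · exact hy'
      · exact (hno _ _ hwy hw hy').elim
      · exact (hno _ _ hw hwy hy'.symm).elim
      · exact add_right_cancel hy'
    have hxa : x (σ.symm a) = 1 := by
      rw [congrFun hxy a]
      simp [x, hab]
    by_contra hne
    push Not at hne
    simp [x, hne.1, hne.2] at hxa
  apply Equiv.ext
  intro a
  obtain ⟨b, c, hab, hac, hbc⟩ : ∃ b c, a ≠ b ∧ a ≠ c ∧ b ≠ c := by
    have hcard : 2 < (Finset.univ.erase a).card + 1 := by
      rw [Finset.card_erase_add_one (Finset.mem_univ a), Finset.card_univ, card_pts]; omega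
    obtain ⟨b, hb, c, hc, hbc⟩ := Finset.one_lt_card.mp (by omega : 1 < (Finset.univ.erase a).card)
    exact ⟨b, c, (Finset.ne_of_mem_erase hb).symm, (Finset.ne_of_mem_erase hc).symm, hbc⟩
  have : σ.symm a = a := by
    rcases hinv a b hab with h1 | h1
    · exact h1
    · rcases hinv a c hac with h2 | h2
      · exact h2
      · exact absurd (h1.symm.trans h2) hbc
  rw [Equiv.Perm.one_apply]
  exact (Equiv.eq_symm_apply σ).mp this.symm

/-- Triangular map on the second coordinate. -/
def tri (b : Fin r → ZMod 2) (i : Fin r) : ZMod 2 := ∑ j, if j < i then b j else 0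

theorem tri_add (b c : Fin r → ZMod 2) : tri (b + c) = tri b + tri c := by
  funext i
  simp only [tri, Pi.add_apply, ← Finset.sum_add_distrib]
  exact Finset.sum_congr rfl fun j _ => by split <;> simp

theorem tri_smul (t : ZMod 2) (b : Fin r → ZMod 2) : tri (t • b) = t • tri b := by
  funext i
  simp only [tri, Pi.smul_apply, smul_eq_mul, Finset.mul_sum, mul_ite, mul_zero]

theorem tri_meet (b c : Fin r → ZMod 2) :
    ∑ i, (tri b i * c i + b i * tri c i) + ∑ i, b i * c i = (∑ i, b i) * ∑ i, c i := by
  rw [Finset.sum_mul_sum, Finset.sum_add_distrib]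
  simp only [tri, Finset.sum_mul, Finset.mul_sum]
  rw [Finset.sum_comm (f := fun i j => (if j < i then b j else 0) * c i)]
  simp only [← Finset.sum_add_distrib]
  refine Finset.sum_congr rfl fun i _ => ?_
  have h : b i * c i = ∑ j, if i = j then b i * c j else 0 := by simp
  rw [h, ← Finset.sum_add_distrib]
  refine Finset.sum_congr rfl fun j _ => ?_
  rcases lt_trichotomy i j with h | h | h
  · simp [h, h.not_gt, h.ne]
  · simp [h]
  · simp [h, h.not_gt, h.ne']

/-- The model map. -/
def heartMap (r : ℕ) : HV r →ₗ[ZMod 2] Sub2 r where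
  toFun v := Sum.elim
    (Sum.elim (fun i => v (.inl i) + tri (fun j => v (.inr j)) i + v (.inr i))
      (fun i => v (.inl i) + tri (fun j => v (.inr j)) i))
    (fun t => if t then 0 else ∑ j, v (.inr j))
  map_add' u v := by
    funext p
    have h : tri (fun j => (u + v) (.inr j)) = tri (fun j => u (.inr j)) + tri (fun j => v (.inr j)) :=
      tri_add _ _
    rcases p with (i | i) | t
    · simp only [Sum.elim_inl]; rw [h]; simp only [Pi.add_apply, Sum.elim_inl, Sum.elim_inr]; ring
    · simp only [Sum.elim_inl, Sum.elim_inr, Pi.add_apply]; erw [congrFun h i]; simp only [Pi.add_apply, Sum.elim_inl, Sum.elim_inr]; ring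
    · cases t <;> simp [Finset.sum_add_distrib]
  map_smul' c v := by
    funext p
    have h : tri (fun j => (c • v) (.inr j)) = c • tri (fun j => v (.inr j)) := tri_smul _ _
    rcases p with (i | i) | t
    · simp only [Sum.elim_inl]; rw [h]; simp only [RingHom.id_apply, Pi.smul_apply, Sum.elim_inl, smul_eq_mul]; ring
    · simp only [Sum.elim_inl, Sum.elim_inr]; rw [h]; simp only [RingHom.id_apply, Pi.smul_apply, Sum.elim_inl, Sum.elim_inr, smul_eq_mul]; ring
    · cases t <;> simp [Finset.mul_sum]

theorem sum_pts {β : Type*} [AddCommMonoid β] (g : Pts r → β) :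
    ∑ p, g p = (∑ i, (g (.inl (.inl i)) + g (.inl (.inr i)))) + (g (.inr true) + g (.inr false)) := by
  rw [Fintype.sum_sum_type, Fintype.sum_sum_type, Fintype.sum_bool, Finset.sum_add_distrib]

theorem heartMap_mem (v : HV r) : heartMap r v ∈ reps r := by
  refine ⟨?_, rfl⟩
  rw [sum_pts]
  simp only [heartMap, LinearMap.coe_mk, AddHom.coe_mk, Sum.elim_inl, Sum.elim_inr, if_true,
    Bool.false_eq_true, if_false, zero_add, ← Finset.sum_add_distrib]
  exact Finset.sum_eq_zero fun i _ => by
    linear_combination CharTwo.add_self_eq_zero (v (.inl i) + tri (fun j => v (.inr j)) i) +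
      CharTwo.add_self_eq_zero (v (.inr i))

theorem meet2_heartMap (u v : HV r) : meet2 (heartMap r u) (heartMap r v) = pol r u v := by
  rw [meet2, sum_pts, pol_eq]
  simp only [heartMap, LinearMap.coe_mk, AddHom.coe_mk, Sum.elim_inl, Sum.elim_inr, if_true,
    Bool.false_eq_true, if_false, zero_add, mul_zero]
  rw [← tri_meet, ← Finset.sum_add_distrib, ← Finset.sum_add_distrib]
  refine Finset.sum_congr rfl fun i _ => ?_
  linear_combination CharTwo.add_self_eq_zero
    ((u (.inl i) + tri (fun j => u (.inr j)) i) * (v (.inl i) + tri (fun j => v (.inr j)) i)) +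
    CharTwo.add_self_eq_zero (tri (fun j => u (.inr j)) i * v (.inr i) + u (.inr i) * tri (fun j => v (.inr j)) i) +
    CharTwo.add_self_eq_zero (u (.inr i) * v (.inr i))

/-- Left inverse of the model map. -/
def heartInv (r : ℕ) : Sub2 r →ₗ[ZMod 2] HV r where
  toFun x := Sum.elim
    (fun i => x (.inl (.inr i)) + tri (fun j => x (.inl (.inl j)) + x (.inl (.inr j))) i)
    (fun i => x (.inl (.inl i)) + x (.inl (.inr i)))
  map_add' x y := by
    funext p
    have h : tri (fun j => (x + y) (.inl (.inl j)) + (x + y) (.inl (.inr j))) =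
        tri (fun j => x (.inl (.inl j)) + x (.inl (.inr j))) +
          tri (fun j => y (.inl (.inl j)) + y (.inl (.inr j))) := by
      rw [← tri_add]; congr 1; funext j; simp only [Pi.add_apply]; ring
    rcases p with i | i
    · simp only [Sum.elim_inl]; rw [h]; simp only [Pi.add_apply, Sum.elim_inl, Sum.elim_inr]; ring
    · simp only [Sum.elim_inr, Pi.add_apply]; ring
  map_smul' c x := by
    funext p
    have h : tri (fun j => (c • x) (.inl (.inl j)) + (c • x) (.inl (.inr j))) =
        c • tri (fun j => x (.inl (.inl j)) + x (.inl (.inr j))) := by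
      rw [← tri_smul]; congr 1; funext j; simp only [Pi.smul_apply, smul_eq_mul]; ring
    rcases p with i | i
    · simp only [Sum.elim_inl]; rw [h]; simp only [RingHom.id_apply, Pi.smul_apply, Sum.elim_inl, smul_eq_mul]; ring
    · simp only [Sum.elim_inr, Pi.smul_apply, RingHom.id_apply, smul_eq_mul]; ring

theorem heartInv_heartMap (v : HV r) : heartInv r (heartMap r v) = v := by
  funext p
  have h : (fun j => heartMap r v (.inl (.inl j)) + heartMap r v (.inl (.inr j))) = fun j => v (.inr j) := by
    funext j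
    simp only [heartMap, LinearMap.coe_mk, AddHom.coe_mk, Sum.elim_inl, Sum.elim_inr]
    linear_combination CharTwo.add_self_eq_zero (v (.inl j) + tri (fun j => v (.inr j)) j)
  rcases p with i | i
  · show heartMap r v (.inl (.inr i)) + tri _ i = _
    rw [h]
    simp only [heartMap, LinearMap.coe_mk, AddHom.coe_mk, Sum.elim_inl, Sum.elim_inr]
    linear_combination CharTwo.add_self_eq_zero (tri (fun j => v (.inr j)) i)
  · exact congrFun h i

theorem heartMap_heartInv {x : Sub2 r} (hx : x ∈ reps r) : heartMap r (heartInv r x) = x := by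
  funext p
  have hsum := hx.1
  rw [sum_pts, show x (.inr true) = 0 from hx.2, zero_add] at hsum
  rcases p with (i | i) | t
  · simp only [heartMap, heartInv, LinearMap.coe_mk, AddHom.coe_mk, Sum.elim_inl, Sum.elim_inr]
    linear_combination CharTwo.add_self_eq_zero (tri (fun j => x (.inl (.inl j)) + x (.inl (.inr j))) i) +
      CharTwo.add_self_eq_zero (x (.inl (.inr i)))
  · simp only [heartMap, heartInv, LinearMap.coe_mk, AddHom.coe_mk, Sum.elim_inl, Sum.elim_inr]
    linear_combination CharTwo.add_self_eq_zero (tri (fun j => x (.inl (.inl j)) + x (.inl (.inr j))) i)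
  · cases t
    · simp only [heartMap, heartInv, LinearMap.coe_mk, AddHom.coe_mk, Sum.elim_inl, Sum.elim_inr,
        Bool.false_eq_true, if_false]
      linear_combination hsum - CharTwo.add_self_eq_zero (x (.inr false))
    · exact hx.2.symm

/-- The representation on `HV r`. -/
def heartRep (r : ℕ) : Equiv.Perm (Pts r) →* Module.End (ZMod 2) (HV r) where
  toFun σ := heartInv r ∘ₗ act σ ∘ₗ heartMap r
  map_one' := LinearMap.ext fun v => by
    show heartInv r (act 1 (heartMap r v)) = v
    rw [act_one (heartMap_mem v), heartInv_heartMap]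
  map_mul' σ τ := LinearMap.ext fun v => by
    show heartInv r (act (σ * τ) (heartMap r v)) =
      heartInv r (act σ (heartMap r (heartInv r (act τ (heartMap r v)))))
    rw [heartMap_heartInv (act_mem τ (heartMap_mem v)), act_mul]

/-- The form carried over. -/
def qheart (r : ℕ) (v : HV r) : ZMod 2 := qhalf (heartMap r v)

theorem polz_qheart (r : ℕ) : Polz r (qheart r) := fun u v => by
  unfold qheart
  rw [map_add, qhalf_add _ _ (heartMap_mem u).1 (heartMap_mem v).1, meet2_heartMap]

theorem qheart_rep (hr : Odd r) (σ : Equiv.Perm (Pts r)) (v : HV r) :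
    qheart r (heartRep r σ v) = qheart r v := by
  show qhalf (heartMap r (heartInv r (act σ (heartMap r v)))) = qhalf (heartMap r v)
  rw [heartMap_heartInv (act_mem σ (heartMap_mem v)), qhalf_act hr σ (heartMap_mem v)]

theorem heartRep_injective (hr : 2 ≤ r) : Function.Injective (heartRep r) := by
  refine (injective_iff_map_eq_one _).mpr fun σ hσ => act_faithful hr σ fun x hx => ?_
  have h := LinearMap.congr_fun hσ (heartInv r x)
  change heartInv r (act σ (heartMap r (heartInv r x))) = heartInv r x at h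
  have h' := congrArg (heartMap r) h
  rwa [heartMap_heartInv hx, heartMap_heartInv (act_mem σ hx)] at h'

theorem qheart_inl (i : Fin r) : qheart r (Pi.single (.inl i) 1) = 1 := by
  have hw : wt (heartMap r (Pi.single (.inl i) 1)) = 2 := by
    rw [wt, sum_pts]
    simp [heartMap, tri, Pi.single_apply, apply_ite ZMod.val, Finset.sum_add_distrib, show ZMod.val (1 : ZMod 2) = 1 from rfl]
  simp [qheart, qhalf, hw]

theorem qheart_inr (i : Fin r) : qheart r (Pi.single (.inr i) 1) = ((r - i : ℕ) : ZMod 2) := by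
  have hw : wt (heartMap r (Pi.single (.inr i) 1)) = 2 * (r - i) := by
    rw [wt, sum_pts]
    have h1 : ∀ j : Fin r, tri (fun k => (Pi.single (.inr i) (1 : ZMod 2) : HV r) (.inr k)) j =
        if i < j then 1 else 0 := fun j => by
      simp only [tri]
      rw [Finset.sum_eq_single i (fun b _ hb => by simp [Pi.single_apply, hb]) (by simp)]
      simp [Pi.single_apply]
    simp only [heartMap, LinearMap.coe_mk, AddHom.coe_mk, Sum.elim_inl, Sum.elim_inr, h1]
    have h2 : ∀ j : Fin r, (((Pi.single (.inr i) (1 : ZMod 2) : HV r) (.inl j) + (if i < j then 1 else 0) +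
        (Pi.single (.inr i) (1 : ZMod 2) : HV r) (.inr j) : ZMod 2)).val +
        (((Pi.single (.inr i) (1 : ZMod 2) : HV r) (.inl j) + (if i < j then 1 else 0) : ZMod 2)).val =
          (if i < j then 2 else 0) + (if j = i then 1 else 0) := by
      intro j
      rcases lt_trichotomy i j with h | h | h
      · simp [Pi.single_apply, h, h.ne', show ZMod.val (1 : ZMod 2) = 1 from rfl]
      · subst h; simp [Pi.single_apply, show ZMod.val (1 : ZMod 2) = 1 from rfl]
      · simp [Pi.single_apply, h.not_gt, h.ne]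
    rw [Finset.sum_congr rfl (fun j _ => h2 j), Finset.sum_add_distrib, ← Finset.sum_filter]
    simp [Pi.single_apply, Fin.card_Ioi, Finset.filter_lt_eq_Ioi]
    have := i.isLt
    rw [show ZMod.val (1 : ZMod 2) = 1 from rfl]
    omega
  simp [qheart, qhalf, hw]

theorem plus_wOf_qheart (r : ℕ) :
    Cfsg.quadFormPlus r (ZMod 2) (wOf r (qheart r)) = ((r * (r + 1) / 2 : ℕ) : ZMod 2) := by
  simp only [Cfsg.quadFormPlus, wOf, Sum.elim_inl, Sum.elim_inr, qheart_inl, qheart_inr, mul_one,
    ← Nat.cast_sum]
  congr 1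
  rw [Fin.sum_univ_eq_sum_range (fun i => r - i) r, ← Finset.sum_range_reflect]
  rw [Finset.sum_congr rfl (fun i hi => show r - (r - 1 - i) = i + 1 by
    have := Finset.mem_range.mp hi; omega)]
  have h := Finset.sum_range_id_mul_two (r + 1)
  rw [Finset.sum_range_succ' (fun i => i)] at h
  simp only [add_zero] at h
  rw [show r * (r + 1) = (r + 1) * (r + 1 - 1) by rw [Nat.add_sub_cancel, mul_comm], ← h, Nat.mul_div_cancel _ two_pos]

/-- Transport of a faithful isometric representation to `Cfsg.isometryGroup`. -/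
theorem exists_isometry_hom {G : Type*} [Group G] {ι : Type} [Fintype ι] [DecidableEq ι]
    {V : Type*} [AddCommGroup V] [Module (ZMod 2) V] (ρ : G →* Module.End (ZMod 2) V)
    (hρ : Function.Injective ρ) (q : V → ZMod 2) (hq : ∀ g v, q (ρ g v) = q v)
    (e : V ≃ₗ[ZMod 2] (ι → ZMod 2)) (Q : (ι → ZMod 2) → ZMod 2) (he : ∀ v, q v = Q (e v)) :
    ∃ φ : G →* ↥(Cfsg.isometryGroup (ZMod 2) Q), Function.Injective φ := by
  let c : Module.End (ZMod 2) V →* Matrix ι ι (ZMod 2) :=
    { toFun := fun f => LinearMap.toMatrix' (e.toLinearMap ∘ₗ f ∘ₗ e.symm.toLinearMap)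
      map_one' := by
        rw [show e.toLinearMap ∘ₗ (1 : Module.End (ZMod 2) V) ∘ₗ e.symm.toLinearMap = LinearMap.id from
          LinearMap.ext fun v => e.apply_symm_apply v, LinearMap.toMatrix'_id]
      map_mul' := fun f g => by
        rw [← LinearMap.toMatrix'_comp]
        refine congrArg _ (LinearMap.ext fun v => ?_)
        show e (f (g (e.symm v))) = e (f (e.symm (e (g (e.symm v)))))
        rw [e.symm_apply_apply] }
  let φ₀ := (c.comp ρ).toHomUnits
  have hval : ∀ g v, ((φ₀ g : Matrix.GeneralLinearGroup ι (ZMod 2)) : Matrix ι ι (ZMod 2)).mulVec v =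
      e (ρ g (e.symm v)) := fun g v => LinearMap.toMatrix'_mulVec _ v
  refine ⟨φ₀.codRestrict _ (fun g u v => ?_), ?_⟩
  · show Q (((φ₀ g : Matrix.GeneralLinearGroup ι (ZMod 2)) : Matrix ι ι (ZMod 2)).mulVec u) = Q u
    rw [hval, ← he, hq, he, e.apply_symm_apply]
  · intro a b hab
    apply hρ
    ext v
    have h1 := hval a (e v)
    have hab' : φ₀ a = φ₀ b := congrArg Subtype.val hab
    rw [hab', hval b (e v), e.symm_apply_apply] at h1
    exact (e.injective h1).symm

end Cfsg.Agent.H56
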