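import Mathlib

/-! Regular nilpotent matrices: Krylov basis, commutant, determinant. -/

set_option autoImplicit false

namespace Cfsg.Agent.H56.Regular

open Matrix

variable {F : Type*} [Field F] {k : ℕ}

/-- `Σ cᵢ Nⁱ`. -/
def poly {ι : Type*} [Fintype ι] [DecidableEq ι] (N : Matrix ι ι F) (c : Fin (k + 1) → F) : Matrix ι ι F :=
  ∑ i : Fin (k + 1), c i • N ^ (i : ℕ)

section Gen

variable {ι : Type*} [Fintype ι] [DecidableEq ι] (N : Matrix ι ι F)

theorem commute_poly {M : Matrix ι ι F} (h : Commute M N) (c : Fin (k + 1) → F) : Commute M (poly N c) :=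
  Commute.sum_right _ _ _ fun i _ => (h.pow_right i).smul_right _

theorem poly_single_zero (a : F) : poly N (Pi.single (0 : Fin (k + 1)) a) = a • 1 := by
  rw [poly, Finset.sum_eq_single 0 (fun j _ hj => by rw [Pi.single_eq_of_ne hj, zero_smul]) (by simp),
    Pi.single_eq_same, Fin.val_zero, pow_zero]

theorem poly_add (c d : Fin (k + 1) → F) : poly N (c + d) = poly N c + poly N d := by
  simp [poly, add_smul, Finset.sum_add_distrib]

theorem poly_split (c : Fin (k + 1) → F) :
    poly N c = c 0 • (1 : Matrix ι ι F) + N * ∑ i : Fin k, c i.succ • N ^ (i : ℕ) := by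
  simp [poly, Fin.sum_univ_succ, Finset.mul_sum, pow_succ']

theorem isNilpotent_tail (hnil : N ^ (k + 1) = 0) (c : Fin (k + 1) → F) :
    IsNilpotent (poly N c - c 0 • (1 : Matrix ι ι F)) := by
  rw [poly_split, add_sub_cancel_left]
  refine Commute.isNilpotent_mul_right ?_ ⟨k + 1, hnil⟩
  exact Commute.sum_right _ _ _ fun i _ => ((Commute.refl N).pow_right i).smul_right _

theorem det_smul_one_add {M : Matrix ι ι F} (hM : IsNilpotent M) (a : F) :
    (a • (1 : Matrix ι ι F) + M).det = a ^ Fintype.card ι := by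
  have hn : IsNilpotent (Matrix.toLinAlgEquiv' (-M)) := hM.neg.map Matrix.toLinAlgEquiv'
  have hc : (-M).charpoly = Polynomial.X ^ Fintype.card ι := by
    rw [← Matrix.charpoly_toLin', ← Module.finrank_fintype_fun_eq_card F (η := ι)]
    exact hn.charpoly_eq_X_pow_finrank
  have h := Matrix.eval_charpoly (-M) a
  rw [hc, Polynomial.eval_pow, Polynomial.eval_X] at h
  rw [h, Matrix.scalar_apply, ← Matrix.smul_one_eq_diagonal, sub_neg_eq_add]

theorem det_poly (hnil : N ^ (k + 1) = 0) (c : Fin (k + 1) → F) : (poly N c).det = c 0 ^ Fintype.card ι := by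
  have h := det_smul_one_add (isNilpotent_tail N hnil c) (c 0)
  rwa [add_sub_cancel] at h

variable (v : ι → F)

/-- The Krylov map. -/
def krylov : (Fin (k + 1) → F) →ₗ[F] (ι → F) :=
  Fintype.linearCombination F fun i : Fin (k + 1) => (N ^ (i : ℕ)).mulVec v

theorem poly_mulVec (c : Fin (k + 1) → F) : (poly N c).mulVec v = krylov N v c := by
  simp [poly, krylov, Fintype.linearCombination_apply, Matrix.sum_mulVec, Matrix.smul_mulVec]

theorem krylov_injective (hnil : N ^ (k + 1) = 0) (hv : (N ^ k).mulVec v ≠ 0) :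
    Function.Injective (krylov (k := k) N v) := by
  classical
  rw [← LinearMap.ker_eq_bot, LinearMap.ker_eq_bot']
  intro c hc
  by_contra hc0
  obtain ⟨i₀, hi₀⟩ := Function.ne_iff.1 hc0
  let s := Finset.univ.filter fun i => c i ≠ 0
  have hs : s.Nonempty := ⟨i₀, by simpa [s] using hi₀⟩
  set i := s.min' hs with hi
  have hci : c i ≠ 0 := (Finset.mem_filter.1 (s.min'_mem hs)).2
  have h := congrArg (N ^ (k - (i : ℕ))).mulVec hc
  rw [← poly_mulVec, Matrix.mulVec_mulVec, Matrix.mulVec_zero, poly, Finset.mul_sum, Finset.sum_eq_single i] at h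
  · rw [mul_smul_comm, ← pow_add, Nat.sub_add_cancel (Nat.le_of_lt_succ i.2), Matrix.smul_mulVec, smul_eq_zero] at h
    exact h.elim hci hv
  · intro j _ hj
    by_cases hcj : c j = 0
    · simp [hcj]
    have hlt : (i : ℕ) < (j : ℕ) := lt_of_le_of_ne (s.min'_le j (by simp [s, hcj])) fun h => hj (Fin.ext h.symm)
    rw [mul_smul_comm, ← pow_add, pow_eq_zero_of_le (by omega) hnil, smul_zero]
  · simp

theorem krylov_bijective (hι : Fintype.card ι = k + 1) (hnil : N ^ (k + 1) = 0) (hv : (N ^ k).mulVec v ≠ 0) :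
    Function.Bijective (krylov (k := k) N v) := by
  have h := krylov_injective N v hnil hv
  exact ⟨h, (LinearMap.injective_iff_surjective_of_finrank_eq_finrank (by simp [hι])).mp h⟩

theorem commutant (hι : Fintype.card ι = k + 1) (hnil : N ^ (k + 1) = 0) (hv : (N ^ k).mulVec v ≠ 0)
    {M : Matrix ι ι F} (hM : Commute M N) : ∃ c : Fin (k + 1) → F, poly N c = M := by
  obtain ⟨c, hc⟩ := (krylov_bijective N v hι hnil hv).2 (M.mulVec v)
  refine ⟨c, Matrix.ext_of_mulVec_single fun j => ?_⟩
  obtain ⟨d, hd⟩ := (krylov_bijective N v hι hnil hv).2 (Pi.single j 1)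
  have h1 : Commute (poly N c) (poly N d) := commute_poly N (commute_poly N (Commute.refl N) c).symm d
  have h2 : Commute M (poly N d) := commute_poly N hM d
  rw [← hd, ← poly_mulVec, Matrix.mulVec_mulVec, Matrix.mulVec_mulVec, h1.eq, h2.eq,
    ← Matrix.mulVec_mulVec, ← Matrix.mulVec_mulVec]
  exact congrArg (poly N d).mulVec ((poly_mulVec N v c).trans hc)

theorem poly_injective (hnil : N ^ (k + 1) = 0) (hv : (N ^ k).mulVec v ≠ 0) :
    Function.Injective (poly (k := k) N) := fun a b h =>
  krylov_injective N v hnil hv (by rw [← poly_mulVec, ← poly_mulVec, h])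

theorem exists_similar (hι : Fintype.card ι = k + 1) (hnil : N ^ (k + 1) = 0) (hv : (N ^ k).mulVec v ≠ 0)
    (N' : Matrix ι ι F) (v' : ι → F) (hnil' : N' ^ (k + 1) = 0) (hv' : (N' ^ k).mulVec v' ≠ 0) :
    ∃ g : GL ι F, (g : Matrix ι ι F) * N = N' * (g : Matrix ι ι F) := by
  let E := LinearEquiv.ofBijective _ (krylov_bijective N v hι hnil hv)
  let E' := LinearEquiv.ofBijective _ (krylov_bijective N' v' hι hnil' hv')
  let A := LinearMap.toMatrix' (E.symm.trans E').toLinearMap
  let B := LinearMap.toMatrix' (E'.symm.trans E).toLinearMap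
  have hA : ∀ c : Fin (k + 1) → F, A.mulVec (krylov N v c) = krylov N' v' c := by
    intro c
    rw [LinearMap.toMatrix'_mulVec]
    show E' (E.symm (E c)) = _
    rw [LinearEquiv.symm_apply_apply]
    rfl
  have hAB : A * B = 1 := by
    refine Matrix.ext_of_mulVec_single fun j => ?_
    rw [← Matrix.mulVec_mulVec, LinearMap.toMatrix'_mulVec, LinearMap.toMatrix'_mulVec, Matrix.one_mulVec]
    show E' (E.symm (E (E'.symm _))) = _
    rw [LinearEquiv.symm_apply_apply, LinearEquiv.apply_symm_apply]
  have hBA : B * A = 1 := mul_eq_one_comm.mp hAB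
  refine ⟨⟨A, B, hAB, hBA⟩, Matrix.ext_of_mulVec_single fun j => ?_⟩
  obtain ⟨c, hc⟩ := (krylov_bijective N v hι hnil hv).2 (Pi.single j 1)
  show (A * N).mulVec _ = (N' * A).mulVec _
  have hexp : ∀ (M : Matrix ι ι F) (P : Matrix ι ι F) (w : ι → F), M.mulVec ((poly P c).mulVec w) =
      ∑ i : Fin (k + 1), c i • M.mulVec ((P ^ (i : ℕ)).mulVec w) := by
    intro M P w
    simp [poly, Matrix.sum_mulVec, Matrix.mulVec_sum, Matrix.smul_mulVec, Matrix.mulVec_smul]
  rw [← hc, ← Matrix.mulVec_mulVec, ← Matrix.mulVec_mulVec, hA, ← poly_mulVec, ← poly_mulVec, hexp, hexp,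
    Matrix.mulVec_sum]
  refine Finset.sum_congr rfl fun i _ => ?_
  rw [Matrix.mulVec_smul, Matrix.mulVec_mulVec v N, Matrix.mulVec_mulVec v' N', ← pow_succ', ← pow_succ']
  congr 1
  by_cases hik : (i : ℕ) + 1 < k + 1
  · have hs : krylov N v (Pi.single (⟨(i : ℕ) + 1, hik⟩ : Fin (k + 1)) 1) = (N ^ ((i : ℕ) + 1)).mulVec v := by
      rw [krylov, Fintype.linearCombination_apply_single, one_smul]
    have hs' : krylov N' v' (Pi.single (⟨(i : ℕ) + 1, hik⟩ : Fin (k + 1)) 1) = (N' ^ ((i : ℕ) + 1)).mulVec v' := by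
      rw [krylov, Fintype.linearCombination_apply_single, one_smul]
    rw [← hs, hA, hs']
  · rw [pow_eq_zero_of_le (by omega) hnil, pow_eq_zero_of_le (by omega) hnil', Matrix.zero_mulVec,
      Matrix.zero_mulVec, Matrix.mulVec_zero]

theorem exists_vec (hι : Fintype.card ι = k + 1) (hnil : N ^ (k + 1) = 0) (hrank : N.rank = k) :
    ∃ v, (N ^ k).mulVec v ≠ 0 := by
  set T := Matrix.toLin' N with hT
  have hker : Module.finrank F (LinearMap.ker T) = 1 := by
    have h := LinearMap.finrank_range_add_finrank_ker T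
    rw [show Module.finrank F (LinearMap.range T) = k from hrank, Module.finrank_fintype_fun_eq_card, hι] at h
    omega
  have hrk : ∀ j, k + 1 - j ≤ Module.finrank F (LinearMap.range (T ^ j)) := by
    intro j
    induction j with
    | zero =>
      rw [pow_zero, Module.End.one_eq_id, LinearMap.range_id, finrank_top, Module.finrank_fintype_fun_eq_card, hι]
      omega
    | succ j ih =>
      have h := LinearMap.finrank_range_add_finrank_ker (T.domRestrict (LinearMap.range (T ^ j)))
      rw [LinearMap.range_domRestrict, ← LinearMap.range_comp, ← Module.End.mul_eq_comp, ← pow_succ'] at h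
      have hk : Module.finrank F (LinearMap.ker (T.domRestrict (LinearMap.range (T ^ j)))) ≤ 1 := by
        refine le_trans ?_ hker.le
        refine LinearMap.finrank_le_finrank_of_injective
          (f := ((LinearMap.range (T ^ j)).subtype).restrict (p := LinearMap.ker (T.domRestrict (LinearMap.range (T ^ j))))
            (q := LinearMap.ker T) (fun x hx => by simpa using hx)) ?_
        intro x y hxy
        exact Subtype.ext (Subtype.ext (congrArg Subtype.val hxy :))
      omega
  by_contra h
  push Not at h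
  have h0 : N ^ k = 0 := Matrix.ext_of_mulVec_single fun i => by rw [h, Matrix.zero_mulVec]
  have h' : k + 1 - k ≤ _ := hrk k
  rw [hT, show Matrix.toLin' N ^ k = Matrix.toLin' (N ^ k) from (map_pow Matrix.toLinAlgEquiv' N k).symm,
    h0, map_zero, LinearMap.range_zero, finrank_bot] at h'
  omega

theorem rank_eq (hι : Fintype.card ι = k + 1) (hnil : N ^ (k + 1) = 0) (hv : (N ^ k).mulVec v ≠ 0) : N.rank = k := by
  have hle : N.rank ≤ k := by
    by_contra h
    have hr : N.rank = Fintype.card ι := le_antisymm (Matrix.rank_le_card_width N) (by omega)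
    have hsurj : Function.Surjective N.mulVecLin := by
      rw [← LinearMap.range_eq_top]
      exact Submodule.eq_top_of_finrank_eq (by rw [show Module.finrank F (LinearMap.range N.mulVecLin) = N.rank from rfl, hr, Module.finrank_fintype_fun_eq_card])
    have hu : IsUnit N := Matrix.mulVec_surjective_iff_isUnit.mp hsurj
    haveI : Nonempty ι := Fintype.card_pos_iff.mp (by omega)
    exact IsNilpotent.not_isUnit ⟨k + 1, hnil⟩ hu
  refine le_antisymm hle ?_
  let f : (Fin k → F) →ₗ[F] LinearMap.range N.mulVecLin :=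
    (Fintype.linearCombination F fun i : Fin k => (N ^ ((i : ℕ) + 1)).mulVec v).codRestrict _ fun c => by
      rw [Fintype.linearCombination_apply]
      refine Submodule.sum_mem _ fun i _ => Submodule.smul_mem _ _ ⟨(N ^ (i : ℕ)).mulVec v, ?_⟩
      rw [Matrix.mulVecLin_apply, Matrix.mulVec_mulVec, ← pow_succ']
  have hf : Function.Injective f := by
    intro a b h
    have h' : krylov N v (Fin.cons 0 a) = krylov N v (Fin.cons 0 b) := by
      have h1 := congrArg Subtype.val h
      simp only [f, LinearMap.codRestrict_apply, Fintype.linearCombination_apply] at h1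
      simp only [krylov, Fintype.linearCombination_apply, Fin.sum_univ_succ, Fin.cons_zero, Fin.cons_succ,
        Fin.val_succ, zero_smul, zero_add]
      exact h1
    exact Fin.cons_right_injective (0 : F) (krylov_injective N v hnil hv h')
  have h := LinearMap.finrank_le_finrank_of_injective hf
  rwa [Module.finrank_fintype_fun_eq_card, Fintype.card_fin] at h

end Gen

/-- The shift matrix. -/
def shift (k : ℕ) : Matrix (Fin (k + 1)) (Fin (k + 1)) F :=
  Matrix.of fun i j => if (i : ℕ) = j + 1 then 1 else 0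

theorem shift_pow (m : ℕ) (i j : Fin (k + 1)) : (shift (F := F) k ^ m) i j = if (i : ℕ) = j + m then 1 else 0 := by
  induction m generalizing i j with
  | zero => simp [Matrix.one_apply, Fin.ext_iff]
  | succ m ih =>
    rw [pow_succ', Matrix.mul_apply]
    by_cases h : (i : ℕ) = j + (m + 1)
    · rw [if_pos h, Finset.sum_eq_single (⟨j + m, by omega⟩ : Fin (k + 1)) ?_ (by simp)]
      · rw [ih, if_pos rfl, mul_one, shift, Matrix.of_apply, if_pos (by simp only; omega)]
      · intro b _ hb
        rw [ih, if_neg (fun e => hb (Fin.ext e)), mul_zero]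
    · rw [if_neg h]
      refine Finset.sum_eq_zero fun b _ => ?_
      rw [ih, shift, Matrix.of_apply]
      split_ifs <;> first | omega | simp

theorem shift_nil : shift (F := F) k ^ (k + 1) = 0 := by
  ext i j
  rw [shift_pow, if_neg (by omega), Matrix.zero_apply]

theorem shift_top : (shift (F := F) k ^ k).mulVec (Pi.single 0 1) ≠ 0 := by
  intro h
  have h1 := congrFun h (Fin.last k)
  simp [shift_pow] at h1

end Cfsg.Agent.H56.Regular
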