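import Mathlib
import Cfsg.Agent.H56.Regular

/-! Regular unipotent elements of `Sp_{2m}(F)`, odd characteristic, through the Cayley transform. -/

set_option autoImplicit false

namespace Cfsg.Agent.H56.SympRegular

open Matrix H56.Regular

variable {F : Type*} [Field F] {m : ℕ}

abbrev Idx (m : ℕ) := Fin m ⊕ Fin m

abbrev Mat (m : ℕ) (F : Type*) := Matrix (Idx m) (Idx m) F

/-- The adjoint for the symplectic form. -/
def adj (M : Mat m F) : Mat m F := -(J (Fin m) F * Mᵀ * J (Fin m) F)

/-- The symplectic form. -/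
def om (x y : Idx m → F) : F := x ⬝ᵥ (J (Fin m) F).mulVec y

theorem JJ : J (Fin m) F * J (Fin m) F = -1 := J_squared _ _

theorem adj_one : adj (1 : Mat m F) = 1 := by simp [adj, JJ]

theorem adj_mul (A B : Mat m F) : adj (A * B) = adj B * adj A := by
  simp only [adj, transpose_mul, neg_mul_neg]
  calc -(J (Fin m) F * (Bᵀ * Aᵀ) * J (Fin m) F) = J (Fin m) F * Bᵀ * (-1) * Aᵀ * J (Fin m) F := by
        simp [Matrix.mul_assoc]
    _ = J (Fin m) F * Bᵀ * J (Fin m) F * (J (Fin m) F * Aᵀ * J (Fin m) F) := by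
        rw [← JJ]; simp only [Matrix.mul_assoc]

theorem adj_adj (M : Mat m F) : adj (adj M) = M := by
  simp only [adj, transpose_neg, transpose_mul, J_transpose, transpose_transpose]
  calc -(J (Fin m) F * -(-J (Fin m) F * (M * -J (Fin m) F)) * J (Fin m) F)
      = (J (Fin m) F * J (Fin m) F) * M * (J (Fin m) F * J (Fin m) F) := by simp [Matrix.mul_assoc]
    _ = M := by simp [JJ]

theorem adj_add (A B : Mat m F) : adj (A + B) = adj A + adj B := by
  simp only [adj, transpose_add, mul_add, add_mul, neg_add]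

theorem adj_neg (A : Mat m F) : adj (-A) = -adj A := by
  simp [adj]

theorem adj_sub (A B : Mat m F) : adj (A - B) = adj A - adj B := by
  rw [sub_eq_add_neg, adj_add, adj_neg, ← sub_eq_add_neg]

theorem adj_smul (a : F) (A : Mat m F) : adj (a • A) = a • adj A := by
  simp [adj]

theorem adj_zero : adj (0 : Mat m F) = 0 := by simp [adj]

theorem adj_sum {κ : Type*} (s : Finset κ) (f : κ → Mat m F) : adj (∑ i ∈ s, f i) = ∑ i ∈ s, adj (f i) := by
  classical
  induction s using Finset.induction_on with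
  | empty => simp [adj_zero]
  | insert a s ha ih => rw [Finset.sum_insert ha, Finset.sum_insert ha, adj_add, ih]

theorem adj_pow (A : Mat m F) (i : ℕ) : adj (A ^ i) = adj A ^ i := by
  induction i with
  | zero => simp [adj_one]
  | succ i ih => rw [pow_succ, adj_mul, ih, pow_succ']

theorem mem_iff_adj (A : Mat m F) : A ∈ symplecticGroup (Fin m) F ↔ A * adj A = 1 := by
  rw [SymplecticGroup.mem_iff]
  constructor
  · intro h
    calc A * adj A = -(A * J (Fin m) F * Aᵀ * J (Fin m) F) := by simp [adj, Matrix.mul_assoc]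
      _ = 1 := by rw [h, JJ]; simp
  · intro h
    calc A * J (Fin m) F * Aᵀ = A * adj A * J (Fin m) F := by simp [adj, Matrix.mul_assoc, JJ]
      _ = J (Fin m) F := by rw [h, one_mul]

theorem om_adj (M : Mat m F) (x y : Idx m → F) : om (M.mulVec x) y = om x ((adj M).mulVec y) := by
  rw [om, om, ← Matrix.vecMul_transpose, ← dotProduct_mulVec, Matrix.mulVec_mulVec, Matrix.mulVec_mulVec]
  congr 2
  simp only [adj, Matrix.mul_neg, ← Matrix.mul_assoc, JJ]
  simp

theorem om_skew (x y : Idx m → F) : om x y = -om y x := by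
  rw [om, om, dotProduct_mulVec, ← Matrix.mulVec_transpose, J_transpose, Matrix.neg_mulVec, neg_dotProduct,
    dotProduct_comm]

theorem om_nondeg {x : Idx m → F} (h : ∀ y, om x y = 0) : x = 0 := by
  funext i
  have h1 := h ((-J (Fin m) F).mulVec (Pi.single i 1))
  rw [om, Matrix.mulVec_mulVec, Matrix.mul_neg, JJ, neg_neg, Matrix.one_mulVec, dotProduct_single, mul_one] at h1
  exact h1

theorem om_smul_left (a : F) (x y : Idx m → F) : om (a • x) y = a * om x y := by
  simp [om, smul_dotProduct]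

theorem om_smul_right (a : F) (x y : Idx m → F) : om x (a • y) = a * om x y := by
  simp [om, Matrix.mulVec_smul, dotProduct_smul]

theorem om_self_adj (h2 : (2 : F) ≠ 0) {Y : Mat m F} (hY : adj Y = Y) (v : Idx m → F) : om (Y.mulVec v) v = 0 := by
  have h1 : om (Y.mulVec v) v = -om (Y.mulVec v) v := by
    conv_lhs => rw [om_adj, hY, om_skew]
  have : (2 : F) * om (Y.mulVec v) v = 0 := by linear_combination h1
  exact (mul_eq_zero.mp this).resolve_left h2

variable {k : ℕ}

/-- Twisting coefficients by the sign. -/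
def tw (a : Fin (k + 1) → F) : Fin (k + 1) → F := fun i => (-1) ^ (i : ℕ) * a i

theorem adj_poly {c : Mat m F} (hc : adj c = -c) (a : Fin (k + 1) → F) : adj (poly c a) = poly c (tw a) := by
  rw [poly, adj_sum, poly]
  refine Finset.sum_congr rfl fun i _ => ?_
  rw [adj_smul, adj_pow, hc, neg_pow, tw, mul_comm ((-1 : F) ^ (i : ℕ)), ← smul_smul]
  rcases Nat.even_or_odd (i : ℕ) with he | ho
  · rw [he.neg_one_pow, he.neg_one_pow, one_mul, one_smul]
  · rw [ho.neg_one_pow, ho.neg_one_pow, neg_mul, one_mul, neg_smul, one_smul]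

/-- Only even coefficients occur. -/
def IsEven' (a : Fin (k + 1) → F) : Prop := ∀ i : Fin (k + 1), Odd (i : ℕ) → a i = 0

theorem tw_even {a : Fin (k + 1) → F} (ha : IsEven' a) : tw a = a := by
  funext i
  rcases Nat.even_or_odd (i : ℕ) with he | ho
  · rw [tw, he.neg_one_pow, one_mul]
  · rw [tw, ha i ho, mul_zero]

theorem even_of_tw (h2 : (2 : F) ≠ 0) {a : Fin (k + 1) → F} (ha : tw a = a) : IsEven' a := by
  intro i ho
  have h := congrFun ha i
  rw [tw, ho.neg_one_pow, neg_one_mul] at h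
  have : (2 : F) * a i = 0 := by linear_combination -h
  exact (mul_eq_zero.mp this).resolve_left h2

/-- Data of a regular anti-self-adjoint nilpotent element with a cyclic vector. -/
structure RegData (m k : ℕ) (F : Type*) [Field F] where
  c : Mat m F
  v : Idx m → F
  anti : adj c = -c
  nil : c ^ (k + 1) = 0
  top : (c ^ k).mulVec v ≠ 0
  dim : Fintype.card (Idx m) = k + 1

namespace RegData

variable (D : RegData m k F)

theorem topMat : D.c ^ k ≠ 0 := fun h => D.top (by rw [h, Matrix.zero_mulVec])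

theorem pow_mul_poly (a : Fin (k + 1) → F) : D.c ^ k * poly D.c a = a 0 • D.c ^ k := by
  rw [poly_split, mul_add, mul_smul_comm, mul_one, ← mul_assoc, ← pow_succ, D.nil, zero_mul, add_zero]

theorem pow_mul_poly_pow (a : Fin (k + 1) → F) (j : ℕ) : D.c ^ k * poly D.c a ^ j = a 0 ^ j • D.c ^ k := by
  induction j with
  | zero => simp
  | succ j ih => rw [pow_succ, ← mul_assoc, ih, smul_mul_assoc, D.pow_mul_poly, smul_smul, pow_succ]

theorem coeff_zero {M : Mat m F} {a : Fin (k + 1) → F} (h : poly D.c a = M) {r : F}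
    (hr : D.c ^ k * M = r • D.c ^ k) : a 0 = r := by
  rw [← h, D.pow_mul_poly] at hr
  exact smul_left_injective F D.topMat hr

theorem commute_two {A B : Mat m F} (hA : Commute A D.c) (hB : Commute B D.c) : Commute A B := by
  obtain ⟨b, rfl⟩ := commutant D.c D.v D.dim D.nil D.top hB
  exact commute_poly D.c hA b

theorem commute_adj {A : Mat m F} (hA : Commute A D.c) : Commute (adj A) D.c := by
  have h := congrArg adj hA.eq
  rw [adj_mul, adj_mul, D.anti, neg_mul, mul_neg, neg_inj] at h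
  exact h.symm

theorem det_poly' (a : Fin (k + 1) → F) : (poly D.c a).det = a 0 ^ (k + 1) := by
  rw [det_poly _ D.nil, D.dim]

theorem isUnit_poly {a : Fin (k + 1) → F} : IsUnit (poly D.c a) ↔ a 0 ≠ 0 := by
  rw [Matrix.isUnit_iff_isUnit_det, D.det_poly', isUnit_iff_ne_zero, pow_ne_zero_iff (by omega)]

theorem beta_ne : om ((D.c ^ k).mulVec D.v) D.v ≠ 0 := by
  intro h0
  refine D.top (om_nondeg fun y => ?_)
  obtain ⟨a, rfl⟩ := (krylov_bijective D.c D.v D.dim D.nil D.top).2 y
  rw [← poly_mulVec, ← adj_adj (poly D.c a), ← om_adj, Matrix.mulVec_mulVec, adj_poly D.anti,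
    (commute_poly D.c ((Commute.refl D.c).pow_left k) (tw a)).symm.eq, D.pow_mul_poly, Matrix.smul_mulVec,
    om_smul_left, h0, mul_zero]

theorem beta_scale {w : Idx m → F} (hw : (D.c ^ k).mulVec w ≠ 0) :
    ∃ t : F, t ≠ 0 ∧ om ((D.c ^ k).mulVec w) w = t ^ 2 * om ((D.c ^ k).mulVec D.v) D.v := by
  obtain ⟨a, rfl⟩ := (krylov_bijective D.c D.v D.dim D.nil D.top).2 w
  rw [← poly_mulVec, Matrix.mulVec_mulVec, D.pow_mul_poly, Matrix.smul_mulVec] at hw
  refine ⟨a 0, fun h => hw (by rw [h, zero_smul]), ?_⟩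
  rw [← poly_mulVec, Matrix.mulVec_mulVec, D.pow_mul_poly, Matrix.smul_mulVec, om_smul_left,
    ← adj_adj (poly D.c a), ← om_adj, Matrix.mulVec_mulVec, adj_poly D.anti,
    (commute_poly D.c ((Commute.refl D.c).pow_left k) (tw a)).symm.eq, D.pow_mul_poly, Matrix.smul_mulVec,
    om_smul_left]
  have ht : tw a 0 = a 0 := by simp [tw]
  rw [ht]
  ring

variable [Fintype F]

theorem exists_sqrt (h2 : (2 : F) ≠ 0) {a : Fin (k + 1) → F} (ha : IsEven' a) (h0 : a 0 = 1) :
    ∃ b : Fin (k + 1) → F, IsEven' b ∧ b 0 = 1 ∧ poly D.c b * poly D.c b = poly D.c a := by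
  obtain ⟨p, hp⟩ := CharP.exists F
  haveI hpr : Fact p.Prime := ⟨(CharP.char_is_prime_or_zero F p).resolve_right fun h => by
    subst h
    haveI := CharP.charP_to_charZero F
    exact not_finite F⟩
  have hpodd : Odd p := hpr.out.odd_of_ne_two fun h => by
    subst h
    exact h2 (by exact_mod_cast CharP.cast_eq_zero F 2)
  haveI : Nonempty (Idx m) := Fintype.card_pos_iff.mp (by rw [D.dim]; omega)
  set Z := poly D.c a - a 0 • (1 : Mat m F) with hZ
  have hY : poly D.c a = 1 + Z := by rw [hZ, h0, one_smul, add_sub_cancel]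
  obtain ⟨N, hN⟩ := isNilpotent_tail D.c D.nil a
  have hpow : poly D.c a ^ p ^ N = 1 := by
    rw [hY, add_pow_char_pow_of_commute p N (Commute.one_left Z), one_pow,
      pow_eq_zero_of_le (Nat.lt_pow_self hpr.out.one_lt).le hN, add_zero]
  obtain ⟨r, hr⟩ := hpodd.pow (n := N)
  have hc : Commute (poly D.c a ^ (r + 1)) D.c := ((commute_poly D.c (Commute.refl D.c) a).symm).pow_left _
  obtain ⟨b, hb⟩ := commutant D.c D.v D.dim D.nil D.top hc
  refine ⟨b, even_of_tw h2 ?_, ?_, ?_⟩
  · apply poly_injective D.c D.v D.nil D.top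
    rw [← adj_poly D.anti, hb, adj_pow, adj_poly D.anti, tw_even ha]
  · refine D.coeff_zero hb ?_
    rw [D.pow_mul_poly_pow, h0, one_pow]
  · rw [hb, ← pow_add, show r + 1 + (r + 1) = p ^ N + 1 by omega, pow_succ, hpow, one_mul]

end RegData

theorem exists_cayley (h2 : (2 : F) ≠ 0) {u : Mat m F} (hu : u * adj u = 1) {n : ℕ} (hnil : (u - 1) ^ n = 0) :
    ∃ c : Mat m F, adj c = -c ∧ c ^ n = 0 ∧ c.rank = (u - 1).rank ∧ u * (1 - c) = 1 + c := by
  set N := u - 1 with hN
  have hu1 : IsUnit (u + 1) := by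
    have e : u + 1 = N + (2 : F) • (1 : Mat m F) := by rw [hN, two_smul]; abel
    rw [e]
    refine IsNilpotent.isUnit_add_right_of_commute ⟨n, hnil⟩ ?_ ((Commute.one_right N).smul_right _)
    exact ⟨⟨(2 : F) • 1, (2 : F)⁻¹ • 1, by simp [smul_smul, h2], by simp [smul_smul, h2]⟩, rfl⟩
  obtain ⟨U, hU⟩ := hu1
  have hcm : Commute N (U : Mat m F) := by
    rw [hU, hN]
    exact ((Commute.refl u).sub_left (Commute.one_left u)).add_right ((Commute.one_right _))
  have hcm' : Commute N ((U⁻¹ : (Mat m F)ˣ) : Mat m F) := hcm.units_inv_right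
  refine ⟨N * ((U⁻¹ : (Mat m F)ˣ) : Mat m F), ?_, ?_, ?_, ?_⟩
  · have e1 : N * ((U⁻¹ : (Mat m F)ˣ) : Mat m F) * (U : Mat m F) = N := by rw [mul_assoc, Units.inv_mul, mul_one]
    set c := N * ((U⁻¹ : (Mat m F)ˣ) : Mat m F)
    rw [hU] at e1
    have e2 := congrArg adj e1
    rw [adj_mul, adj_add, adj_one, hN, adj_sub, adj_one] at e2
    have e3 : adj c * (u + 1) = -(u - 1) := by
      have e4 := congrArg (u * ·) e2
      simp only [← mul_assoc, mul_add, mul_sub, hu, mul_one] at e4
      have hcomm : Commute (1 + u) (adj c) := by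
        have h5 : u + 1 = 1 + u := add_comm _ _
        have hucm : Commute u (adj c) := by
          have hc1 : Commute u c := by
            have : Commute u N := (Commute.refl u).sub_right (Commute.one_right u)
            refine this.mul_right ?_
            refine Commute.units_inv_right ?_
            rw [hU]
            exact (Commute.refl u).add_right (Commute.one_right u)
          have h6 := congrArg adj hc1.eq
          rw [adj_mul u c, adj_mul c u] at h6
          calc u * adj c = u * (adj c * adj u) * u := by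
                rw [mul_assoc, mul_assoc, mul_eq_one_comm.mp hu, mul_one]
            _ = u * (adj u * adj c) * u := by rw [h6]
            _ = adj c * u := by rw [← mul_assoc, hu, one_mul]
        exact (Commute.one_left _).add_left hucm
      rw [hcomm.eq] at e4
      rw [neg_sub, ← e4, add_comm u 1]
    rw [← hU] at e3
    calc adj c = adj c * (U : Mat m F) * ((U⁻¹ : (Mat m F)ˣ) : Mat m F) := by rw [mul_assoc, Units.mul_inv, mul_one]
      _ = -c := by rw [e3, neg_mul]
  · rw [hcm'.mul_pow, hnil, zero_mul]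
  · exact Matrix.rank_mul_eq_left_of_isUnit_det _ _ ((Matrix.isUnit_iff_isUnit_det _).mp (Units.isUnit _))
  · set c := N * ((U⁻¹ : (Mat m F)ˣ) : Mat m F) with hc
    have e1 : (U : Mat m F) * c = N := by rw [hc, ← mul_assoc, ← hcm.eq, mul_assoc, Units.mul_inv, mul_one]
    rw [hU, hN, add_mul, one_mul] at e1
    rw [mul_sub, mul_one]
    have : u * c = u - 1 - c := eq_sub_of_add_eq e1
    rw [this]
    abel

theorem commute_iff_cayley (h2 : (2 : F) ≠ 0) {u c M : Mat m F} {n : ℕ} (hnil : (u - 1) ^ n = 0) (hcn : c ^ n = 0)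
    (h : u * (1 - c) = 1 + c) : Commute M u ↔ Commute M c := by
  have hu1 : IsUnit (u + 1) := by
    have e : u + 1 = (u - 1) + (2 : F) • (1 : Mat m F) := by rw [two_smul]; abel
    rw [e]
    refine IsNilpotent.isUnit_add_right_of_commute ⟨n, hnil⟩ ?_ ((Commute.one_right _).smul_right _)
    exact ⟨⟨(2 : F) • 1, (2 : F)⁻¹ • 1, by simp [smul_smul, h2], by simp [smul_smul, h2]⟩, rfl⟩
  have hc1 : IsUnit (1 - c) := IsNilpotent.isUnit_one_sub ⟨n, hcn⟩
  have e : (u + 1) * c = u - 1 := by
    rw [mul_sub, mul_one] at h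
    rw [add_mul, one_mul]
    calc u * c + c = u - (u - u * c) + c := by abel
      _ = u - 1 := by rw [h]; abel
  constructor
  · intro hM
    have h1 : (u + 1) * (M * c) = (u + 1) * (c * M) := by
      rw [← mul_assoc, ← mul_assoc, e, ← (hM.add_right (Commute.one_right M)).eq, mul_assoc, e]
      exact (hM.sub_right (Commute.one_right M)).eq
    exact hu1.mul_left_cancel h1
  · intro hM
    have h1 : (M * u) * (1 - c) = (u * M) * (1 - c) := by
      rw [mul_assoc, h, mul_assoc, ((Commute.one_right M).sub_right hM).eq, ← mul_assoc, h]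
      exact ((Commute.one_right M).add_right hM).eq
    exact hc1.mul_right_cancel h1

theorem exists_cayley_inv {c : Mat m F} (hc : adj c = -c) {n : ℕ} (hnil : c ^ n = 0) :
    ∃ u : Mat m F, u * adj u = 1 ∧ (u - 1) ^ n = 0 ∧ u * (1 - c) = 1 + c ∧
      ((2 : F) ≠ 0 → (u - 1).rank = c.rank) := by
  obtain ⟨V, hV⟩ := IsNilpotent.isUnit_one_sub (⟨n, hnil⟩ : IsNilpotent c)
  set u := (1 + c) * ((V⁻¹ : (Mat m F)ˣ) : Mat m F) with hu
  have hcV : Commute c ((V⁻¹ : (Mat m F)ˣ) : Mat m F) := by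
    refine Commute.units_inv_right ?_
    rw [hV]
    exact (Commute.one_right c).sub_right (Commute.refl c)
  have hrel : u * (1 - c) = 1 + c := by rw [hu, ← hV, mul_assoc, Units.inv_mul, mul_one]
  have hsub : u - 1 = ((2 : F) • c) * ((V⁻¹ : (Mat m F)ˣ) : Mat m F) := by
    have h1 : (V : Mat m F) * ((V⁻¹ : (Mat m F)ˣ) : Mat m F) = 1 := Units.mul_inv V
    calc u - 1 = (1 + c) * ((V⁻¹ : (Mat m F)ˣ) : Mat m F) - (1 - c) * ((V⁻¹ : (Mat m F)ˣ) : Mat m F) := by
          rw [← hV, h1]
      _ = _ := by rw [← sub_mul, two_smul]; congr 1; abel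
  refine ⟨u, ?_, ?_, hrel, fun h2 => ?_⟩
  · have h := congrArg adj hrel
    rw [adj_mul, adj_sub, adj_add, adj_one, hc, sub_neg_eq_add, ← sub_eq_add_neg] at h
    have hW : IsUnit (1 + c) := IsNilpotent.isUnit_one_add ⟨n, hnil⟩
    apply hW.mul_left_cancel
    rw [mul_one, ← mul_assoc]
    have hcu : Commute (1 + c) u := by
      refine Commute.mul_right (Commute.refl _) ?_
      exact (Commute.one_left _).add_left hcV
    rw [hcu.eq, mul_assoc, h, hrel]
  · rw [hsub, (hcV.smul_left (2 : F)).mul_pow, smul_pow, hnil, smul_zero, zero_mul]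
  · rw [hsub, Matrix.rank_mul_eq_left_of_isUnit_det _ _ ((Matrix.isUnit_iff_isUnit_det _).mp (Units.isUnit _))]
    rw [show (2 : F) • c = ((2 : F) • (1 : Mat m F)) * c by rw [smul_mul_assoc, one_mul],
      Matrix.rank_mul_eq_right_of_isUnit_det _ _ ?_]
    rw [Matrix.det_smul, Matrix.det_one, mul_one]
    exact (pow_ne_zero _ h2).isUnit

/-! ### Congruence of two data -/

theorem exists_intertwine {k : ℕ} (D D' : RegData m k F) {w : Idx m → F} (hw : (D'.c ^ k).mulVec w ≠ 0) :
    ∃ g : GL (Idx m) F, (g : Mat m F) * D.c = D'.c * (g : Mat m F) ∧ (g : Mat m F).mulVec D.v = w := by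
  obtain ⟨g, hg⟩ := exists_similar D.c D.v D.dim D.nil D.top D'.c D'.v D'.nil D'.top
  obtain ⟨a, ha⟩ := (krylov_bijective D'.c D'.v D'.dim D'.nil D'.top).2 w
  obtain ⟨b, hb⟩ := (krylov_bijective D'.c D'.v D'.dim D'.nil D'.top).2 ((g : Mat m F).mulVec D.v)
  have hgk : ∀ j : ℕ, (g : Mat m F) * D.c ^ j = D'.c ^ j * (g : Mat m F) := fun j => (SemiconjBy.pow_right hg j).eq
  have hb0 : b 0 ≠ 0 := by
    intro h0
    refine D.top ?_
    have h1 : (g : Mat m F).mulVec ((D.c ^ k).mulVec D.v) = 0 := by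
      rw [Matrix.mulVec_mulVec, hgk, ← Matrix.mulVec_mulVec, ← hb, ← poly_mulVec, Matrix.mulVec_mulVec,
        D'.pow_mul_poly, h0, zero_smul, Matrix.zero_mulVec]
    have h2 := congrArg ((g⁻¹ : GL (Idx m) F) : Mat m F).mulVec h1
    rwa [Matrix.mulVec_mulVec, Units.inv_mul, Matrix.one_mulVec, Matrix.mulVec_zero] at h2
  have ha0 : a 0 ≠ 0 := by
    intro h0
    refine hw ?_
    rw [← ha, ← poly_mulVec, Matrix.mulVec_mulVec, D'.pow_mul_poly, h0, zero_smul, Matrix.zero_mulVec]
  obtain ⟨B, hB⟩ := D'.isUnit_poly.mpr hb0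
  obtain ⟨A, hA⟩ := D'.isUnit_poly.mpr ha0
  have hBc : Commute (B : Mat m F) D'.c := by rw [hB]; exact (commute_poly D'.c (Commute.refl _) b).symm
  have hAc : Commute (A : Mat m F) D'.c := by rw [hA]; exact (commute_poly D'.c (Commute.refl _) a).symm
  refine ⟨A * B⁻¹ * g, ?_, ?_⟩
  · have hP : Commute ((A * B⁻¹ : (Mat m F)ˣ) : Mat m F) D'.c := by
      rw [Units.val_mul]; exact hAc.mul_left hBc.units_inv_left
    rw [Units.val_mul, mul_assoc, hg, ← mul_assoc, hP.eq, mul_assoc]
  · rw [Units.val_mul, ← Matrix.mulVec_mulVec, ← hb, ← poly_mulVec, Units.val_mul, ← hB, Matrix.mulVec_mulVec,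
      mul_assoc, Units.inv_mul, mul_one, hA, poly_mulVec, ha]

theorem om_poly {k : ℕ} (D : RegData m k F) (a b : Fin (k + 1) → F) :
    om ((poly D.c a).mulVec D.v) ((poly D.c b).mulVec D.v) =
      ∑ j : Fin (k + 1), ∑ i : Fin (k + 1), tw b j * a i * om ((D.c ^ ((j : ℕ) + i)).mulVec D.v) D.v := by
  rw [← adj_adj (poly D.c b), ← om_adj, adj_poly D.anti, Matrix.mulVec_mulVec, poly, poly, Finset.sum_mul]
  simp only [Finset.mul_sum, Matrix.sum_mulVec, smul_mul_smul_comm, ← pow_add, Matrix.smul_mulVec]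
  rw [om, sum_dotProduct]
  refine Finset.sum_congr rfl fun j _ => ?_
  rw [sum_dotProduct]
  refine Finset.sum_congr rfl fun i _ => ?_
  rw [smul_dotProduct]
  rfl

theorem conj_of_beta [Fintype F] (h2 : (2 : F) ≠ 0) {l : ℕ} (D D' : RegData m (2 * l + 1) F) {t : F} (ht : t ≠ 0)
    (h : om ((D'.c ^ (2 * l + 1)).mulVec D'.v) D'.v = t ^ 2 * om ((D.c ^ (2 * l + 1)).mulVec D.v) D.v) :
    ∃ g : GL (Idx m) F, (g : Mat m F) * D.c = D'.c * (g : Mat m F) ∧ (g : Mat m F) * adj (g : Mat m F) = 1 := by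
  classical
  set v' : Idx m → F := t⁻¹ • D'.v with hv'
  have htop : (D'.c ^ (2 * l + 1)).mulVec v' ≠ 0 := by
    rw [hv', Matrix.mulVec_smul]
    exact smul_ne_zero (inv_ne_zero ht) D'.top
  let D'' : RegData m (2 * l + 1) F := ⟨D'.c, v', D'.anti, D'.nil, htop, D'.dim⟩
  have hβ : om ((D''.c ^ (2 * l + 1)).mulVec D''.v) D''.v = om ((D.c ^ (2 * l + 1)).mulVec D.v) D.v := by
    show om ((D'.c ^ (2 * l + 1)).mulVec v') v' = _
    rw [hv', Matrix.mulVec_smul, om_smul_left, om_smul_right, h]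
    field_simp
  let ev : (Fin (l + 1) → F) → (Fin (2 * l + 1 + 1) → F) := fun b i =>
    if Even (i : ℕ) then b ⟨(i : ℕ) / 2, by omega⟩ else 0
  have hev : ∀ b, IsEven' (ev b) := fun b i hi => if_neg (by rwa [Nat.not_even_iff_odd])
  have hev0 : ∀ b, ev b 0 = b 0 := fun b => by simp [ev]
  let L : (Fin (l + 1) → F) →ₗ[F] (Fin (l + 1) → F) :=
    { toFun := fun b j => om ((D''.c ^ (2 * (j : ℕ) + 1) * poly D''.c (ev b)).mulVec D''.v) D''.v
      map_add' := fun b b' => by
        funext j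
        have e : ev (b + b') = ev b + ev b' := by funext i; simp only [ev, Pi.add_apply]; split_ifs <;> simp
        show om (F := F) (m := m) _ _ = om (F := F) (m := m) _ _ + om (F := F) (m := m) _ _
        rw [e, poly_add, mul_add, Matrix.add_mulVec, om, add_dotProduct]
        rfl
      map_smul' := fun r b => by
        funext j
        have e : ev (r • b) = r • ev b := by funext i; simp only [ev, Pi.smul_apply]; split_ifs <;> simp
        show om (F := F) (m := m) _ _ = r * om (F := F) (m := m) _ _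
        rw [e, show poly D''.c (r • ev b) = r • poly D''.c (ev b) by simp [poly, Finset.smul_sum, smul_smul],
          mul_smul_comm, Matrix.smul_mulVec, om_smul_left] }
  have heven : ∀ (b : Fin (l + 1) → F) (i : ℕ), Even i →
      om ((D''.c ^ i * poly D''.c (ev b)).mulVec D''.v) D''.v = 0 := by
    intro b i hi
    refine om_self_adj h2 ?_ _
    rw [adj_mul, adj_pow, D''.anti, hi.neg_pow, adj_poly D''.anti, tw_even (hev b)]
    exact (commute_poly D''.c ((Commute.refl D''.c).pow_left i) _).symm.eq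
  have hinj : Function.Injective L := by
    rw [← LinearMap.ker_eq_bot, LinearMap.ker_eq_bot']
    intro b hb
    have hall : ∀ i, i ≤ 2 * l + 1 → om ((D''.c ^ i * poly D''.c (ev b)).mulVec D''.v) D''.v = 0 := by
      intro i hi
      rcases Nat.even_or_odd i with he | ⟨j, rfl⟩
      · exact heven b i he
      · exact congrFun hb (⟨j, by omega⟩ : Fin (l + 1))
    have hz : (poly D''.c (ev b)).mulVec D''.v = 0 := by
      refine om_nondeg fun y => ?_
      obtain ⟨a, rfl⟩ := (krylov_bijective D''.c D''.v D''.dim D''.nil D''.top).2 y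
      rw [← poly_mulVec, ← adj_adj (poly D''.c a), ← om_adj, adj_poly D''.anti, Matrix.mulVec_mulVec, poly,
        Finset.sum_mul, Matrix.sum_mulVec, om, sum_dotProduct]
      refine Finset.sum_eq_zero fun i _ => ?_
      rw [smul_mul_assoc, Matrix.smul_mulVec, smul_dotProduct]
      show tw a i * om _ _ = 0
      rw [hall i (Nat.le_of_lt_succ i.2), mul_zero]
    rw [poly_mulVec] at hz
    have h0 := krylov_injective D''.c D''.v D''.nil D''.top (hz.trans (map_zero _).symm)
    funext j
    have h1 := congrFun h0 (⟨2 * (j : ℕ), by omega⟩ : Fin (2 * l + 1 + 1))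
    simp only [ev, even_two_mul, if_pos, Pi.zero_apply] at h1
    have hj : (⟨2 * (j : ℕ) / 2, by omega⟩ : Fin (l + 1)) = j :=
      Fin.ext (Nat.mul_div_cancel_left _ (by norm_num))
    rwa [hj] at h1
  obtain ⟨b, hb⟩ := LinearMap.injective_iff_surjective.mp hinj
    (fun j => om ((D.c ^ (2 * (j : ℕ) + 1)).mulVec D.v) D.v)
  have hb0 : b 0 = 1 := by
    have h1 := congrFun hb (Fin.last l)
    change om ((D''.c ^ (2 * l + 1) * poly D''.c (ev b)).mulVec D''.v) D''.v =
      om ((D.c ^ (2 * l + 1)).mulVec D.v) D.v at h1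
    rw [D''.pow_mul_poly, hev0, Matrix.smul_mulVec, om_smul_left, hβ] at h1
    have h3 := D.beta_ne
    exact mul_right_cancel₀ h3 (h1.trans (one_mul _).symm)
  obtain ⟨y, hy, hy0, hyy⟩ := D''.exists_sqrt h2 (hev b) (by rw [hev0, hb0])
  set w := (poly D''.c y).mulVec D''.v with hw
  have hwtop : (D'.c ^ (2 * l + 1)).mulVec w ≠ 0 := by
    show (D''.c ^ (2 * l + 1)).mulVec w ≠ 0
    rw [hw, Matrix.mulVec_mulVec, D''.pow_mul_poly, hy0, one_smul]
    exact D''.top
  let W : RegData m (2 * l + 1) F := ⟨D'.c, w, D'.anti, D'.nil, hwtop, D'.dim⟩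
  obtain ⟨g, hg, hgv⟩ := exists_intertwine D D' (w := w) hwtop
  refine ⟨g, hg, ?_⟩
  have hf : ∀ i : ℕ, om ((W.c ^ i).mulVec W.v) W.v = om ((D.c ^ i).mulVec D.v) D.v := by
    intro i
    show om ((D''.c ^ i).mulVec w) w = _
    have e : om ((D''.c ^ i).mulVec w) w = om ((D''.c ^ i * poly D''.c (ev b)).mulVec D''.v) D''.v := by
      conv_lhs => arg 2; rw [hw]
      rw [← adj_adj (poly D''.c y), ← om_adj, adj_poly D''.anti, tw_even hy, hw, Matrix.mulVec_mulVec,
        Matrix.mulVec_mulVec, ← hyy, ← mul_assoc,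
        (commute_poly D''.c ((Commute.refl D''.c).pow_left i) y).symm.eq, mul_assoc]
    rw [e]
    rcases Nat.lt_or_ge i (2 * l + 1 + 1) with hi | hi
    · rcases Nat.even_or_odd i with he | ⟨j, rfl⟩
      · rw [heven b i he, om_self_adj h2 (by rw [adj_pow, D.anti, he.neg_pow])]
      · exact congrFun hb (⟨j, by omega⟩ : Fin (l + 1))
    · rw [pow_eq_zero_of_le hi D''.nil, pow_eq_zero_of_le hi D.nil]
      simp [om]
  have hgP : ∀ a : Fin (2 * l + 1 + 1) → F, (g : Mat m F).mulVec ((poly D.c a).mulVec D.v) = (poly W.c a).mulVec W.v := by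
    intro a
    have hgk : ∀ j : ℕ, (g : Mat m F) * D.c ^ j = D'.c ^ j * (g : Mat m F) := fun j => (SemiconjBy.pow_right hg j).eq
    show _ = (poly D'.c a).mulVec w
    rw [← hgv, Matrix.mulVec_mulVec, Matrix.mulVec_mulVec, poly, poly, Finset.mul_sum, Finset.sum_mul]
    congr 1
    exact Finset.sum_congr rfl fun j _ => by rw [mul_smul_comm, smul_mul_assoc, hgk]
  have hform : ∀ x z, om ((g : Mat m F).mulVec x) ((g : Mat m F).mulVec z) = om x z := by
    intro x z
    obtain ⟨a, rfl⟩ := (krylov_bijective D.c D.v D.dim D.nil D.top).2 x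
    obtain ⟨a', rfl⟩ := (krylov_bijective D.c D.v D.dim D.nil D.top).2 z
    rw [← poly_mulVec, ← poly_mulVec, hgP, hgP, om_poly W, om_poly D]
    simp only [hf]
  apply mul_eq_one_comm.mp
  refine Matrix.ext_of_mulVec_single fun i => ?_
  rw [Matrix.one_mulVec, ← sub_eq_zero]
  set z : Idx m → F := Pi.single i 1
  refine om_nondeg fun y => ?_
  have h1 : om ((adj (g : Mat m F) * (g : Mat m F)).mulVec z) y = om z y := by
    rw [← Matrix.mulVec_mulVec, om_adj, adj_adj]
    exact hform z y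
  rw [om, sub_dotProduct]
  exact sub_eq_zero.mpr h1

/-! ### Models -/

/-- The model regular element. -/
def model (l : ℕ) (γ : F) : Mat (l + 1) F :=
  fromBlocks (shift l) 0 (Matrix.single (Fin.last l) (Fin.last l) γ) (-(shift l)ᵀ)

theorem model_anti (l : ℕ) (γ : F) : adj (model l γ) = -model l γ := by
  rw [adj, model, fromBlocks_transpose, J, fromBlocks_multiply, fromBlocks_multiply, fromBlocks_neg, fromBlocks_neg]
  simp [Matrix.transpose_single]

theorem model_pow (l : ℕ) (γ : F) (j : ℕ) :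
    ∃ X, model l γ ^ j = fromBlocks (shift l ^ j) 0 X ((-(shift (F := F) l)ᵀ) ^ j) := by
  induction j with
  | zero => exact ⟨0, by rw [pow_zero, pow_zero, pow_zero, fromBlocks_one]⟩
  | succ j ih =>
    obtain ⟨X, hX⟩ := ih
    exact ⟨X * shift l + (-(shift (F := F) l)ᵀ) ^ j * Matrix.single (Fin.last l) (Fin.last l) γ, by
      rw [pow_succ, hX, model, fromBlocks_multiply, pow_succ, pow_succ]; simp⟩

theorem model_nil (l : ℕ) (γ : F) : model l γ ^ (2 * l + 1 + 1) = 0 := by
  obtain ⟨X, hX⟩ := model_pow l γ (l + 1)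
  have h0 : (-(shift (F := F) l)ᵀ) ^ (l + 1) = 0 := by
    rw [neg_pow, ← transpose_pow, shift_nil, transpose_zero, mul_zero]
  rw [h0, shift_nil] at hX
  rw [show 2 * l + 1 + 1 = (l + 1) + (l + 1) by omega, pow_add, hX, fromBlocks_multiply]
  simp

theorem shift_mulVec_single (l : ℕ) (i : Fin (l + 1)) (j : ℕ) :
    (shift (F := F) l ^ j).mulVec (Pi.single i 1) = if h : (i : ℕ) + j ≤ l then Pi.single ⟨(i : ℕ) + j, by omega⟩ 1 else 0 := by
  funext x
  rw [Matrix.mulVec_single_one]
  show (shift l ^ j) x i = _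
  rw [shift_pow]
  split_ifs with h1 h2 h2
  · rw [show x = (⟨(i : ℕ) + j, by omega⟩ : Fin (l + 1)) from Fin.ext h1, Pi.single_eq_same]
  · omega
  · rw [Pi.single_eq_of_ne (fun e => h1 (by rw [e]))]
  · rfl

theorem model_top (l : ℕ) (γ : F) :
    (model l γ ^ (2 * l + 1)).mulVec (Sum.elim (Pi.single 0 1) (0 : Fin (l + 1) → F)) = Sum.elim (0 : Fin (l + 1) → F) (((-1) ^ l * γ) • Pi.single 0 1) := by
  have hup : ∀ j : ℕ, j ≤ l → (model l γ ^ j).mulVec (Sum.elim (Pi.single 0 1) (0 : Fin (l + 1) → F)) =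
      Sum.elim ((shift (F := F) l ^ j).mulVec (Pi.single 0 1)) (0 : Fin (l + 1) → F) := by
    intro j
    induction j with
    | zero => intro _; simp only [pow_zero, Matrix.one_mulVec]
    | succ j ih =>
      intro hj
      rw [pow_succ', ← Matrix.mulVec_mulVec, ih (by omega), model, fromBlocks_mulVec]
      simp only [Sum.elim_comp_inl, Sum.elim_comp_inr, Matrix.mulVec_zero, add_zero, Matrix.mulVec_mulVec]
      rw [← pow_succ']
      congr 1
      rw [← Matrix.mulVec_mulVec, shift_mulVec_single, dif_pos (by simp; omega)]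
      funext x
      simp only [Matrix.mulVec_single_one, Matrix.col_apply, Pi.zero_apply, Matrix.single_apply]
      rw [if_neg]
      rintro ⟨-, e⟩
      have := congrArg Fin.val e
      simp at this
      omega
  have hdown : ∀ a : Fin (l + 1) → F, ∀ j : ℕ, (model l γ ^ j).mulVec (Sum.elim (0 : Fin (l + 1) → F) a) =
      Sum.elim (0 : Fin (l + 1) → F) (((-(shift (F := F) l)ᵀ) ^ j).mulVec a) := by
    intro a j
    obtain ⟨X, hX⟩ := model_pow l γ j
    rw [hX, fromBlocks_mulVec]
    simp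
  have hmid : (model l γ).mulVec (Sum.elim ((shift (F := F) l ^ l).mulVec (Pi.single 0 1)) (0 : Fin (l + 1) → F)) =
      Sum.elim (0 : Fin (l + 1) → F) (γ • Pi.single (Fin.last l) 1) := by
    rw [model, fromBlocks_mulVec]
    simp only [Sum.elim_comp_inl, Sum.elim_comp_inr, Matrix.mulVec_zero, add_zero]
    rw [shift_mulVec_single, dif_pos (by simp)]
    have e : (⟨((0 : Fin (l + 1)) : ℕ) + l, by simp⟩ : Fin (l + 1)) = Fin.last l := Fin.ext (by simp)
    rw [e]
    congr 1
    · rw [← pow_one (shift (F := F) l), shift_mulVec_single, dif_neg (by simp)]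
    · funext x
      simp [Matrix.single_apply, Pi.single_apply, eq_comm]
  rw [show 2 * l + 1 = l + (1 + l) by omega, pow_add, pow_add, pow_one, ← Matrix.mulVec_mulVec, ← Matrix.mulVec_mulVec,
    hup l le_rfl, hmid, hdown, Matrix.mulVec_smul]
  congr 1
  rw [show (-(shift (F := F) l)ᵀ) = (-1 : F) • (shift (F := F) l)ᵀ by simp, smul_pow, Matrix.smul_mulVec,
    ← transpose_pow, smul_smul, mul_comm γ]
  congr 1
  funext x
  rw [Matrix.mulVec_single_one, Matrix.col_apply, transpose_apply, shift_pow, Pi.single_apply]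
  by_cases hx : x = 0
  · subst hx; simp
  · rw [if_neg (show ¬ ((Fin.last l : Fin (l + 1)) : ℕ) = (x : ℕ) + l from fun e => hx (Fin.ext (by simp at e; simpa using e))),
      if_neg hx]

theorem exists_regData [Fintype F] (l : ℕ) {γ : F} (hγ : γ ≠ 0) :
    ∃ D : RegData (l + 1) (2 * l + 1) F, om ((D.c ^ (2 * l + 1)).mulVec D.v) D.v = γ := by
  have hne : (-1 : F) ^ l * γ ≠ 0 := mul_ne_zero (pow_ne_zero _ (neg_ne_zero.mpr one_ne_zero)) hγ
  refine ⟨⟨model l ((-1) ^ l * γ), Sum.elim (Pi.single 0 1) (0 : Fin (l + 1) → F), model_anti _ _, model_nil _ _, ?_, by simp; omega⟩, ?_⟩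
  · rw [model_top, ← mul_assoc, ← mul_pow]
    intro h
    have h1 := congrFun h (Sum.inr 0)
    simp [hγ] at h1
  · show om ((model l _ ^ (2 * l + 1)).mulVec (Sum.elim (Pi.single 0 1) (0 : Fin (l + 1) → F))) (Sum.elim (Pi.single 0 1) (0 : Fin (l + 1) → F)) = γ
    rw [model_top, om, J, fromBlocks_mulVec]
    simp only [Sum.elim_comp_inl, Sum.elim_comp_inr, Matrix.mulVec_zero, Matrix.zero_mulVec, add_zero,
      Matrix.one_mulVec, sumElim_dotProduct_sumElim, zero_dotProduct, zero_add]
    simp [← mul_assoc, ← mul_pow, dotProduct_single]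

/-! ### Counting the centraliser -/

/-- The adjoint of a unit. -/
def adjU (g : GL (Idx m) F) : GL (Idx m) F :=
  ⟨adj (g : Mat m F), adj ((g⁻¹ : GL (Idx m) F) : Mat m F),
    by rw [← adj_mul, Units.inv_mul, adj_one], by rw [← adj_mul, Units.mul_inv, adj_one]⟩

/-- Coefficient vector with prescribed even coefficients. -/
def evVec {l : ℕ} (x : F) (f : Fin l → F) (i : Fin (2 * l + 1 + 1)) : F :=
  if h0 : (i : ℕ) = 0 then x else
    if he : Even (i : ℕ) then f ⟨(i : ℕ) / 2 - 1, by obtain ⟨r, hr⟩ := he; omega⟩ else 0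

theorem two_mul_card_squares [Fintype F] [DecidableEq F] (h2 : (2 : F) ≠ 0) :
    2 * Nat.card {x : F // x ≠ 0 ∧ IsSquare x} = Fintype.card F - 1 := by
  have hker : Nat.card (powMonoidHom 2 : Fˣ →* Fˣ).ker = 2 := by
    have h1 : ((powMonoidHom 2 : Fˣ →* Fˣ).ker : Set Fˣ) = {1, -1} := by
      ext x
      simp only [SetLike.mem_coe, MonoidHom.mem_ker, powMonoidHom_apply, Set.mem_insert_iff, Set.mem_singleton_iff]
      constructor
      · intro h
        have h' : (x : F) ^ 2 = 1 := by rw [← Units.val_pow_eq_pow_val, h, Units.val_one]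
        rcases sq_eq_one_iff.mp h' with h3 | h3
        · exact Or.inl (Units.ext h3)
        · exact Or.inr (Units.ext (by simpa using h3))
      · rintro (rfl | rfl) <;> simp
    rw [← SetLike.coe_sort_coe, Nat.card_coe_set_eq, h1, Set.ncard_pair]
    intro h
    apply h2
    have h' := congrArg Units.val h
    simp only [Units.val_one, Units.val_neg] at h'
    linear_combination h'
  have hr := Subgroup.card_eq_card_quotient_mul_card_subgroup (powMonoidHom 2 : Fˣ →* Fˣ).ker
  rw [hker, Nat.card_congr (QuotientGroup.quotientKerEquivRange (powMonoidHom 2 : Fˣ →* Fˣ)).toEquiv,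
    Nat.card_units, Nat.card_eq_fintype_card (α := F)] at hr
  rw [hr, mul_comm]
  congr 1
  refine Nat.card_congr
    { toFun := fun x => ⟨Units.mk0 x.1 x.2.1, by
        obtain ⟨r, hr⟩ := x.2.2
        have hr0 : r ≠ 0 := fun h => x.2.1 (by rw [hr, h, mul_zero])
        exact ⟨Units.mk0 r hr0, Units.ext (by simp [hr, pow_two])⟩⟩
      invFun := fun y => ⟨y.1.1, y.1.ne_zero, by
        obtain ⟨r, hr⟩ := y.2
        exact ⟨r.1, by rw [← hr]; simp [pow_two]⟩⟩
      left_inv := fun _ => rfl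
      right_inv := fun _ => Subtype.ext (Units.ext rfl) }

theorem card_fix_centralizer [Fintype F] (h2 : (2 : F) ≠ 0) {l : ℕ} (D : RegData m (2 * l + 1) F) :
    Nat.card {g : GL (Idx m) F // Commute (g : Mat m F) D.c ∧ (g : Mat m F) * adj (g : Mat m F) = 1} =
      2 * Fintype.card F ^ (l + 1) := by
  classical
  set q := Fintype.card F
  let U : Subgroup (GL (Idx m) F) :=
    { carrier := {g | Commute (g : Mat m F) D.c}
      mul_mem' := fun {a b} ha hb => by
        show Commute ((a * b : GL (Idx m) F) : Mat m F) D.c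
        rw [Units.val_mul]; exact ha.mul_left hb
      one_mem' := Commute.one_left _
      inv_mem' := fun {a} ha => ha.units_inv_left }
  have hU : Nat.card U = (q - 1) * q ^ (2 * l + 1) := by
    have e : Nat.card {a : Fin (2 * l + 1 + 1) → F // a 0 ≠ 0} = (q - 1) * q ^ (2 * l + 1) := by
      rw [Nat.card_congr (((Fin.consEquiv fun _ => F).symm.subtypeEquiv (q := fun x => x.1 ≠ 0) (fun a => by
          simp [Fin.consEquiv])).trans (Equiv.prodSubtypeFstEquivSubtypeProd (p := fun x : F => x ≠ 0))),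
        Nat.card_prod, Nat.card_fun, Nat.card_eq_fintype_card (α := Fin (2 * l + 1)), Fintype.card_fin,
        Nat.card_eq_fintype_card (α := F)]
      congr 1
      rw [Nat.card_eq_fintype_card, Fintype.card_subtype_compl, Fintype.card_subtype_eq]
    rw [← e]
    refine (Nat.card_eq_of_bijective (fun a : {a : Fin (2 * l + 1 + 1) → F // a 0 ≠ 0} =>
      (⟨(D.isUnit_poly.mpr a.2).unit, (commute_poly D.c (Commute.refl D.c) a.1).symm⟩ : U)) ⟨fun a b h => ?_, fun g => ?_⟩).symm
    · exact Subtype.ext (poly_injective D.c D.v D.nil D.top (congrArg (fun x : U => ((x : GL (Idx m) F) : Mat m F)) h :))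
    · obtain ⟨a, ha⟩ := commutant D.c D.v D.dim D.nil D.top g.2
      refine ⟨⟨a, D.isUnit_poly.mp (ha ▸ Units.isUnit _)⟩, Subtype.ext (Units.ext ?_)⟩
      exact ha
  let φ : U →* GL (Idx m) F := MonoidHom.mk'
    (fun g => g.1 * adjU g.1)
    (fun g h => Units.ext (by
      show ((g.1 * h.1 : GL (Idx m) F) : Mat m F) * adj ((g.1 * h.1 : GL (Idx m) F) : Mat m F) =
        ((g.1 : Mat m F) * adj (g.1 : Mat m F)) * ((h.1 : Mat m F) * adj (h.1 : Mat m F))
      have c1 : Commute (adj (h.1 : Mat m F)) (adj (g.1 : Mat m F)) := D.commute_two (D.commute_adj h.2) (D.commute_adj g.2)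
      have c2 : Commute (h.1 : Mat m F) (adj (g.1 : Mat m F)) := D.commute_two h.2 (D.commute_adj g.2)
      rw [Units.val_mul, adj_mul, c1.eq]
      simp only [mul_assoc]
      rw [← mul_assoc (h.1 : Mat m F), c2.eq, mul_assoc]))
  let E := {a : Fin (2 * l + 1 + 1) → F // IsEven' a ∧ a 0 ≠ 0 ∧ IsSquare (a 0)}
  have hE : 2 * Nat.card E = (q - 1) * q ^ l := by
    have e : Nat.card E = Nat.card ({x : F // x ≠ 0 ∧ IsSquare x} × (Fin l → F)) := Nat.card_congr
      { toFun := fun a => (⟨a.1 0, a.2.2⟩, fun j => a.1 ⟨2 * (j : ℕ) + 2, by omega⟩)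
        invFun := fun p => ⟨evVec p.1.1 p.2,
          fun i hi => by
            rw [evVec, dif_neg (fun h => by rw [h] at hi; exact Nat.not_odd_zero hi),
              dif_neg (Nat.not_even_iff_odd.mpr hi)],
          by simpa [evVec] using p.1.2⟩
        left_inv := fun a => by
          apply Subtype.ext
          funext i
          show evVec _ _ i = _
          rw [evVec]
          split_ifs with h0 he
          · exact congrArg a.1 (Fin.ext h0.symm)
          · refine congrArg a.1 (Fin.ext ?_)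
            obtain ⟨r, hr⟩ := he
            show 2 * ((i : ℕ) / 2 - 1) + 2 = (i : ℕ)
            omega
          · exact (a.2.1 i (Nat.not_even_iff_odd.mp he)).symm
        right_inv := fun p => by
          refine Prod.ext (Subtype.ext ?_) (funext fun j => ?_)
          · show evVec p.1.1 p.2 0 = p.1.1
            rw [evVec, dif_pos (by simp)]
          · show evVec p.1.1 p.2 ⟨2 * (j : ℕ) + 2, by omega⟩ = p.2 j
            rw [evVec, dif_neg (by simp), dif_pos ⟨(j : ℕ) + 1, by simp only; omega⟩]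
            refine congrArg p.2 (Fin.ext ?_)
            show (2 * (j : ℕ) + 2) / 2 - 1 = (j : ℕ)
            omega }
    rw [e, Nat.card_prod, ← mul_assoc, two_mul_card_squares h2, Nat.card_fun, Nat.card_eq_fintype_card (α := Fin l),
      Fintype.card_fin, Nat.card_eq_fintype_card (α := F)]
  have hrange : Nat.card φ.range = Nat.card E := by
    refine (Nat.card_eq_of_bijective (fun a : E => (⟨(D.isUnit_poly.mpr a.2.2.1).unit, ?_⟩ : φ.range)) ⟨?_, ?_⟩).symm
    · obtain ⟨s, hs⟩ := a.2.2.2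
      have hs0 : s ≠ 0 := fun h => a.2.2.1 (by rw [hs, h, mul_zero])
      obtain ⟨y, hy, hy0, hyy⟩ := D.exists_sqrt h2 (a := (a.1 0)⁻¹ • a.1)
        (fun i hi => by rw [Pi.smul_apply, a.2.1 i hi, smul_zero]) (by rw [Pi.smul_apply, smul_eq_mul, inv_mul_cancel₀ a.2.2.1])
      have hsm : ∀ (r : F) (b : Fin (2 * l + 1 + 1) → F), poly D.c (r • b) = r • poly D.c b := fun r b => by
        simp [poly, Finset.smul_sum, smul_smul]
      have hsy : (s • y) 0 ≠ 0 := by simp [hy0, hs0]
      refine ⟨⟨(D.isUnit_poly.mpr hsy).unit, (commute_poly D.c (Commute.refl D.c) (s • y)).symm⟩, Units.ext ?_⟩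
      show poly D.c (s • y) * adj (poly D.c (s • y)) = poly D.c a.1
      rw [hsm, adj_smul, adj_poly D.anti, tw_even hy, smul_mul_smul_comm, hyy, hsm, ← hs, smul_smul,
        mul_inv_cancel₀ a.2.2.1, one_smul]
    · intro a b h
      exact Subtype.ext (poly_injective D.c D.v D.nil D.top
        (congrArg (fun x : φ.range => ((x : GL (Idx m) F) : Mat m F)) h :))
    · rintro ⟨y, g, rfl⟩
      have hval : ((φ g : GL (Idx m) F) : Mat m F) = (g.1 : Mat m F) * adj (g.1 : Mat m F) := rfl
      have hcm : Commute ((φ g : GL (Idx m) F) : Mat m F) D.c := by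
        rw [hval]; exact (show Commute (g.1 : Mat m F) D.c from g.2).mul_left (D.commute_adj g.2)
      obtain ⟨a, ha⟩ := commutant D.c D.v D.dim D.nil D.top hcm
      obtain ⟨b, hb⟩ := commutant D.c D.v D.dim D.nil D.top g.2
      have ha0 : a 0 ≠ 0 := D.isUnit_poly.mp (ha ▸ Units.isUnit _)
      have hab : a 0 = b 0 * b 0 := by
        refine D.coeff_zero ha ?_
        rw [hval, ← hb, adj_poly D.anti, ← mul_assoc, D.pow_mul_poly, smul_mul_assoc, D.pow_mul_poly, smul_smul]
        simp [tw]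
      refine ⟨⟨a, even_of_tw h2 ?_, ha0, b 0, hab⟩, Subtype.ext (Units.ext ha)⟩
      apply poly_injective D.c D.v D.nil D.top
      rw [← adj_poly D.anti, ha, hval, adj_mul, adj_adj]
  have hker : Nat.card φ.ker = 2 * q ^ (l + 1) := by
    have h := Subgroup.card_eq_card_quotient_mul_card_subgroup φ.ker
    rw [Nat.card_congr (QuotientGroup.quotientKerEquivRange φ).toEquiv, hrange, hU] at h
    have hpos : 0 < (q - 1) * q ^ l := by
      have h1 : 1 < q := Fintype.one_lt_card
      exact Nat.mul_pos (by omega) (pow_pos (by omega) _)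
    apply Nat.eq_of_mul_eq_mul_left hpos
    calc (q - 1) * q ^ l * Nat.card φ.ker = 2 * (Nat.card E * Nat.card φ.ker) := by rw [← hE, mul_assoc]
      _ = 2 * ((q - 1) * q ^ (2 * l + 1)) := by rw [h]
      _ = (q - 1) * q ^ l * (2 * q ^ (l + 1)) := by rw [show 2 * l + 1 = l + (l + 1) by omega, pow_add]; ring
  rw [← hker]
  exact Nat.card_congr
    { toFun := fun g => ⟨⟨g.1, g.2.1⟩, Units.ext g.2.2⟩
      invFun := fun g => ⟨g.1.1, g.1.2, congrArg Units.val (MonoidHom.mem_ker.mp g.2) ⟩
      left_inv := fun _ => rfl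
      right_inv := fun _ => rfl }

theorem exists_data [Fintype F] (h2 : (2 : F) ≠ 0) {l : ℕ} {u : Mat (l + 1) F} (hu : u ∈ symplecticGroup (Fin (l + 1)) F)
    (hnil : (u - 1) ^ (2 * (l + 1)) = 0) (hreg : (u - 1).rank = 2 * (l + 1) - 1) :
    ∃ D : RegData (l + 1) (2 * l + 1) F, u * (1 - D.c) = 1 + D.c ∧ ∀ M, Commute M u ↔ Commute M D.c := by
  obtain ⟨c, hc, hcn, hcr, hrel⟩ := exists_cayley h2 ((mem_iff_adj u).mp hu) hnil
  have hn : c ^ (2 * l + 1 + 1) = 0 := by rw [show 2 * l + 1 + 1 = 2 * (l + 1) by omega]; exact hcn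
  have hd : Fintype.card (Idx (l + 1)) = 2 * l + 1 + 1 := by simp; omega
  obtain ⟨v, hv⟩ := exists_vec c hd hn (by rw [hcr, hreg]; omega)
  exact ⟨⟨c, v, hc, hn, hv, hd⟩, hrel, fun M => commute_iff_cayley h2 hnil hcn hrel⟩

end Cfsg.Agent.H56.SympRegular
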